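import Cfsg.Prelude.Def_JComponents
import Cfsg.Agent.Lib.CharP.Basic
import Cfsg.Agent.Lib.CharP.PCore
import Cfsg.Agent.Lib.PLocal.Thompson

/-!
Elementary theory of `J(T)`-components: if `K` is a `J(T)`-component, `P = O₂(K)`, `W = W_K`, then
`K = P⟨ρ⟩` with `ρ` of order 3 acting fixed point freely on the four-group `W`, `J = J(T)` fixes
exactly one involution of `W`, and `Ω₁(Z(J))` splits over `W`.
-/

set_option autoImplicit false
open Cfsg CfsgLib.PLocal
open scoped commutatorElement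

namespace CfsgLib.JComp

variable {G : Type*} [Group G]

theorem isEA_sup {A B : Subgroup G} (hA : IsElementaryAbelian 2 A) (hB : IsElementaryAbelian 2 B)
    (hAB : ∀ a ∈ A, ∀ b ∈ B, a * b = b * a) : IsElementaryAbelian 2 (A ⊔ B) := by
  obtain ⟨hA1, hA2⟩ := hA
  obtain ⟨hB1, hB2⟩ := hB
  have hle : A ≤ Subgroup.normalizer (B : Set G) := by
    refine le_trans (fun a ha => ?_) (Subgroup.centralizer_le_normalizer _)
    exact Subgroup.mem_centralizer_iff.mpr fun b hb => (hAB a ha b hb).symm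
  have hmem : ∀ x ∈ A ⊔ B, ∃ a ∈ A, ∃ b ∈ B, a * b = x := by
    intro x hx
    rw [← SetLike.mem_coe, Subgroup.coe_mul_of_left_le_normalizer_right A B hle] at hx
    exact hx
  have cA : ∀ a ∈ A, ∀ a' ∈ A, a * a' = a' * a := fun a ha a' ha' =>
    congrArg Subtype.val (hA1.is_comm.comm ⟨a, ha⟩ ⟨a', ha'⟩)
  have cB : ∀ a ∈ B, ∀ a' ∈ B, a * a' = a' * a := fun a ha a' ha' =>
    congrArg Subtype.val (hB1.is_comm.comm ⟨a, ha⟩ ⟨a', ha'⟩)
  refine ⟨⟨⟨fun x y => Subtype.ext ?_⟩⟩, fun x hx => ?_⟩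
  · obtain ⟨a, ha, b, hb, e⟩ := hmem _ x.2
    obtain ⟨a', ha', b', hb', e'⟩ := hmem _ y.2
    show (x : G) * y = y * x
    rw [← e, ← e']
    calc a * b * (a' * b') = a * (b * a') * b' := by group
      _ = a * (a' * b) * b' := by rw [← hAB a' ha' b hb]
      _ = (a * a') * (b * b') := by group
      _ = (a' * a) * (b' * b) := by rw [cA a ha a' ha', cB b hb b' hb']
      _ = a' * (a * b') * b := by group
      _ = a' * (b' * a) * b := by rw [hAB a ha b' hb']
      _ = a' * b' * (a * b) := by group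
  · obtain ⟨a, ha, b, hb, rfl⟩ := hmem x hx
    have h : (a * b) ^ 2 = a ^ 2 * b ^ 2 := Commute.mul_pow (hAB a ha b hb) 2
    rw [h, hA2 a ha, hB2 b hb, one_mul]

theorem isEA_le {A B : Subgroup G} (hB : IsElementaryAbelian 2 B) (h : A ≤ B) :
    IsElementaryAbelian 2 A := by
  obtain ⟨h1, h2⟩ := hB
  refine ⟨⟨⟨fun x y => Subtype.ext ?_⟩⟩, fun a ha => h2 a (h ha)⟩
  have := congrArg Subtype.val (h1.is_comm.comm ⟨x, h x.2⟩ ⟨y, h y.2⟩)
  exact this

theorem eq_of_le_card_le [Finite G] {A B : Subgroup G} (h : A ≤ B) (hc : Nat.card B ≤ Nat.card A) :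
    A = B := by
  apply SetLike.coe_injective
  refine Set.eq_of_subset_of_ncard_le h ?_ (Set.toFinite _)
  rw [← Nat.card_coe_set_eq, ← Nat.card_coe_set_eq]
  exact hc

/-- An element of `X` squaring to one and centralising `J(X)` lies in every elementary abelian
subgroup of largest order of `X`. -/
theorem mem_maxEAIn_of_centralizes [Finite G] {X A : Subgroup G} (hA : A ∈ maxEAIn 2 X) {x : G}
    (hxX : x ∈ X) (hx2 : x ^ 2 = 1) (hxJ : ∀ j ∈ thompsonSubgroupOf 2 X, x * j = j * x) :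
    x ∈ A := by
  obtain ⟨hAX, hAe, hAmax⟩ := hA
  have hAJ : A ≤ thompsonSubgroupOf 2 X := by
    rw [thompsonSubgroupOf_eq]; exact le_sSup ⟨hAX, hAe, hAmax⟩
  have hxe : IsElementaryAbelian 2 (Subgroup.zpowers x) := by
    refine ⟨inferInstance, fun a ha => ?_⟩
    obtain ⟨k, rfl⟩ := Subgroup.mem_zpowers_iff.mp ha
    rw [← zpow_natCast, ← zpow_mul, mul_comm, zpow_mul, zpow_natCast, hx2, one_zpow]
  have hB := isEA_sup hAe hxe fun a ha b hb => by
    obtain ⟨k, rfl⟩ := Subgroup.mem_zpowers_iff.mp hb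
    exact (Commute.zpow_left (hxJ a (hAJ ha)) k).eq.symm
  have heq := eq_of_le_card_le (le_sup_left : A ≤ A ⊔ Subgroup.zpowers x)
    (hAmax _ (sup_le hAX (Subgroup.zpowers_le.mpr hxX)) hB)
  rw [heq]
  exact Subgroup.mem_sup_right (Subgroup.mem_zpowers x)

theorem maxEAIn_conj [Finite G] {X A : Subgroup G} (hA : A ∈ maxEAIn 2 X) {g : G}
    (hg : g ∈ Subgroup.normalizer (X : Set G)) :
    A.map (MulAut.conj g).toMonoidHom ∈ maxEAIn 2 X := by
  obtain ⟨hAX, hAe, hAmax⟩ := hA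
  refine ⟨?_, isEA_map hAe _, fun B hB hBe => ?_⟩
  · rintro y ⟨a, ha, rfl⟩
    exact (Subgroup.mem_normalizer_iff.mp hg a).mp (hAX ha)
  · rw [Subgroup.card_map_of_injective (MulAut.conj g).injective]
    exact hAmax B hB hBe

theorem mem_omegaOne_iff {X : Subgroup G} (hX : ∀ x ∈ X, ∀ y ∈ X, x * y = y * x) {x : G} :
    x ∈ omegaOne 2 X ↔ x ∈ X ∧ x ^ 2 = 1 := by
  refine ⟨fun h => ?_, fun h => Subgroup.subset_closure h⟩
  induction h using Subgroup.closure_induction with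
  | mem y hy => exact hy
  | one => exact ⟨one_mem _, one_pow _⟩
  | mul y z _ _ hy hz =>
    refine ⟨mul_mem hy.1 hz.1, ?_⟩
    rw [Commute.mul_pow (hX y hy.1 z hz.1) 2, hy.2, hz.2, one_mul]
  | inv y _ hy => exact ⟨inv_mem hy.1, by rw [inv_pow, hy.2, inv_one]⟩

theorem mem_omegaCenterOf {X : Subgroup G} {x : G} :
    x ∈ omegaCenterOf X ↔ x ∈ X ∧ (∀ y ∈ X, y * x = x * y) ∧ x ^ 2 = 1 := by
  rw [omegaCenterOf, mem_omegaOne_iff (X := X ⊓ Subgroup.centralizer (X : Set G)) (fun a ha b hb =>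
    Subgroup.mem_centralizer_iff.mp (Subgroup.mem_inf.mp hb).2 a (Subgroup.mem_inf.mp ha).1)]
  rw [Subgroup.mem_inf, Subgroup.mem_centralizer_iff]
  exact ⟨fun h => ⟨h.1.1, h.1.2, h.2⟩, fun h => ⟨⟨h.1, h.2.1⟩, h.2.2⟩⟩

section component

variable [Finite G] {T K : Subgroup G}

theorem thompson_le_normalizer (hK : IsJComponent T K) :
    thompsonSubgroupOf 2 T ≤ Subgroup.normalizer (K : Set G) := by
  have h := Subgroup.normalizer_commutator_ge_right K (thompsonSubgroupOf 2 T)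
  rwa [hK.2.1] at h

theorem pCoreOf_le (K : Subgroup G) : pCoreOf 2 K ≤ K := Subgroup.map_subtype_le _

theorem pCoreOf_isPGroup (K : Subgroup G) : IsPGroup 2 (pCoreOf 2 K) :=
  CfsgLib.CharP.pCore_isPGroup'.map _

omit [Finite G] in
theorem normalizer_le_normalizer_map_of_characteristic (K : Subgroup G) (C : Subgroup K)
    [hC : C.Characteristic] :
    Subgroup.normalizer (K : Set G) ≤ Subgroup.normalizer ((C.map K.subtype : Subgroup G) : Set G) := by
  have key : ∀ g ∈ Subgroup.normalizer (K : Set G), ∀ y ∈ C.map K.subtype,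
      g * y * g⁻¹ ∈ C.map K.subtype := by
    rintro g hg y ⟨c, hc, rfl⟩
    have h := hC.fixed (K.normalizerMonoidHom ⟨g, hg⟩)
    refine ⟨K.normalizerMonoidHom ⟨g, hg⟩ c, ?_, rfl⟩
    rw [← h] at hc
    exact hc
  intro g hg
  rw [Subgroup.mem_normalizer_iff]
  refine fun y => ⟨key g hg y, fun hy => ?_⟩
  have := key g⁻¹ (inv_mem hg) _ hy
  simpa [mul_assoc] using this

theorem normalizer_le_normalizer_pCoreOf (K : Subgroup G) :
    Subgroup.normalizer (K : Set G) ≤ Subgroup.normalizer (pCoreOf 2 K : Set G) :=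
  @normalizer_le_normalizer_map_of_characteristic G _ K _ CfsgLib.CharP.pCore_characteristic'

theorem conj_mem_omegaCenterOf {X : Subgroup G} {g x : G} (hg : g ∈ Subgroup.normalizer (X : Set G))
    (hx : x ∈ omegaCenterOf X) : g * x * g⁻¹ ∈ omegaCenterOf X := by
  rw [mem_omegaCenterOf] at hx ⊢
  refine ⟨(Subgroup.mem_normalizer_iff.mp hg x).mp hx.1, fun y hy => ?_, by rw [conj_pow, hx.2.2]; group⟩
  have h1 := hx.2.1 _ ((Subgroup.mem_normalizer_iff''.mp hg y).mp hy)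
  calc y * (g * x * g⁻¹) = g * (g⁻¹ * y * g * x) * g⁻¹ := by group
    _ = g * (x * (g⁻¹ * y * g)) * g⁻¹ := by rw [h1]
    _ = g * x * g⁻¹ * y := by group

theorem wOf_le_omegaCenter (K : Subgroup G) : wOf K ≤ omegaCenterOf (pCoreOf 2 K) := by
  rw [wOf, Subgroup.commutator_le]
  intro v hv k hk
  have hk' : k ∈ Subgroup.normalizer (pCoreOf 2 K : Set G) :=
    normalizer_le_normalizer_pCoreOf K (Subgroup.le_normalizer hk)
  rw [commutatorElement_def]
  have h1 := conj_mem_omegaCenterOf hk' (inv_mem hv)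
  have h2 : v * k * v⁻¹ * k⁻¹ = v * (k * v⁻¹ * k⁻¹) := by group
  rw [h2]
  exact mul_mem hv h1

theorem wOf_le_pCoreOf (K : Subgroup G) : wOf K ≤ pCoreOf 2 K :=
  fun _ hx => (mem_omegaCenterOf.mp (wOf_le_omegaCenter K hx)).1

theorem wOf_central {K : Subgroup G} {w : G} (hw : w ∈ wOf K) {y : G} (hy : y ∈ pCoreOf 2 K) :
    y * w = w * y :=
  (mem_omegaCenterOf.mp (wOf_le_omegaCenter K hw)).2.1 y hy

theorem normalizer_le_normalizer_wOf (K : Subgroup G) :
    Subgroup.normalizer (K : Set G) ≤ Subgroup.normalizer (wOf K : Set G) := by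
  have key : ∀ g ∈ Subgroup.normalizer (K : Set G), ∀ w ∈ wOf K, g * w * g⁻¹ ∈ wOf K := by
    intro g hg w hw
    rw [wOf, Subgroup.commutator_def] at hw
    induction hw using Subgroup.closure_induction with
    | mem x hx =>
      obtain ⟨v, hv, k, hk, rfl⟩ := hx
      have h1 : g * ⁅v, k⁆ * g⁻¹ = ⁅g * v * g⁻¹, g * k * g⁻¹⁆ := by
        simp only [commutatorElement_def]; group
      rw [h1]
      exact Subgroup.commutator_mem_commutator
        (conj_mem_omegaCenterOf (normalizer_le_normalizer_pCoreOf K hg) hv)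
        ((Subgroup.mem_normalizer_iff.mp hg k).mp hk)
    | one => simp
    | mul u v _ _ hu hv =>
      have h1 : g * (u * v) * g⁻¹ = (g * u * g⁻¹) * (g * v * g⁻¹) := by group
      rw [h1]; exact mul_mem hu hv
    | inv u _ hu =>
      have h1 : g * u⁻¹ * g⁻¹ = (g * u * g⁻¹)⁻¹ := by group
      rw [h1]; exact inv_mem hu
  intro g hg
  rw [Subgroup.mem_normalizer_iff]
  refine fun y => ⟨key g hg y, fun hy => ?_⟩
  have := key g⁻¹ (inv_mem hg) _ hy
  simpa [mul_assoc] using this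

theorem mem_pCoreOf_of_two_group (hK : IsJComponent T K) {X : Subgroup G} (hX : IsPGroup 2 X)
    (hXK : X ≤ K) : X ≤ pCoreOf 2 K := by
  intro x hx
  haveI := CfsgLib.CharP.pCore_normal' (G := ↥K) (p := 2)
  obtain ⟨a, ha⟩ := hX ⟨x, hx⟩
  have ha' : (⟨x, hXK hx⟩ : ↥K) ^ 2 ^ a = 1 :=
    Subtype.ext (by simpa using congrArg Subtype.val ha)
  have h3 : (⟨x, hXK hx⟩ : ↥K) ^ 3 ∈ pCore 2 ↥K := by
    have h := Subgroup.pow_index_mem (pCore 2 ↥K) ⟨x, hXK hx⟩
    have hi : (pCore 2 ↥K).index = 3 := by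
      have := hK.2.2.1
      rwa [Subgroup.relIndex, pCoreOf, Subgroup.subgroupOf,
        Subgroup.comap_map_eq_self_of_injective K.subtype_injective] at this
    rwa [hi] at h
  refine ⟨⟨x, hXK hx⟩, ?_, rfl⟩
  have hco : Nat.Coprime 3 (orderOf (⟨x, hXK hx⟩ : ↥K)) :=
    Nat.Coprime.of_dvd_right (orderOf_dvd_of_pow_eq_one ha') (Nat.Coprime.pow_right _ (by norm_num))
  obtain ⟨m, hm⟩ := exists_pow_eq_self_of_coprime hco
  rw [← hm]
  exact pow_mem h3 m

theorem exists_rho (hK : IsJComponent T K) :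
    ∃ ρ ∈ K, orderOf ρ = 3 ∧ ρ ∉ pCoreOf 2 K ∧
      ∀ k ∈ K, ∃ y ∈ pCoreOf 2 K, ∃ m : ℕ, k = y * ρ ^ m := by
  haveI := CfsgLib.CharP.pCore_normal' (G := ↥K) (p := 2)
  have hi : (pCore 2 ↥K).index = 3 := by
    have := hK.2.2.1
    rwa [Subgroup.relIndex, pCoreOf, Subgroup.subgroupOf,
      Subgroup.comap_map_eq_self_of_injective K.subtype_injective] at this
  obtain ⟨x, hxK, hxo, hxP⟩ : ∃ x, x ∈ K ∧ Odd (orderOf x) ∧ x ∉ pCoreOf 2 K := by
    by_contra hall
    push Not at hall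
    have hle : K ≤ pCoreOf 2 K := by
      conv_lhs => rw [← hK.1]
      rw [Subgroup.closure_le]
      exact fun x hx => hall x hx.1 hx.2
    have := hK.2.2.1
    rw [Subgroup.relIndex_eq_one.mpr hle] at this
    omega
  have hxmem : (⟨x, hxK⟩ : ↥K) ∉ pCore 2 ↥K := fun h => hxP ⟨_, h, rfl⟩
  have h3 : (⟨x, hxK⟩ : ↥K) ^ 3 = 1 := by
    have h := Subgroup.pow_index_mem (pCore 2 ↥K) ⟨x, hxK⟩
    rw [hi] at h
    obtain ⟨a, ha⟩ := (CfsgLib.CharP.pCore_isPGroup' (G := ↥K) (p := 2)) ⟨_, h⟩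
    have ha' : ((⟨x, hxK⟩ : ↥K) ^ 3) ^ 2 ^ a = 1 := congrArg Subtype.val ha
    rw [← pow_mul, ← orderOf_dvd_iff_pow_eq_one, Subgroup.orderOf_mk] at ha'
    have hco : Nat.Coprime (orderOf x) (2 ^ a) := Nat.Coprime.pow_right _ hxo.coprime_two_right
    rw [← orderOf_dvd_iff_pow_eq_one, Subgroup.orderOf_mk]
    exact hco.dvd_of_dvd_mul_right ha'
  haveI : Fact (Nat.Prime 3) := ⟨Nat.prime_three⟩
  refine ⟨x, hxK, ?_, hxP, fun k hk => ?_⟩
  · rw [← Subgroup.orderOf_mk x hxK]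
    exact orderOf_eq_prime h3 fun h => hxmem (by rw [h]; exact one_mem _)
  · have hq : Nat.card (↥K ⧸ pCore 2 ↥K) = 3 := by rw [← Subgroup.index_eq_card, hi]
    have hne : ((⟨x, hxK⟩ : ↥K) : ↥K ⧸ pCore 2 ↥K) ≠ 1 := by
      rwa [Ne, QuotientGroup.eq_one_iff]
    obtain ⟨m, hm⟩ := (mem_powers_iff_mem_zpowers.mpr (mem_zpowers_of_prime_card hq hne
      (g' := ((⟨k, hk⟩ : ↥K) : ↥K ⧸ pCore 2 ↥K))) : _ ∈ Submonoid.powers _)
    simp only at hm
    refine ⟨k * (x ^ m)⁻¹, ⟨⟨k, hk⟩ * ((⟨x, hxK⟩ : ↥K) ^ m)⁻¹, ?_, by simp⟩, m, by group⟩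
    rw [SetLike.mem_coe, ← QuotientGroup.eq_one_iff, QuotientGroup.mk_mul, QuotientGroup.mk_inv,
      QuotientGroup.mk_pow, hm, mul_inv_cancel]

theorem eq_one_of_wOf_fixed (hK : IsJComponent T K) {ρ : G} (hρK : ρ ∈ K) (ho : orderOf ρ = 3)
    (hgen : ∀ k ∈ K, ∃ y ∈ pCoreOf 2 K, ∃ m : ℕ, k = y * ρ ^ m)
    {w : G} (hw : w ∈ wOf K) (hfix : ρ * w * ρ⁻¹ = w) : w = 1 := by
  classical
  by_contra hw1
  have hρW := normalizer_le_normalizer_wOf K (Subgroup.le_normalizer hρK)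
  have hρ3 : ρ ^ 3 = 1 := by rw [← ho, pow_orderOf_eq_one]
  have hρ3' : ρ * ρ * ρ = 1 := by rw [← hρ3, pow_succ, pow_two]
  have hconj : ∀ x y : G, ρ * (x * y) * ρ⁻¹ = (ρ * x * ρ⁻¹) * (ρ * y * ρ⁻¹) := fun x y => by group
  -- `ρ` centralises `W`
  have hall : ∀ u ∈ wOf K, ρ * u * ρ⁻¹ = u := by
    intro u hu
    by_contra hne
    set v := ρ * u * ρ⁻¹ with hv
    set v' := ρ * v * ρ⁻¹ with hv'
    have hvW : v ∈ wOf K := (Subgroup.mem_normalizer_iff.mp hρW u).mp hu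
    have hvW' : v' ∈ wOf K := (Subgroup.mem_normalizer_iff.mp hρW v).mp hvW
    have h3 : ρ * v' * ρ⁻¹ = u := by
      have h : ρ * v' * ρ⁻¹ = (ρ * ρ * ρ) * u * (ρ * ρ * ρ)⁻¹ := by rw [hv', hv]; group
      rw [h, hρ3']; group
    have hinj : ∀ a b : G, ρ * a * ρ⁻¹ = ρ * b * ρ⁻¹ → a = b := fun a b h => (MulAut.conj ρ).injective h
    have huw : u ≠ w := fun h => hne (by rw [hv, h, hfix])
    have hu1 : u ≠ 1 := fun h => hne (by rw [hv, h]; group)
    have hvw : v ≠ w := fun h => huw (hinj _ _ (by rw [← hv, h, hfix]))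
    have hv1 : v ≠ 1 := fun h => hu1 (hinj _ _ (by rw [← hv, h]; group))
    have hvw' : v' ≠ w := fun h => hvw (hinj _ _ (by rw [← hv', h, hfix]))
    have hv1' : v' ≠ 1 := fun h => hv1 (hinj _ _ (by rw [← hv', h]; group))
    have hvv : v' ≠ v := fun h => hne (hinj _ _ (by rw [← hv', h]))
    have hv'u : v' ≠ u := fun h => hne (by
      have h4 := h3
      rw [h] at h4
      exact h4)
    have hsub : ({1, w, u, v, v'} : Finset G) ⊆ (wOf K : Set G).toFinite.toFinset := by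
      intro y hy
      simp only [Finset.mem_insert, Finset.mem_singleton] at hy
      rw [Set.Finite.mem_toFinset]
      rcases hy with rfl | rfl | rfl | rfl | rfl
      · exact one_mem _
      · exact hw
      · exact hu
      · exact hvW
      · exact hvW'
    have hcard := Finset.card_le_card hsub
    have h4 : (wOf K : Set G).toFinite.toFinset.card = 4 := by
      rw [← Set.ncard_eq_toFinset_card _ (wOf K : Set G).toFinite, ← Nat.card_coe_set_eq]
      exact hK.2.2.2.2.1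
    rw [h4] at hcard
    have : ({1, w, u, v, v'} : Finset G).card = 5 := by
      simp [Finset.card_insert_of_notMem, Ne.symm hw1, Ne.symm hu1, Ne.symm hv1, Ne.symm hv1',
        Ne.symm huw, Ne.symm hvw, Ne.symm hvw', Ne.symm hne, Ne.symm hv'u, Ne.symm hvv]
    omega
  -- hence `W` is trivial
  have hbot : wOf K = ⊥ := by
    rw [eq_bot_iff, wOf, Subgroup.commutator_le]
    intro v hv k hk
    have hρP := normalizer_le_normalizer_pCoreOf K (Subgroup.le_normalizer hρK)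
    set d := v⁻¹ * (ρ * v * ρ⁻¹) with hd
    have hdW : d ∈ wOf K := by
      rw [hd]
      have h : v⁻¹ * (ρ * v * ρ⁻¹) = ⁅v⁻¹, ρ⁆ := by simp only [commutatorElement_def]; group
      rw [h]
      exact Subgroup.commutator_mem_commutator (inv_mem hv) hρK
    have hd2 : d * d = 1 := hK.2.2.2.2.2 d hdW
    have h1 : ρ * v * ρ⁻¹ = v * d := by rw [hd]; group
    have hfd := hall d hdW
    have hd3 : d * d * d = 1 := by
      have h : (ρ * ρ * ρ) * v * (ρ * ρ * ρ)⁻¹ = v * (d * d * d) := by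
        calc (ρ * ρ * ρ) * v * (ρ * ρ * ρ)⁻¹ = ρ * (ρ * (ρ * v * ρ⁻¹) * ρ⁻¹) * ρ⁻¹ := by group
          _ = ρ * (v * d * d) * ρ⁻¹ := by rw [h1, hconj v d, h1, hfd]
          _ = v * (d * d * d) := by rw [hconj (v * d) d, hconj v d, h1, hfd]; group
      rw [hρ3'] at h
      simpa using h
    have hd1 : d = 1 := by rwa [hd2, one_mul] at hd3
    rw [hd1, mul_one] at h1
    obtain ⟨y, hy, m, rfl⟩ := hgen k hk
    have hc1 : Commute ρ v := by
      show ρ * v = v * ρ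
      calc ρ * v = ρ * v * ρ⁻¹ * ρ := by group
        _ = v * ρ := by rw [h1]
    have hc2 : Commute y v := (mem_omegaCenterOf.mp hv).2.1 y hy
    rw [Subgroup.mem_bot, commutatorElement_eq_one_iff_mul_comm]
    exact (hc2.mul_left (hc1.pow_left m)).eq.symm
  have := hK.2.2.2.2.1
  rw [hbot, Subgroup.card_bot] at this
  omega

/-- `J(T)` does not centralise `W_K`. -/
theorem not_thompson_le_centralizer (hK : IsJComponent T K) :
    ¬ thompsonSubgroupOf 2 T ≤ Subgroup.centralizer (wOf K : Set G) := by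
  intro hJ
  obtain ⟨ρ, hρK, ho, -, hgen⟩ := exists_rho hK
  have h1 : ⁅⁅thompsonSubgroupOf 2 T, wOf K⁆, K⁆ = ⊥ := by
    rw [Subgroup.commutator_eq_bot_iff_le_centralizer.mpr hJ, Subgroup.commutator_bot_left]
  have h2 : ⁅⁅wOf K, K⁆, thompsonSubgroupOf 2 T⁆ = ⊥ := by
    rw [eq_bot_iff]
    refine le_trans (Subgroup.commutator_mono (K₁ := wOf K) ?_ le_rfl) ?_
    · exact Subgroup.le_normalizer_iff_commutator_le_left.mp
        (Subgroup.le_normalizer.trans (normalizer_le_normalizer_wOf K))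
    · rw [Subgroup.commutator_comm, Subgroup.commutator_eq_bot_iff_le_centralizer.mpr hJ]
  have h3 := Subgroup.commutator_commutator_eq_bot_of_rotate h1 h2 (H₁ := K)
  rw [hK.2.1, Subgroup.commutator_eq_bot_iff_le_centralizer] at h3
  have hall : ∀ w ∈ wOf K, w = 1 := fun w hw => by
    refine eq_one_of_wOf_fixed hK hρK ho hgen hw ?_
    rw [← Subgroup.mem_centralizer_iff.mp (h3 hρK) w hw, mul_inv_cancel_right]
  have := hK.2.2.2.2.1
  rw [(Subgroup.eq_bot_iff_forall _).mpr hall, Subgroup.card_bot] at this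
  omega

end component

end CfsgLib.JComp
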