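import Mathlib.GroupTheory.PGroup
import Mathlib.GroupTheory.Index
import Mathlib.GroupTheory.QuotientGroup.Basic
import Mathlib.Data.Int.Order.Units
import Mathlib.Algebra.Group.Subgroup.Pointwise
import Mathlib.Tactic.Group
import Mathlib.Tactic.IntervalCases
import Mathlib.Tactic.Linarith

/-!
A group of exponent 2 with a fixed point free automorphism of order 3, an inverting involution and a
2-group `B` commuting with both has order at most 4 when the offender inequalities hold.
-/

set_option autoImplicit false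

namespace CfsgLib.JComp.Bound

variable {D : Type*} [CommGroup D]

/-- Fixed points of an automorphism. -/
def fixedOf (α : MulAut D) : Subgroup D where
  carrier := {x | α x = x}
  one_mem' := map_one α
  mul_mem' := fun {a b} (ha : α a = a) (hb : α b = b) => show α (a * b) = a * b by rw [map_mul, ha, hb]
  inv_mem' := fun {a} (ha : α a = a) => show α a⁻¹ = a⁻¹ by rw [map_inv, ha]

@[simp] theorem mem_fixedOf {α : MulAut D} {x : D} : x ∈ fixedOf α ↔ α x = x := Iff.rfl

/-- Common fixed points. -/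
def fixedAll (B : Subgroup (MulAut D)) : Subgroup D := ⨅ b : B, fixedOf (b : MulAut D)

@[simp] theorem mem_fixedAll {B : Subgroup (MulAut D)} {x : D} :
    x ∈ fixedAll B ↔ ∀ b ∈ B, b x = x := by
  simp [fixedAll, Subgroup.mem_iInf]

variable [Finite D]

/-- Homomorphisms to `ℤˣ` prescribed on `U` are at most `|D : U|` many. -/
theorem card_le_of_agree (hD : ∀ d : D, d * d = 1) {ι : Type*} [Finite ι] (g : ι → D →* ℤˣ)
    (hg : Function.Injective g) (U : Subgroup D) (hU : ∀ i j, ∀ u ∈ U, g i u = g j u) :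
    Nat.card ι * Nat.card U ≤ Nat.card D := by
  classical
  induction hn : U.index using Nat.strong_induction_on generalizing U ι with
  | _ n ih =>
    by_cases hU' : U = ⊤
    · have : Subsingleton ι := ⟨fun i j => hg (MonoidHom.ext fun x => hU i j x (hU' ▸ Subgroup.mem_top x))⟩
      calc Nat.card ι * Nat.card U ≤ 1 * Nat.card U := Nat.mul_le_mul_right _ (Finite.card_le_one_iff_subsingleton.mpr this)
        _ ≤ Nat.card D := by rw [one_mul, hU']; simp
    obtain ⟨x, hx⟩ : ∃ x, x ∉ U := by
      by_contra hall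
      push Not at hall
      exact hU' ((Subgroup.eq_top_iff' U).mpr hall)
    set U' := U ⊔ Subgroup.zpowers x with hU''
    have hlt : U < U' := lt_of_le_of_ne le_sup_left fun h => hx (h.symm ▸ Subgroup.mem_sup_right (Subgroup.mem_zpowers x))
    have hidx : U'.index < n := by
      rw [← hn, ← Subgroup.relIndex_mul_index hlt.le]
      have h1 : 1 < U.relIndex U' := by
        have h0 : U.relIndex U' ≠ 0 := Subgroup.index_ne_zero_of_finite
        by_contra hc
        exact hlt.not_ge (Subgroup.relIndex_eq_one.mp (by omega))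
      have h2 : 0 < U'.index := Nat.pos_of_ne_zero Subgroup.index_ne_zero_of_finite
      nlinarith
    have hcard : Nat.card U' = 2 * Nat.card U := by
      have h1 : U.relIndex U' = 2 := by
        rw [Subgroup.relIndex, Subgroup.index_eq_two_iff]
        refine ⟨⟨x, Subgroup.mem_sup_right (Subgroup.mem_zpowers x)⟩, fun y => ?_⟩
        obtain ⟨u, hu, z, hz, huz⟩ := Subgroup.mem_sup.mp y.2
        obtain ⟨k, rfl⟩ := Subgroup.mem_zpowers_iff.mp hz
        rcases Int.even_or_odd' k with ⟨m, rfl | rfl⟩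
        · right
          have he : x ^ (2 * m) = 1 := by rw [zpow_mul, zpow_two, hD, one_zpow]
          rw [he, mul_one] at huz
          refine ⟨?_, ?_⟩
          · rw [Subgroup.mem_subgroupOf, ← huz]; exact hu
          · rw [Subgroup.mem_subgroupOf, Subgroup.coe_mul, ← huz]
            exact fun h => hx (by simpa using U.mul_mem (U.inv_mem hu) h)
        · left
          have he : x ^ (2 * m + 1) = x := by rw [zpow_add_one, zpow_mul, zpow_two, hD, one_zpow, one_mul]
          rw [he] at huz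
          refine ⟨?_, ?_⟩
          · rw [Subgroup.mem_subgroupOf, Subgroup.coe_mul, ← huz, mul_assoc, hD, mul_one]
            exact hu
          · rw [Subgroup.mem_subgroupOf, ← huz]
            exact fun h => hx (by simpa using U.mul_mem (U.inv_mem hu) h)
      rw [← Subgroup.relIndex_bot_left, ← Subgroup.relIndex_bot_left,
        ← Subgroup.relIndex_mul_relIndex _ _ _ bot_le hlt.le, h1, mul_comm]
    -- split the family by the value at `x`
    have hsplit : ∀ e : ℤˣ, Nat.card {i // g i x = e} * Nat.card U' ≤ Nat.card D := fun e => by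
      refine ih _ hidx (fun i : {i // g i x = e} => g i.1) (fun a b h => Subtype.ext (hg h)) U' ?_ rfl
      intro i j u hu
      obtain ⟨u₁, hu₁, z, hz, rfl⟩ := Subgroup.mem_sup.mp hu
      obtain ⟨k, rfl⟩ := Subgroup.mem_zpowers_iff.mp hz
      rw [map_mul, map_mul, map_zpow, map_zpow, hU i.1 j.1 u₁ hu₁, i.2, j.2]
    have hcov : Nat.card ι ≤ Nat.card {i // g i x = 1} + Nat.card {i // g i x = -1} := by
      rw [← Nat.card_sum]
      refine Nat.card_le_card_of_injective
        (fun i => if h : g i x = 1 then Sum.inl ⟨i, h⟩ else Sum.inr ⟨i, (Int.units_eq_one_or _).resolve_left h⟩) ?_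
      intro a b hab
      simp only at hab
      split at hab <;> split at hab <;> simp_all
    have h1 := hsplit 1
    have h2 := hsplit (-1)
    rw [hcard] at h1 h2
    nlinarith [Nat.mul_le_mul_right (Nat.card U) hcov]

/-- A subgroup invariant under a fixed point free `σ` of order 3 and an involution inverting it. -/
theorem card_fixed_sq (hD : ∀ d : D, d * d = 1) {σ τ : MulAut D} (hσ : σ ^ 3 = 1)
    (hfpf : ∀ d, σ d = d → d = 1) (hτ : τ * τ = 1) (hinv : τ * σ * τ⁻¹ = σ⁻¹) (M : Subgroup D)
    (hσM : ∀ m ∈ M, σ m ∈ M) (hτM : ∀ m ∈ M, τ m ∈ M) :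
    Nat.card ↥(M ⊓ fixedOf τ) * Nat.card ↥(M ⊓ fixedOf τ) = Nat.card M := by
  apply le_antisymm
  · rw [← Nat.card_prod]
    refine Nat.card_le_card_of_injective
      (fun p : ↥(M ⊓ fixedOf τ) × ↥(M ⊓ fixedOf τ) =>
        (⟨(p.1 : D) * σ (p.2 : D), mul_mem p.1.2.1 (hσM _ p.2.2.1)⟩ : M)) ?_
    intro p q h
    have h' : (p.1 : D) * σ p.2 = (q.1 : D) * σ q.2 := congrArg Subtype.val h
    set y : D := (p.2 : D) * (q.2 : D)⁻¹ with hy
    have hσy : σ y = (q.1 : D) * (p.1 : D)⁻¹ := by
      rw [hy, map_mul, map_inv, ← div_eq_mul_inv, ← div_eq_mul_inv, div_eq_div_iff_mul_eq_mul,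
        mul_comm (σ (p.2 : D)), h']
    have hy1 : τ y = y := by rw [hy, map_mul, map_inv, p.2.2.2, q.2.2.2]
    have hσy1 : τ (σ y) = σ y := by rw [hσy, map_mul, map_inv, q.1.2.2, p.1.2.2]
    have h1 : σ (σ y) = y := by
      have h2 : (τ * σ) y = (σ⁻¹ * τ) y := by rw [← hinv, inv_mul_cancel_right]
      rw [MulAut.mul_apply, MulAut.mul_apply, hσy1, hy1] at h2
      rw [h2]
      exact σ.apply_symm_apply y
    have h3 : σ y = y := by
      have h4 : (σ ^ 3) y = y := by rw [hσ, MulAut.one_apply]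
      rw [pow_succ', pow_two, MulAut.mul_apply, MulAut.mul_apply, h1] at h4
      exact h4
    have h5 := hfpf y h3
    have hp2 : (p.2 : D) = q.2 := by rw [hy] at h5; exact mul_inv_eq_one.mp h5
    have hp1 : (p.1 : D) = q.1 := by rw [hp2] at h'; exact mul_right_cancel h'
    exact Prod.ext (Subtype.ext hp1) (Subtype.ext hp2)
  · let ψ : M →* D :=
      { toFun := fun m => (m : D) * τ m
        map_one' := by simp
        map_mul' := fun a b => by rw [Subgroup.coe_mul, map_mul, mul_mul_mul_comm] }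
    have hker : Nat.card ψ.ker ≤ Nat.card ↥(M ⊓ fixedOf τ) := by
      refine Nat.card_le_card_of_injective (fun m => ⟨((m : M) : D), (m : M).2, ?_⟩) ?_
      · have h : ((m : M) : D) * τ ((m : M) : D) = 1 := m.2
        show τ _ = _
        rw [eq_inv_of_mul_eq_one_right h, inv_eq_of_mul_eq_one_right (hD _)]
      · intro a b h
        exact Subtype.ext (Subtype.ext (congrArg (fun u : ↥(M ⊓ fixedOf τ) => (u : D)) h))
    have hrange : Nat.card ψ.range ≤ Nat.card ↥(M ⊓ fixedOf τ) := by
      refine Nat.le_of_dvd Nat.card_pos (Subgroup.card_dvd_of_le ?_)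
      rintro _ ⟨m, rfl⟩
      refine ⟨mul_mem m.2 (hτM _ m.2), ?_⟩
      show τ ((m : D) * τ m) = (m : D) * τ m
      rw [map_mul, ← MulAut.mul_apply, hτ, MulAut.one_apply, mul_comm]
    calc Nat.card M = Nat.card ψ.ker * Nat.card ψ.range := by
          rw [← Subgroup.index_ker, Subgroup.card_mul_index]
      _ ≤ _ := Nat.mul_le_mul hker hrange

/-- **The bound.** -/
theorem card_le_four (hD : ∀ d : D, d * d = 1) (σ τ : MulAut D) (B : Subgroup (MulAut D))
    (hσ : σ ^ 3 = 1) (hfpf : ∀ d, σ d = d → d = 1) (hτ : τ * τ = 1) (hinv : τ * σ * τ⁻¹ = σ⁻¹)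
    (hB : IsPGroup 2 B) (hBσ : ∀ b ∈ B, b * σ = σ * b) (hBτ : ∀ b ∈ B, b * τ = τ * b)
    (hBcomm : ∀ a ∈ B, ∀ b ∈ B, a * b = b * a)
    (Y : Subgroup D) (hY : Y ≤ fixedAll B ⊓ fixedOf τ)
    (h1 : Nat.card (fixedAll B) ≤ 2 * Nat.card Y) (h2 : Nat.card D ≤ 2 * Nat.card B * Nat.card Y) :
    Nat.card D ≤ 4 := by
  classical
  haveI : Fact (Nat.Prime 2) := ⟨Nat.prime_two⟩
  by_contra hbig
  push Not at hbig
  have comm_apply : ∀ {a b : MulAut D}, a * b = b * a → ∀ x, a (b x) = b (a x) := fun {a b} h x => by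
    rw [← MulAut.mul_apply, h, MulAut.mul_apply]
  set C := fixedAll B with hC
  have hσC : ∀ m ∈ C, σ m ∈ C := fun m hm => mem_fixedAll.mpr fun b hb => by
    rw [comm_apply (hBσ b hb), mem_fixedAll.mp hm b hb]
  have hτC : ∀ m ∈ C, τ m ∈ C := fun m hm => mem_fixedAll.mpr fun b hb => by
    rw [comm_apply (hBτ b hb), mem_fixedAll.mp hm b hb]
  have hCsq := card_fixed_sq hD hσ hfpf hτ hinv C hσC hτC
  have hYle : Nat.card Y ≤ Nat.card ↥(C ⊓ fixedOf τ) := Nat.le_of_dvd Nat.card_pos (Subgroup.card_dvd_of_le hY)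
  have hc2 : Nat.card ↥(C ⊓ fixedOf τ) ≤ 2 := by
    by_contra hc
    push Not at hc
    have : 3 * Nat.card ↥(C ⊓ fixedOf τ) ≤ Nat.card C := by
      rw [← hCsq]; exact Nat.mul_le_mul_right _ hc
    omega
  -- nontrivial invariant subgroups contain `C`
  have hbig2 : ∀ Z : Subgroup D, (∀ z ∈ Z, σ z ∈ Z) → (∀ b ∈ B, ∀ z ∈ Z, b z ∈ Z) → Z ≠ ⊥ → C ≤ Z := by
    intro Z hσZ hBZ hZ
    letI : MulAction B Z :=
      { smul := fun b z => ⟨(b : MulAut D) z, hBZ b b.2 z z.2⟩
        one_smul := fun z => Subtype.ext rfl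
        mul_smul := fun a b z => Subtype.ext rfl }
    have h1' : (1 : Z) ∈ MulAction.fixedPoints B Z := fun b => Subtype.ext (map_one (b : MulAut D))
    have hd : 2 ∣ Nat.card Z := by
      obtain ⟨z, hz, hz1⟩ := (Subgroup.bot_or_exists_ne_one Z).resolve_left hZ
      have ho : orderOf z = 2 := orderOf_eq_prime (by rw [pow_two]; exact hD z) hz1
      rw [← ho]; exact Subgroup.orderOf_dvd_natCard _ hz
    obtain ⟨⟨x, hxZ⟩, hx, hx1⟩ := hB.exists_fixed_point_of_prime_dvd_card_of_fixed_point Z hd h1'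
    have hx1' : x ≠ 1 := fun h => hx1 (Subtype.ext h).symm
    have hxC : x ∈ C := mem_fixedAll.mpr fun b hb => congrArg Subtype.val (hx ⟨b, hb⟩)
    have hne : σ x ≠ x := fun h => hx1' (hfpf x h)
    have hσx1 : σ x ≠ 1 := fun h => hx1' ((MulEquiv.map_eq_one_iff σ).mp h)
    have hsub : ({1, x, σ x} : Finset D) ⊆ ((C ⊓ Z : Subgroup D) : Set D).toFinite.toFinset := by
      intro y hy
      rw [Set.Finite.mem_toFinset]
      simp only [Finset.mem_insert, Finset.mem_singleton] at hy
      rcases hy with e | e | e <;> rw [e]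
      · exact one_mem _
      · exact ⟨hxC, hxZ⟩
      · exact ⟨hσC x hxC, hσZ x hxZ⟩
    have h3 := Finset.card_le_card hsub
    rw [← Set.ncard_eq_toFinset_card _ (Set.toFinite _), ← Nat.card_coe_set_eq] at h3
    have h33 : ({1, x, σ x} : Finset D).card = 3 := by
      simp [Finset.card_insert_of_notMem, Ne.symm hx1', Ne.symm hσx1, Ne.symm hne]
    rw [h33] at h3
    have hC4 : Nat.card C ≤ 4 := by rw [← hCsq]; exact Nat.mul_le_mul hc2 hc2
    have hdvd : Nat.card ↥(C ⊓ Z) ∣ Nat.card C := Subgroup.card_dvd_of_le inf_le_left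
    obtain ⟨e, he⟩ := hdvd
    have h3' : 3 ≤ Nat.card ↥(C ⊓ Z) := h3
    have he1 : e = 1 := by
      rcases e with _ | _ | e
      · have hp : 0 < Nat.card C := Nat.card_pos
        omega
      · rfl
      · nlinarith
    rw [he1, mul_one] at he
    have h4 : C ⊓ Z = C := Subgroup.eq_of_le_of_card_ge inf_le_left he.le
    exact h4 ▸ inf_le_right
  have hDne : (⊤ : Subgroup D) ≠ ⊥ := by
    intro h
    have h4 : Nat.card (⊤ : Subgroup D) = 1 := by rw [h, Subgroup.card_bot]
    rw [Subgroup.card_top] at h4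
    omega
  -- `C` has order four
  have hC4 : Nat.card C = 4 ∧ Nat.card ↥(C ⊓ fixedOf τ) = 2 := by
    have hne : Nat.card ↥(C ⊓ fixedOf τ) ≠ 1 := by
      intro h
      have hC1 : C = ⊥ := by rw [← Subgroup.card_eq_one, ← hCsq, h]
      have h4 : Nat.card Y = 1 := by
        have hpos : 0 < Nat.card Y := Nat.card_pos
        omega
      have hBbot : ∀ z : D, z ≠ 1 → False := by
        intro z hz
        letI : MulAction B D :=
          { smul := fun b z => (b : MulAut D) z
            one_smul := fun z => rfl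
            mul_smul := fun a b z => rfl }
        have h1' : (1 : D) ∈ MulAction.fixedPoints B D := fun b => map_one (b : MulAut D)
        have hd : 2 ∣ Nat.card D := by
          have ho : orderOf z = 2 := orderOf_eq_prime (by rw [pow_two]; exact hD z) hz
          rw [← ho]; exact orderOf_dvd_natCard _
        obtain ⟨x, hx, hx1⟩ := hB.exists_fixed_point_of_prime_dvd_card_of_fixed_point D hd h1'
        have hxC : x ∈ C := mem_fixedAll.mpr fun b hb => hx ⟨b, hb⟩
        rw [hC1] at hxC
        exact hx1 hxC.symm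
      obtain ⟨z, -, hz⟩ := (Subgroup.bot_or_exists_ne_one (⊤ : Subgroup D)).resolve_left hDne
      exact hBbot z hz
    have hpos : 0 < Nat.card ↥(C ⊓ fixedOf τ) := Nat.card_pos
    have h2' : Nat.card ↥(C ⊓ fixedOf τ) = 2 := by omega
    exact ⟨by rw [← hCsq, h2'], h2'⟩
  set U := fixedOf τ with hU
  have hUsq : Nat.card U * Nat.card U = Nat.card D := by
    have h := card_fixed_sq hD hσ hfpf hτ hinv (⊤ : Subgroup D) (fun _ _ => trivial) (fun _ _ => trivial)
    rwa [top_inf_eq, Subgroup.card_top] at h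
  obtain ⟨e, heC, heU⟩ : ∃ e ∈ C, e ∉ U := by
    by_contra hall
    push Not at hall
    rw [show C ⊓ U = C from inf_eq_left.mpr hall] at hC4
    omega
  -- a functional
  haveI : Finite (Subgroup D) := Finite.of_injective (fun M : Subgroup D => (M : Set D)) SetLike.coe_injective
  obtain ⟨M, hM⟩ := Set.toFinite {M : Subgroup D | U ≤ M ∧ e ∉ M} |>.exists_maximal ⟨U, le_rfl, heU⟩
  obtain ⟨⟨hUM, heM⟩, hmax⟩ := hM
  have hcompl : ∀ x, x ∉ M → x * e ∈ M := by
    intro x hx
    have hlt : M < M ⊔ Subgroup.zpowers x :=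
      lt_of_le_of_ne le_sup_left fun h => hx (h.symm ▸ Subgroup.mem_sup_right (Subgroup.mem_zpowers x))
    have he : e ∈ M ⊔ Subgroup.zpowers x := by
      by_contra he
      exact hlt.not_ge (hmax ⟨hUM.trans le_sup_left, he⟩ hlt.le)
    obtain ⟨m, hm, z, hz, hmz⟩ := Subgroup.mem_sup.mp he
    obtain ⟨k, rfl⟩ := Subgroup.mem_zpowers_iff.mp hz
    rcases Int.even_or_odd' k with ⟨j, rfl | rfl⟩
    · rw [zpow_mul, zpow_two, hD, one_zpow, mul_one] at hmz
      exact absurd (hmz ▸ hm) heM
    · rw [zpow_add_one, zpow_mul, zpow_two, hD, one_zpow, one_mul] at hmz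
      rw [← hmz, mul_left_comm, hD, mul_one]
      exact hm
  let f : D →* ℤˣ :=
    { toFun := fun x => if x ∈ M then 1 else -1
      map_one' := by simp
      map_mul' := fun a b => by
        by_cases ha : a ∈ M
        · by_cases hb : b ∈ M
          · simp [ha, hb, mul_mem ha hb]
          · have : a * b ∉ M := fun h => hb (by simpa using M.mul_mem (M.inv_mem ha) h)
            simp [ha, hb, this]
        · by_cases hb : b ∈ M
          · have : a * b ∉ M := fun h => ha (by simpa using M.mul_mem h (M.inv_mem hb))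
            simp [ha, hb, this]
          · have h1 := mul_mem (hcompl a ha) (hcompl b hb)
            rw [mul_mul_mul_comm, hD, mul_one] at h1
            simp [ha, hb, h1] }
  have hfU : ∀ x ∈ U, f x = 1 := fun x hx => by simp [f, hUM hx]
  have hfe : f e = -1 := by simp [f, heM]
  have hinjf : Function.Injective fun b : B => f.comp (b : MulAut D).toMonoidHom := by
    intro a b hab
    set c : MulAut D := (a : MulAut D)⁻¹ * (b : MulAut D) with hc
    have hcB : c ∈ B := mul_mem (inv_mem a.2) b.2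
    have hfc : ∀ x, f ((a : MulAut D) (c x)) = f ((a : MulAut D) x) := by
      intro x
      have h := (DFunLike.congr_fun hab x).symm
      have h2 : (a : MulAut D) (c x) = (b : MulAut D) x := by rw [← MulAut.mul_apply, hc, mul_inv_cancel_left]
      rw [h2]
      exact h
    -- the largest invariant subgroup of `ker f`
    let Z : Subgroup D :=
      { carrier := {d | ∀ i : ℕ, ∀ b' ∈ B, f (b' ((σ ^ i) d)) = 1}
        one_mem' := fun i b' _ => by simp
        mul_mem' := fun {p q} hp hq i b' hb' => by rw [map_mul, map_mul, map_mul, hp i b' hb', hq i b' hb', one_mul]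
        inv_mem' := fun {p} hp i b' hb' => by rw [map_inv, map_inv, map_inv, hp i b' hb', inv_one] }
    have hσZ : ∀ z ∈ Z, σ z ∈ Z := fun z hz i b' hb' => by
      have := hz (i + 1) b' hb'
      rwa [pow_succ, MulAut.mul_apply] at this
    have hBZ : ∀ b₁ ∈ B, ∀ z ∈ Z, b₁ z ∈ Z := fun b₁ hb₁ z hz i b' hb' => by
      have hc' : b₁ * σ ^ i = σ ^ i * b₁ := ((show Commute b₁ σ from hBσ b₁ hb₁).pow_right i).eq
      rw [← comm_apply hc']
      exact hz i _ (mul_mem hb' hb₁)
    have hZbot : Z = ⊥ := by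
      by_contra hZ
      have h := hbig2 Z hσZ hBZ hZ heC 0 1 (one_mem B)
      rw [pow_zero, MulAut.one_apply, MulAut.one_apply, hfe] at h
      exact absurd h (by decide)
    -- `c` moves everything inside `Z`
    have key : ∀ x, c x * x⁻¹ ∈ Z := by
      intro x i b' hb'
      have hcσ : c * σ ^ i = σ ^ i * c := ((show Commute c σ from hBσ c hcB).pow_right i).eq
      rw [map_mul, map_inv, ← comm_apply hcσ, map_mul, map_inv, map_mul, map_inv]
      set y := (σ ^ i) x
      have e1 : f (b' (c y)) = f (b' y) := by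
        have e2 : b' (c y) = (a : MulAut D) (c (((a : MulAut D)⁻¹ * b') y)) := by
          have h3 : (a : MulAut D) * c * ((a : MulAut D)⁻¹ * b') = b' * c := by
            rw [hBcomm _ hb' _ hcB, hBcomm _ a.2 _ hcB]; group
          show (b' * c) y = ((a : MulAut D) * c * ((a : MulAut D)⁻¹ * b')) y
          rw [h3]
        rw [e2, hfc]
        show f (((a : MulAut D) * ((a : MulAut D)⁻¹ * b')) y) = f (b' y)
        rw [mul_inv_cancel_left]
      rw [e1, mul_inv_cancel]
    refine Subtype.ext (inv_mul_eq_one.mp ?_)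
    refine MulEquiv.ext fun x => ?_
    have h := key x
    rw [hZbot, Subgroup.mem_bot] at h
    rw [MulAut.one_apply]
    exact mul_inv_eq_one.mp h
  have hagree : ∀ i j : B, ∀ u ∈ U ⊔ C, f.comp (i : MulAut D).toMonoidHom u = f.comp (j : MulAut D).toMonoidHom u := by
    intro i j u hu
    obtain ⟨x, hx, y, hy, rfl⟩ := Subgroup.mem_sup.mp hu
    have key : ∀ b : B, f.comp (b : MulAut D).toMonoidHom (x * y) = f y := fun b => by
      show f ((b : MulAut D) (x * y)) = f y
      have hbx : (b : MulAut D) x ∈ U := by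
        show τ ((b : MulAut D) x) = (b : MulAut D) x
        rw [← comm_apply (hBτ b b.2), show τ x = x from hx]
      rw [map_mul, map_mul, hfU _ hbx, mem_fixedAll.mp hy b b.2, one_mul]
    rw [key i, key j]
  have hcount := card_le_of_agree hD (fun b : B => f.comp (b : MulAut D).toMonoidHom) hinjf (U ⊔ C) hagree
  have hUC : 2 * Nat.card U ≤ Nat.card ↥(U ⊔ C) := by
    have hlt : U < U ⊔ C := lt_of_le_of_ne le_sup_left fun h => heU (h.symm ▸ Subgroup.mem_sup_right heC)
    rw [← Subgroup.relIndex_bot_left, ← Subgroup.relIndex_bot_left,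
      ← Subgroup.relIndex_mul_relIndex _ _ _ bot_le hlt.le, mul_comm 2]
    refine Nat.mul_le_mul_left _ ?_
    have h0 : U.relIndex (U ⊔ C) ≠ 0 := Subgroup.index_ne_zero_of_finite
    by_contra hc
    exact hlt.not_ge (Subgroup.relIndex_eq_one.mp (by omega))
  have hY2 : Nat.card Y ≤ 2 := hYle.trans hc2
  have hUpos : 0 < Nat.card U := Nat.card_pos
  have e1 : 2 * Nat.card B * Nat.card U ≤ Nat.card U * Nat.card U := by
    rw [hUsq]
    calc 2 * Nat.card B * Nat.card U = Nat.card B * (2 * Nat.card U) := by ring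
      _ ≤ Nat.card B * Nat.card ↥(U ⊔ C) := Nat.mul_le_mul_left _ hUC
      _ ≤ _ := hcount
  have e2 : 2 * Nat.card B ≤ Nat.card U := Nat.le_of_mul_le_mul_right e1 hUpos
  have e3 : Nat.card D ≤ 2 * Nat.card U := by
    calc Nat.card D ≤ 2 * Nat.card B * Nat.card Y := h2
      _ ≤ 2 * Nat.card B * 2 := Nat.mul_le_mul_left _ hY2
      _ ≤ Nat.card U * 2 := Nat.mul_le_mul_right _ e2
      _ = 2 * Nat.card U := mul_comm _ _
  rw [← hUsq] at e3 hbig
  have e4 : Nat.card U ≤ 2 := Nat.le_of_mul_le_mul_right e3 hUpos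
  nlinarith

end CfsgLib.JComp.Bound
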