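import Cfsg.Agent.Lib.JComp.Basic

/-! A subgroup normalised by `⟨K, J⟩` and normalising `J` normalises a `J(T)`-component `K`. -/

set_option autoImplicit false
open Cfsg
open scoped commutatorElement

namespace CfsgLib.JComp

theorem le_normalizer_component {G : Type*} [Group G] [Finite G] {T : Subgroup G} (hT : IsPGroup 2 ↥T) {K : Subgroup G} (hK : Cfsg.IsJComponent T K)
    (Q : Subgroup G) (hQ1 : K ⊔ Cfsg.thompsonSubgroupOf 2 T ≤ Subgroup.normalizer (Q : Set G)) (hQ2 : Q ≤ Subgroup.normalizer (Cfsg.thompsonSubgroupOf 2 T : Set G)) :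
    Q ≤ Subgroup.normalizer (K : Set G) := by
  obtain ⟨hgen, hcomm, -, -, -, -⟩ := hK
  set J := Cfsg.thompsonSubgroupOf 2 T with hJ
  have hJp : IsPGroup 2 J := hT.to_le (CfsgLib.PLocal.thompsonSubgroupOf_le 2 T)
  have hJK : J ≤ Subgroup.normalizer (K : Set G) := by
    have h := Subgroup.normalizer_commutator_ge_right K J
    rwa [hcomm] at h
  have hKQ : K ≤ Subgroup.normalizer (Q : Set G) := le_sup_left.trans hQ1
  -- commutators of `KQ` with `J` lie in `KJ`
  have hcom : ∀ x ∈ K ⊔ Q, ∀ j ∈ J, ⁅x, j⁆ ∈ K ⊔ J := by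
    intro x hx j hj
    rw [← SetLike.mem_coe, Subgroup.coe_mul_of_left_le_normalizer_right K Q hKQ] at hx
    obtain ⟨k, hk, q, hq, rfl⟩ := hx
    simp only
    have h1 : ⁅k * q, j⁆ = k * ⁅q, j⁆ * k⁻¹ * ⁅k, j⁆ := by
      simp only [commutatorElement_def]; group
    rw [h1]
    have h2 : ⁅q, j⁆ ∈ J := by
      rw [commutatorElement_def]
      exact mul_mem (((Subgroup.mem_normalizer_iff.mp (hQ2 hq)) j).mp hj) (inv_mem hj)
    have hk' : k ∈ K ⊔ J := Subgroup.mem_sup_left hk
    refine mul_mem (mul_mem (mul_mem hk' (Subgroup.mem_sup_right h2)) (inv_mem hk')) ?_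
    exact Subgroup.mem_sup_left (by rw [← hcomm]; exact Subgroup.commutator_mem_commutator hk hj)
  -- odd-order elements of `KJ` lie in `K`
  have hodd : ∀ x ∈ K ⊔ J, Odd (orderOf x) → x ∈ K := by
    intro x hx ho
    rw [← SetLike.mem_coe, Subgroup.coe_mul_of_right_le_normalizer_left K J hJK] at hx
    obtain ⟨k, hk, j, hj, rfl⟩ := hx
    simp only at ho ⊢
    have hpow : ∀ m : ℕ, ∃ k' ∈ K, (k * j) ^ m = k' * j ^ m := by
      intro m
      induction m with
      | zero => exact ⟨1, one_mem _, by simp⟩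
      | succ m ih =>
        obtain ⟨k', hk', he⟩ := ih
        refine ⟨k' * (j ^ m * k * (j ^ m)⁻¹), mul_mem hk' ?_, ?_⟩
        · exact ((Subgroup.mem_normalizer_iff.mp (hJK (pow_mem hj m))) k).mp hk
        · rw [pow_succ, he, pow_succ]; group
    obtain ⟨a, ha⟩ : ∃ a : ℕ, j ^ (2 ^ a) = 1 := by
      obtain ⟨a, ha⟩ := hJp ⟨j, hj⟩
      exact ⟨a, congrArg Subtype.val ha⟩
    obtain ⟨k', hk', he⟩ := hpow (2 ^ a)
    rw [ha, mul_one] at he
    have hcop : Nat.Coprime (2 ^ a) (orderOf (k * j)) :=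
      Nat.Coprime.pow_left _ (Nat.coprime_two_left.mpr ho)
    obtain ⟨m, hm⟩ := exists_pow_eq_self_of_coprime hcop
    rw [← hm, he]
    exact pow_mem hk' m
  -- conjugation by an element of `Q` maps `K` into itself
  have hmain : ∀ q ∈ Q, ∀ k ∈ K, q * k * q⁻¹ ∈ K := by
    intro q hq
    have hconjKJ : ∀ k ∈ K, q * k * q⁻¹ ∈ K ⊔ J := by
      intro k hk
      rw [← hcomm] at hk
      rw [Subgroup.commutator_def] at hk
      induction hk using Subgroup.closure_induction with
      | mem g hg =>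
        obtain ⟨a, ha, b, hb, rfl⟩ := hg
        have h1 : q * ⁅a, b⁆ * q⁻¹ = ⁅q * a * q⁻¹, q * b * q⁻¹⁆ := by
          simp only [commutatorElement_def]; group
        rw [h1]
        refine hcom _ ?_ _ (((Subgroup.mem_normalizer_iff.mp (hQ2 hq)) b).mp hb)
        have hq' : q ∈ K ⊔ Q := Subgroup.mem_sup_right hq
        exact mul_mem (mul_mem hq' (Subgroup.mem_sup_left ha)) (inv_mem hq')
      | one => simp
      | mul u v _ _ hu hv =>
        have h1 : q * (u * v) * q⁻¹ = (q * u * q⁻¹) * (q * v * q⁻¹) := by group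
        rw [h1]; exact mul_mem hu hv
      | inv u _ hu =>
        have h1 : q * u⁻¹ * q⁻¹ = (q * u * q⁻¹)⁻¹ := by group
        rw [h1]; exact inv_mem hu
    intro k hk
    rw [← hgen] at hk
    induction hk using Subgroup.closure_induction with
    | mem g hg =>
      refine hodd _ (hconjKJ g hg.1) ?_
      have h1 : orderOf (q * g * q⁻¹) = orderOf g := (MulAut.conj q).orderOf_eq g
      rw [h1]
      exact hg.2
    | one => simp
    | mul u v _ _ hu hv =>
      have h1 : q * (u * v) * q⁻¹ = (q * u * q⁻¹) * (q * v * q⁻¹) := by group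
      rw [h1]; exact mul_mem hu hv
    | inv u _ hu =>
      have h1 : q * u⁻¹ * q⁻¹ = (q * u * q⁻¹)⁻¹ := by group
      rw [h1]; exact inv_mem hu
  intro q hq
  rw [Subgroup.mem_normalizer_iff]
  intro k
  refine ⟨hmain q hq k, fun hk => ?_⟩
  have := hmain q⁻¹ (inv_mem hq) _ hk
  simpa [mul_assoc] using this

end CfsgLib.JComp
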