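import Cfsg.Agent.Lib.JComp.Duo

/-!
Two positions on a Sylow subgroup: the four-groups of the two components do not commute.
-/

set_option autoImplicit false
set_option maxHeartbeats 1000000
open Cfsg CfsgLib.PLocal
open scoped commutatorElement

namespace CfsgLib.JComp

variable {G : Type*} [Group G] [Finite G]

section single

variable {M T K L : Subgroup G} (q : Pos M T K L)
  (hTK : T ≤ Subgroup.normalizer (K : Set G))
  (hle : Nat.card ↥(omegaCenterOf (thompsonSubgroupOf 2 T)) ≤ 4)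

include q hTK

theorem rho_not_mem {ρ : G} (ho : orderOf ρ = 3) : ρ ∉ T := by
  intro hT
  obtain ⟨a, ha⟩ := q.two ⟨ρ, hT⟩
  have ha' : ρ ^ 2 ^ a = 1 := by simpa using congrArg Subtype.val ha
  have h1 := orderOf_dvd_of_pow_eq_one ha'
  rw [ho] at h1
  have := Nat.prime_three.dvd_of_dvd_pow h1
  omega

include hle

theorem not_mem_normalizer_T {p : G} (hp : p ∈ K ⊔ T) (hpT : p ∉ T) :
    p ∉ Subgroup.normalizer (T : Set G) := fun hn =>
  q.not_le_normalizer q.two (thompsonSubgroupOf_le 2 T) q.comp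
    (le_sup_left.trans (gen_sup q hTK hle Subgroup.le_normalizer hn hp hpT))

/-- The conjugates of the fixed element of `W_K`. -/
theorem exists_conj_w {w v : G} (hwZ : w ∈ omegaCenterOf (thompsonSubgroupOf 2 T)) (hwW : w ∈ wOf K)
    (hw1 : w ≠ 1) (hv : v ∈ wOf K) (hv1 : v ≠ 1) (hvw : v ≠ w) :
    ∃ p ∈ K, p ∉ T ∧ p * w * p⁻¹ = v := by
  obtain ⟨ρ, hρK, ho, -, -⟩ := exists_rho q.comp
  have hρT := rho_not_mem q hTK ho
  have hρ2T : ρ ^ 2 ∉ T := fun h => hρT (by
    have h2 : (ρ ^ 2) ^ 2 = ρ := by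
      have h3 : ρ ^ 3 = 1 := ho ▸ pow_orderOf_eq_one ρ
      rw [← pow_mul, show 2 * 2 = 3 + 1 from rfl, pow_succ, h3, one_mul]
    rw [← h2]; exact pow_mem h 2)
  have hρn : ∀ r ∈ K, r * w * r⁻¹ ∈ wOf K := fun r hr =>
    (Subgroup.mem_normalizer_iff.mp (normalizer_le_normalizer_wOf K (Subgroup.le_normalizer hr)) w).mp hwW
  have hne : ∀ r ∈ K, r ∉ T → r * w * r⁻¹ ≠ 1 ∧ r * w * r⁻¹ ≠ w := fun r hr hrT =>
    ⟨fun e => hw1 ((MulAut.conj r).injective (by simpa using e)),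
      fun e => hrT (fix_w q hTK hle hwZ hwW hw1 (Subgroup.mem_sup_left hr) e)⟩
  obtain ⟨h1, h2⟩ := hne ρ hρK hρT
  obtain ⟨h3, h4⟩ := hne (ρ ^ 2) (pow_mem hρK 2) hρ2T
  have hsq : ∀ {x : G}, x ∈ wOf K → x * x = 1 := fun hx => q.comp.2.2.2.2.2 _ hx
  have h12 : ρ * w * ρ⁻¹ ≠ ρ ^ 2 * w * (ρ ^ 2)⁻¹ := by
    intro e
    apply h2
    refine (MulAut.conj ρ).injective ?_
    simp only [MulAut.conj_apply]
    calc ρ * (ρ * w * ρ⁻¹) * ρ⁻¹ = ρ ^ 2 * w * (ρ ^ 2)⁻¹ := by rw [pow_two]; group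
      _ = ρ * w * ρ⁻¹ := e.symm
  rcases wOf_mul_mem q.comp hwW hw1 (hρn ρ hρK) hv h1 h2 hv1 hvw with e | e
  · refine ⟨ρ, hρK, hρT, ?_⟩
    rw [← inv_eq_of_mul_eq_one_right (hsq (hρn ρ hρK)), inv_eq_of_mul_eq_one_right e]
  · refine ⟨ρ ^ 2, pow_mem hρK 2, hρ2T, ?_⟩
    rcases wOf_mul_mem q.comp hwW hw1 (hρn ρ hρK) (hρn _ (pow_mem hρK 2)) h1 h2 h3 h4 with e' | e'
    · exfalso
      apply h12
      rw [← inv_eq_of_mul_eq_one_right (hsq (hρn ρ hρK)), inv_eq_of_mul_eq_one_right e']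
    · exact mul_left_cancel (e'.trans e.symm)

end single

/-- The fixed element of a component commutes with the other components of the same overgroup. -/
theorem fix_commute {T N K₁ K₂ : Subgroup G} (c : Ctx T N) (h1 : IsJComponent T K₁) (h1N : K₁ ≤ N)
    (h2 : IsJComponent T K₂) (h2N : K₂ ≤ N) (hne : K₁ ≠ K₂) :
    wOf K₁ ⊓ wOf K₂ = ⊥ ∧ ∀ x ∈ omegaCenterOf (thompsonSubgroupOf 2 T), x ∈ wOf K₂ →
      x ∈ hyp T K₁ := by
  have hWW : wOf K₁ ⊓ wOf K₂ = ⊥ := by
    by_contra h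
    exact hne (c.component_unique h1 h1N h2 h2N h)
  refine ⟨hWW, fun x hx hx2 => Subgroup.mem_inf.mpr ⟨hx, Subgroup.mem_centralizer_iff.mpr fun k hk => ?_⟩⟩
  obtain ⟨cc, hcc, v, hv, hxe⟩ := omega_decomp c.two h1 hx
  have hkc := Subgroup.mem_centralizer_iff.mp (Subgroup.mem_inf.mp hcc).2
  have hn : K₁ ≤ Subgroup.normalizer (wOf K₂ : Set G) :=
    ((c.component_preN h1 h1N).1.trans (c.component_preN h2 h2N).2).trans (normalizer_le_normalizer_wOf K₂)
  have hd2 : k * x * k⁻¹ * x⁻¹ ∈ wOf K₂ :=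
    mul_mem ((Subgroup.mem_normalizer_iff.mp (hn hk) x).mp hx2) (inv_mem hx2)
  have hvW := (Subgroup.mem_inf.mp hv).2
  have hkv : k * v * k⁻¹ * v⁻¹ ∈ wOf K₁ := mul_mem ((Subgroup.mem_normalizer_iff.mp
    (normalizer_le_normalizer_wOf K₁ (Subgroup.le_normalizer hk)) v).mp hvW) (inv_mem hvW)
  have hd1 : k * x * k⁻¹ * x⁻¹ ∈ wOf K₁ := by
    have h9 : k * x * k⁻¹ * x⁻¹ = cc * (k * v * k⁻¹ * v⁻¹) * cc⁻¹ := by
      rw [hxe]
      calc k * (cc * v) * k⁻¹ * (cc * v)⁻¹ = (k * cc) * v * k⁻¹ * v⁻¹ * cc⁻¹ := by group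
        _ = _ := by rw [hkc k hk]; group
    rw [h9, ← hkc _ (wOf_le K₁ hkv), mul_inv_cancel_right]
    exact hkv
  have h3 : k * x * k⁻¹ * x⁻¹ = 1 := by
    rw [← Subgroup.mem_bot, ← hWW]; exact Subgroup.mem_inf.mpr ⟨hd1, hd2⟩
  rw [mul_inv_eq_one] at h3
  calc k * x = k * x * k⁻¹ * k := by group
    _ = x * k := by rw [h3]

namespace Pos

variable {M T K L : Subgroup G} (q : Pos M T K L)

include q

/-- The centraliser of an element of `Ω₁(Z(S))`, `T = S`. -/
theorem centralizer_cases (S : Sylow 2 G) (hTS : T = (S : Subgroup G))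
    (hTK : T ≤ Subgroup.normalizer (K : Set G))
    (hle : Nat.card ↥(omegaCenterOf (thompsonSubgroupOf 2 T)) ≤ 4)
    {f : G} (hf : f ∈ omegaCenterOf (thompsonSubgroupOf 2 T)) (hf1 : f ≠ 1) :
    Subgroup.centralizer ({f} : Set G) ≤ Subgroup.normalizer (T : Set G) ∨
      ∃ P : Subgroup G, T ≤ P ∧ Subgroup.centralizer ({f} : Set G) ≤ Subgroup.normalizer (P : Set G) ∧
        Nat.card P = 3 * Nat.card T := by
  haveI : Fact (Nat.Prime 2) := ⟨Nat.prime_two⟩
  set N := Subgroup.centralizer ({f} : Set G) with hNdef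
  have hF := q.omega_eq hTK hle
  have hTN : T ≤ N := fun t ht =>
    Subgroup.mem_centralizer_singleton_iff.mpr (q.omega_central hTK hle hf ht)
  have hN2 : IsTwoLocal N := centralizer_isTwoLocal (mul_self_of_mem_omega hf) hf1
  have hsyl : IsSylowTwoIn T N := by
    refine ⟨hTN, q.two, ?_⟩
    subst hTS
    rw [Nat.odd_iff, ← Nat.two_dvd_ne_zero]
    exact fun h => S.not_dvd_index (h.trans (Subgroup.relIndex_dvd_index_of_le hTN))
  -- `N(J(T))` meets `N` in `N(T)`
  have hY : Subgroup.normalizer (thompsonSubgroupOf 2 T : Set G) ⊓ N ≤ Subgroup.normalizer (T : Set G) := by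
    set Y := Subgroup.normalizer (thompsonSubgroupOf 2 T : Set G) ⊓ N with hYdef
    have hC : Subgroup.centralizer (omegaCenterOf (thompsonSubgroupOf 2 T) : Set G) ≤
        Subgroup.normalizer (T : Set G) := by
      rw [← hF, hTS]; exact q.centralZ S
    set C := Subgroup.centralizer (omegaCenterOf (thompsonSubgroupOf 2 T) : Set G) ⊓ Y with hCdef
    suffices hYC : Y ≤ C from (hYC.trans inf_le_left).trans hC
    intro y hy
    by_contra hyC
    obtain ⟨hyJ, hyN⟩ := Subgroup.mem_inf.mp hy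
    have hfix : ∀ x ∈ Y, x * f * x⁻¹ = f := fun x hx => by
      rw [Subgroup.mem_centralizer_singleton_iff.mp (Subgroup.mem_inf.mp hx).2, mul_inv_cancel_right]
    have hcard := card_omega_eq q.two q.comp
    -- an element moved by `y`
    obtain ⟨g, hg, hgy⟩ : ∃ g ∈ omegaCenterOf (thompsonSubgroupOf 2 T), y * g * y⁻¹ ≠ g := by
      by_contra hall
      push Not at hall
      refine hyC ⟨Subgroup.mem_centralizer_iff.mpr fun g hg => ?_, hy⟩
      calc g * y = y * g * y⁻¹ * y := by rw [hall g hg]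
        _ = y * g := by group
    have hg1 : g ≠ 1 := fun e => hgy (by rw [e]; group)
    have hgf : g ≠ f := fun e => hgy (by rw [e]; exact hfix y hy)
    have hg2 := mul_self_of_mem_omega hg
    have hf2 := mul_self_of_mem_omega hf
    have hfour : ∀ x ∈ omegaCenterOf (thompsonSubgroupOf 2 T), x = 1 ∨ x = f ∨ x = g ∨ x = f * g := by
      intro x hx
      by_contra hn
      push Not at hn
      obtain ⟨e1, e2, e3, e4⟩ := hn
      have hfg1 : f * g ≠ 1 := fun e => hgf (by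
        rw [← inv_eq_of_mul_eq_one_right e]; exact inv_eq_of_mul_eq_one_right hf2)
      have hfgf : f * g ≠ f := fun e => hg1 (mul_left_cancel (e.trans (mul_one f).symm))
      have hfgg : f * g ≠ g := fun e => hf1 (mul_right_cancel (e.trans (one_mul g).symm))
      classical
      have hsub : ({1, f, g, f * g, x} : Finset G) ⊆
          (omegaCenterOf (thompsonSubgroupOf 2 T) : Set G).toFinite.toFinset := by
        intro u hu
        simp only [Finset.mem_insert, Finset.mem_singleton] at hu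
        rw [Set.Finite.mem_toFinset]
        rcases hu with rfl | rfl | rfl | rfl | rfl
        · exact one_mem _
        · exact hf
        · exact hg
        · exact mul_mem hf hg
        · exact hx
      have hc := Finset.card_le_card hsub
      rw [← Set.ncard_eq_toFinset_card _ (omegaCenterOf (thompsonSubgroupOf 2 T) : Set G).toFinite,
        ← Nat.card_coe_set_eq] at hc
      have h5 : ({1, f, g, f * g, x} : Finset G).card = 5 := by
        simp [Finset.card_insert_of_notMem, Ne.symm hf1, Ne.symm hg1, Ne.symm hgf, Ne.symm e1, Ne.symm e2,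
          Ne.symm e3, Ne.symm e4, Ne.symm hfg1, Ne.symm hfgf, Ne.symm hfgg, hg1, hgf, hf1]
      rw [h5] at hc
      have hc' : 5 ≤ Nat.card ↥(omegaCenterOf (thompsonSubgroupOf 2 T)) := hc
      omega
    have hgen : ∀ x ∈ Y, x * g * x⁻¹ = g → x ∈ C := by
      intro x hx hxg
      refine ⟨Subgroup.mem_centralizer_iff.mpr fun v hv => ?_, hx⟩
      have hv' : x * v * x⁻¹ = v := by
        rcases hfour v hv with rfl | rfl | rfl | rfl
        · group
        · exact hfix x hx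
        · exact hxg
        · calc x * (f * g) * x⁻¹ = (x * f * x⁻¹) * (x * g * x⁻¹) := by group
            _ = f * g := by rw [hfix x hx, hxg]
      calc v * x = x * v * x⁻¹ * x := by rw [hv']
        _ = x * v := by group
    have himg : ∀ x ∈ Y, x ∉ C → x * g * x⁻¹ = f * g := by
      intro x hx hxC
      have hxg := conj_mem_omegaCenterOf (Subgroup.mem_inf.mp hx).1 hg
      rcases hfour _ hxg with e | e | e | e
      · exact absurd ((MulAut.conj x).injective (by simpa using e)) hg1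
      · exact absurd ((MulAut.conj x).injective (by simpa [hfix x hx] using e)) hgf
      · exact absurd (hgen x hx e) hxC
      · exact e
    have hmul : ∀ x ∈ Y, ∀ x' ∈ Y, x ∉ C → x' ∉ C → x * x' ∈ C := by
      intro x hx x' hx' h h'
      refine hgen _ (Y.mul_mem hx hx') ?_
      calc x * x' * g * (x * x')⁻¹ = x * (x' * g * x'⁻¹) * x⁻¹ := by group
        _ = (x * f * x⁻¹) * (x * g * x⁻¹) := by rw [himg x' hx' h']; group
        _ = f * (f * g) := by rw [hfix x hx, himg x hx h]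
        _ = g := by rw [← mul_assoc, hf2, one_mul]
    have hidx : C.relIndex Y = 2 := by
      rw [Subgroup.relIndex, Subgroup.index_eq_two_iff]
      refine ⟨⟨y, hy⟩, fun x => ?_⟩
      rw [Subgroup.mem_subgroupOf, Subgroup.mem_subgroupOf, Subgroup.coe_mul]
      by_cases hx : (x : G) ∈ C
      · exact Or.inr ⟨hx, fun h => hyC (by simpa using C.mul_mem (C.inv_mem hx) h)⟩
      · exact Or.inl ⟨hmul _ x.2 y hy hx hyC, hx⟩
    have hTY : T ≤ Y :=
      le_inf (Subgroup.le_normalizer.trans (normalizer_le_normalizer_thompsonSubgroupOf T)) hTN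
    have hTC : T ≤ C := le_inf (fun t ht => Subgroup.mem_centralizer_iff.mpr fun v hv =>
      (q.omega_central hTK hle hv ht).symm) hTY
    have h1 : C.relIndex Y ∣ T.relIndex Y :=
      Dvd.intro_left _ (Subgroup.relIndex_mul_relIndex T C Y hTC inf_le_right)
    have h2 : T.relIndex Y ∣ T.relIndex N :=
      Dvd.intro _ (Subgroup.relIndex_mul_relIndex T Y N hTY inf_le_right)
    rw [hidx] at h1
    exact Nat.not_even_iff_odd.mpr hsyl.2.2 (even_iff_two_dvd.mpr (h1.trans h2))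
  have hNn : ∀ X : Subgroup G, X ≤ N → (∀ K₁, IsJComponent T K₁ → K₁ ≤ N → K₁ ≤ X) →
      Subgroup.normalizer (thompsonSubgroupOf 2 T : Set G) ⊓ N ≤ X → (Ctx T N) → N ≤ X := by
    intro X _ hcomp hJX c
    by_contra hnot
    obtain ⟨K₁, hK₁, hK₁N, hK₁X⟩ := c.exists_component_outside hJX hnot
    exact hK₁X (hcomp K₁ hK₁ hK₁N)
  by_cases hJ : thompsonSubgroupOf 2 T ≤ pCoreOf 2 N
  · left
    have heq : thompsonSubgroupOf 2 (pCoreOf 2 N) = thompsonSubgroupOf 2 T :=
      thompsonSubgroupOf_eq_of_le (pCoreOf_le_sylowTwoIn hsyl) hJ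
    refine le_trans (le_inf ?_ le_rfl) hY
    rw [← heq]
    exact (Subgroup.le_normalizer.trans (normalizer_le_normalizer_pCoreOf N)).trans
      (normalizer_le_normalizer_thompsonSubgroupOf _)
  have c : Ctx T N := ⟨q.two, q.ne_bot, ⟨hsyl, hJ, twoLocal_charTwo q.char2 hN2⟩, q.locals, q.centralZ⟩
  by_cases hall : ∀ K₁, IsJComponent T K₁ → ¬ K₁ ≤ N
  · left
    by_contra hnot
    obtain ⟨K₁, hK₁, hK₁N, -⟩ := c.exists_component_outside hY hnot
    exact hall K₁ hK₁ hK₁N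
  push Not at hall
  obtain ⟨K₁, hK₁, hK₁N⟩ := hall
  right
  have hZW : ∀ K₂, IsJComponent T K₂ → K₂ ≤ N → T ≤ Subgroup.normalizer (K₂ : Set G) := by
    intro K₂ hK₂ hK₂N
    obtain ⟨v, hvZ, hvW, hv1, -, -⟩ := exists_fixW q.two hK₂
    refine c.T_le_normalizer hK₂ hK₂N fun e => hv1 (Subgroup.mem_bot.mp (e ▸ ?_))
    rw [← hF] at hvZ
    obtain ⟨hvT, hvc, -⟩ := mem_omegaCenterOf.mp hvZ
    exact Subgroup.mem_inf.mpr ⟨Subgroup.mem_inf.mpr ⟨hvT, Subgroup.mem_centralizer_iff.mpr hvc⟩, hvW⟩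
  have hfK : ∀ K₂, K₂ ≤ N → f ∈ hyp T K₂ := fun K₂ hK₂N => Subgroup.mem_inf.mpr
    ⟨hf, Subgroup.mem_centralizer_iff.mpr fun k hk => Subgroup.mem_centralizer_singleton_iff.mp (hK₂N hk)⟩
  have huniq : ∀ K₂, IsJComponent T K₂ → K₂ ≤ N → K₂ = K₁ := by
    intro K₂ hK₂ hK₂N
    by_contra hne
    obtain ⟨-, hmem⟩ := fix_commute c hK₁ hK₁N hK₂ hK₂N (Ne.symm hne)
    obtain ⟨v, hvZ, hvW, hv1, -, -⟩ := exists_fixW q.two hK₂
    have hv := hmem v hvZ hvW
    have hcard := card_omega_eq q.two hK₁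
    have h2 : Nat.card ↥(hyp T K₁) = 2 := by
      have : Nat.card ↥(hyp T K₁) ≠ 1 := fun e => hf1 (Subgroup.mem_bot.mp
        (Subgroup.card_eq_one.mp e ▸ hfK K₁ hK₁N))
      have : 0 < Nat.card ↥(hyp T K₁) := Nat.card_pos
      omega
    obtain ⟨x, -, -, hxu⟩ := exists_ne_of_card_two h2
    have e : v = f := ((hxu v hv).resolve_left hv1).trans ((hxu f (hfK K₁ hK₁N)).resolve_left hf1).symm
    exact hv1 (eq_one_of_mem_hyp_wOf hK₂ (e ▸ hfK K₂ hK₂N) hvW)
  have hP : K₁ ⊔ T ≤ N := sup_le hK₁N hTN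
  have hcore : pCoreOf 2 (K₁ ⊔ T) ≠ ⊥ := by
    intro e
    refine hf1 (Subgroup.mem_bot.mp (e ▸ two_le_pCoreOf (isPGroup_zpowers_of_sq (mul_self_of_mem_omega hf))
      (Subgroup.zpowers_le.mpr (Subgroup.mem_sup_right
        (thompsonSubgroupOf_le 2 T (mem_omegaCenterOf.mp hf).1))) ?_ (Subgroup.mem_zpowers f)))
    rw [normalizer_zpowers_eq_centralizer (mul_self_of_mem_omega hf)]
    exact hP
  obtain ⟨L₁, q₁⟩ := q.of_sylow S hTS hK₁ hcore
  refine ⟨K₁ ⊔ T, le_sup_right, ?_, card_sup q₁ (hZW K₁ hK₁ hK₁N)⟩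
  intro y hy
  refine (Subgroup.mem_inf.mp (hNn (Subgroup.normalizer ((K₁ ⊔ T : Subgroup G) : Set G) ⊓ N)
    inf_le_right (fun K₂ hK₂ hK₂N => ?_) ?_ c hy)).1
  · exact le_inf ((huniq K₂ hK₂ hK₂N).le.trans (le_sup_left.trans Subgroup.le_normalizer)) hK₂N
  · intro x hx
    obtain ⟨hxJ, hxN⟩ := Subgroup.mem_inf.mp hx
    have hxT := hY hx
    have hKx : K₁.map (MulAut.conj x).toMonoidHom = K₁ := by
      refine huniq _ (isJComponent_congr ?_ (isJComponent_map hK₁ (MulAut.conj x))) ?_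
      · rw [map_conj_eq_of_mem_normalizer hxT]
      · rintro _ ⟨k, hk, rfl⟩
        exact N.mul_mem (N.mul_mem hxN (hK₁N hk)) (N.inv_mem hxN)
    refine Subgroup.mem_inf.mpr ⟨mem_normalizer_of_map_conj_eq ?_, hxN⟩
    rw [Subgroup.map_sup, hKx, map_conj_eq_of_mem_normalizer hxT]

end Pos

namespace Duo

variable {M M' T K K' L L' : Subgroup G} (d : Duo M M' T K K' L L')

include d

/-- Commuting four-groups are not both invariant under `K`. -/
theorem sym_absurd (S : Sylow 2 G) (hTS : T = (S : Subgroup G))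
    (hcomm : ∀ a ∈ wOf K, ∀ b ∈ wOf K', Commute a b)
    (hU : K ⊔ T ≤ Subgroup.normalizer ((modZ T K ⊔ modZ T K' : Subgroup G) : Set G)) : False := by
  have q := d.pos
  have q' := d.pos'
  have hn := d.norm
  have hn' := d.norm'
  have hle := d.small
  obtain ⟨w, hwZ, hwW, hw1, -, -⟩ := exists_fixW q.two q.comp
  obtain ⟨w', hw'Z, hw'W, hw'1, -, -⟩ := exists_fixW q'.two q'.comp
  obtain ⟨a', ha', ha'1, ha'w⟩ := exists_wOf_ne q' w'
  have ha'Z' : a' ∈ modZ T K' := Subgroup.mem_sup_right ha'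
  have hFc : ∀ z ∈ omegaCenterOf (thompsonSubgroupOf 2 T), ∀ t ∈ T, Commute t z :=
    fun z hz t ht => q.omega_central hn hle hz ht
  have hZle : modZ T K ≤ T := modZ_le_T q hn
  have hZle' : modZ T K' ≤ T := modZ_le_T q' hn'
  have hZQ : ∀ z ∈ modZ T K, ∀ x ∈ qGrp T K, Commute z x := by
    intro z hz x hx
    obtain ⟨c, hc, v, hv, rfl⟩ := mem_modZ hz
    exact (hFc c (hyp_le T K hc) x (qGrp_le T K hx)).symm.mul_left
      (Subgroup.mem_centralizer_iff.mp (Subgroup.mem_inf.mp hx).2 v hv)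
  have hZZ : ∀ z ∈ modZ T K, ∀ z' ∈ modZ T K', Commute z z' := by
    intro z hz z' hz'
    obtain ⟨c', hc', v', hv', rfl⟩ := mem_modZ hz'
    refine ((hFc c' (hyp_le T K' hc') z (hZle hz))).mul_right ?_
    obtain ⟨c, hc, v, hv, rfl⟩ := mem_modZ hz
    exact (hFc c (hyp_le T K hc) v' (wOf_le_T q' hn' hv')).symm.mul_left (hcomm v hv v' hv')
  have hUel : ∀ u ∈ modZ T K ⊔ modZ T K', ∃ z ∈ modZ T K, ∃ z' ∈ modZ T K', u = z * z' := by
    intro u hu
    have hnz : modZ T K ≤ Subgroup.normalizer (modZ T K' : Set G) := fun z hz =>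
      (normalizer_modZ q' hn' hle) (Subgroup.mem_sup_right (hZle hz))
    rw [← SetLike.mem_coe, Subgroup.coe_mul_of_left_le_normalizer_right _ _ hnz] at hu
    obtain ⟨z, hz, z', hz', he⟩ := hu
    exact ⟨z, hz, z', hz', he.symm⟩
  -- `q₀` centralises `W` and moves `W'`
  obtain ⟨q₀, hq₀, hq₀'⟩ : ∃ x ∈ qGrp T K, x ∉ qGrp T K' := by
    by_contra hall
    push Not at hall
    have hge : qGrp T K' ≤ qGrp T K := by
      intro x hx
      by_contra hxQ
      obtain ⟨b, hb, hbQ'⟩ := exists_not_mem_qGrp q' hn' hle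
      have hbQ : b ∉ qGrp T K := fun h => hbQ' (hall b h)
      refine hbQ' ?_
      simpa using mul_mem (inv_mem hx)
        (hall _ (qGrp_split q hn hle (qGrp_le T K' hx) hb hxQ hbQ))
    have he : qGrp T K = qGrp T K' := le_antisymm hall hge
    have h0 := d.core (q.two.to_le (qGrp_le T K)) (qGrp_normal q hn hle)
      (he.symm ▸ qGrp_normal q' hn' hle)
    exact hw1 (Subgroup.mem_bot.mp (h0 ▸ wOf_le_qGrp q hn hwW))
  have hc0 : ⁅a', q₀⁆ = w' :=
    comm_eq_of_not_mem q' hn' hle hw'Z hw'W hw'1 ha' ha'1 ha'w (qGrp_le T K hq₀) hq₀'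
  have ha'nZ : a' ∉ modZ T K := fun h => hw'1 (by
    rw [← hc0]; exact commutatorElement_eq_one_iff_mul_comm.mpr (hZQ a' h q₀ hq₀).eq)
  -- `K` centralises `w'`
  have hfix : ∀ k ∈ K ⊔ T, k * w' * k⁻¹ = w' := by
    intro k hk
    have hq1 : k * q₀ * k⁻¹ ∈ qGrp T K :=
      (Subgroup.mem_normalizer_iff.mp (qGrp_normal q hn hle hk) q₀).mp hq₀
    obtain ⟨z, hz, z', hz', he⟩ := hUel _
      ((Subgroup.mem_normalizer_iff.mp (hU hk) a').mp (Subgroup.mem_sup_right ha'Z'))
    have h1 : k * w' * k⁻¹ = ⁅k * a' * k⁻¹, k * q₀ * k⁻¹⁆ := by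
      rw [← hc0]; simp only [commutatorElement_def]; group
    have h2 : ⁅z * z', k * q₀ * k⁻¹⁆ = z * ⁅z', k * q₀ * k⁻¹⁆ * z⁻¹ * ⁅z, k * q₀ * k⁻¹⁆ := by
      simp only [commutatorElement_def]; group
    rw [he, h2, commutatorElement_eq_one_iff_mul_comm.mpr (hZQ z hz _ hq1).eq, mul_one] at h1
    rcases comm_modZ q' hn' hle hw'Z hw'W hw'1 (qGrp_le T K hq1) hz' with e | e <;> rw [e] at h1
    · exact absurd ((MulAut.conj k).injective (by simpa using h1)) hw'1
    · rw [h1, (hFc w' hw'Z z (hZle hz)).eq, mul_inv_cancel_right]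
  have hw'h : w' ∈ hyp T K := Subgroup.mem_inf.mpr ⟨hw'Z, Subgroup.mem_centralizer_iff.mpr fun k hk => by
    calc k * w' = k * w' * k⁻¹ * k := by group
      _ = w' * k := by rw [hfix k (Subgroup.mem_sup_left hk)]⟩
  -- an element of the coset `a' Z` fixed by `ρ`
  obtain ⟨ρ, hρK, ho, -, hgen⟩ := exists_rho q.comp
  have hρT := rho_not_mem q hn ho
  have hρ3 : ρ ^ 3 = 1 := ho ▸ pow_orderOf_eq_one ρ
  have hρP : ρ ∈ K ⊔ T := Subgroup.mem_sup_left hρK
  set x₂ := ρ * a' * ρ⁻¹ with hx₂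
  set x₃ := ρ * x₂ * ρ⁻¹ with hx₃
  have hx₁U : a' ∈ modZ T K ⊔ modZ T K' := Subgroup.mem_sup_right ha'Z'
  have hx₂U : x₂ ∈ modZ T K ⊔ modZ T K' := (Subgroup.mem_normalizer_iff.mp (hU hρP) a').mp hx₁U
  have hx₃U : x₃ ∈ modZ T K ⊔ modZ T K' := (Subgroup.mem_normalizer_iff.mp (hU hρP) x₂).mp hx₂U
  have hUc : ∀ u ∈ modZ T K ⊔ modZ T K', ∀ v ∈ modZ T K ⊔ modZ T K', Commute u v := by
    intro u hu v hv
    have hin : ∀ {K₀ : Subgroup G} {z₁ z₂ : G}, (∀ z ∈ modZ T K₀, z * z = 1) → z₁ ∈ modZ T K₀ →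
        z₂ ∈ modZ T K₀ → Commute z₁ z₂ := fun {K₀ z₁ z₂} h h₁ h₂ => by
      calc z₁ * z₂ = (z₁ * z₂)⁻¹ := (inv_eq_of_mul_eq_one_right (h _ (mul_mem h₁ h₂))).symm
        _ = z₂⁻¹ * z₁⁻¹ := mul_inv_rev _ _
        _ = z₂ * z₁ := by rw [inv_eq_of_mul_eq_one_right (h z₁ h₁), inv_eq_of_mul_eq_one_right (h z₂ h₂)]
    obtain ⟨z, hz, z', hz', rfl⟩ := hUel u hu
    obtain ⟨v₁, hv₁, v₂, hv₂, rfl⟩ := hUel v hv
    exact ((hin (fun _ => exp2_modZ q) hz hv₁).mul_right (hZZ z hz v₂ hv₂)).mul_left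
      ((hZZ v₁ hv₁ z' hz').symm.mul_right (hin (fun _ => exp2_modZ q') hz' hv₂))
  have hstep : ∀ u, u ∈ modZ T K ⊔ modZ T K' → u ∉ modZ T K → ∃ z ∈ modZ T K, u = a' * z := by
    intro u hu huZ
    obtain ⟨z, hz, z', hz', rfl⟩ := hUel u hu
    have ha'F : a' ∉ omegaCenterOf (thompsonSubgroupOf 2 T) := fun h => ha'nZ (omega_le_modZ q h)
    have hz'F : z' ∉ omegaCenterOf (thompsonSubgroupOf 2 T) :=
      fun h => huZ (mul_mem hz (omega_le_modZ q h))
    have hf := index_modZ q' hn' hle ha'Z' hz' ha'F hz'F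
    refine ⟨z * (a' * z'), mul_mem hz (omega_le_modZ q hf), ?_⟩
    rw [← mul_assoc, ← (hZZ z hz a' ha'Z').eq, mul_assoc, ← mul_assoc a',
      q'.comp.2.2.2.2.2 a' ha', one_mul]
  have hZn : ∀ u, ρ * u * ρ⁻¹ ∈ modZ T K → u ∈ modZ T K := fun u hu =>
    (Subgroup.mem_normalizer_iff.mp (normalizer_modZ q hn hle hρP) u).mpr hu
  have hx₂Z : x₂ ∉ modZ T K := fun h => ha'nZ (hZn a' h)
  obtain ⟨z₂, hz₂, he₂⟩ := hstep x₂ hx₂U hx₂Z
  obtain ⟨z₃, hz₃, he₃⟩ := hstep x₃ hx₃U fun h => hx₂Z (hZn x₂ h)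
  set e := a' * x₂ * x₃ with he
  have heρ : ρ * e * ρ⁻¹ = e := by
    have h1 : ρ * x₃ * ρ⁻¹ = a' := by
      have : ρ * x₃ * ρ⁻¹ = ρ ^ 3 * a' * (ρ ^ 3)⁻¹ := by
        rw [hx₃, hx₂, pow_succ, pow_two]; group
      rw [this, hρ3]; group
    calc ρ * e * ρ⁻¹ = x₂ * x₃ * (ρ * x₃ * ρ⁻¹) := by rw [he, hx₃, hx₂]; group
      _ = x₂ * x₃ * a' := by rw [h1]
      _ = a' * (x₂ * x₃) := ((hUc a' hx₁U _ (mul_mem hx₂U hx₃U)).eq).symm
      _ = e := (mul_assoc _ _ _).symm
  obtain ⟨c, hc, v, hv, hez⟩ : ∃ c ∈ hyp T K, ∃ v ∈ wOf K, e = a' * (c * v) := by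
    obtain ⟨c, hc, v, hv, hcv⟩ := mem_modZ (mul_mem hz₂ hz₃)
    refine ⟨c, hc, v, hv, ?_⟩
    rw [← hcv, he, he₂, he₃]
    calc a' * (a' * z₂) * (a' * z₃) = (a' * a') * (z₂ * a') * z₃ := by group
      _ = a' * (z₂ * z₃) := by
        rw [q'.comp.2.2.2.2.2 a' ha', one_mul, (hZZ z₂ hz₂ a' ha'Z').eq, mul_assoc]
  -- `e` lies in the other module
  have hv01 : v = 1 ∨ v = w := by
    by_contra hn'v
    push Not at hn'v
    obtain ⟨t, ht, htQ⟩ : ∃ t ∈ qGrp T K', t ∉ qGrp T K := by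
      by_contra hall
      push Not at hall
      obtain ⟨b, hb, hbQ⟩ := exists_not_mem_qGrp q hn hle
      have hbQ' : b ∉ qGrp T K' := fun h => hbQ (hall b h)
      refine hbQ ?_
      simpa using mul_mem (inv_mem hq₀)
        (hall _ (qGrp_split q' hn' hle (qGrp_le T K hq₀) hb hq₀' hbQ'))
    have htT := qGrp_le T K' ht
    have hvt := comm_eq_of_not_mem q hn hle hwZ hwW hw1 hv hn'v.1 hn'v.2 htT htQ
    have htv : t * v * t⁻¹ = v * w := by
      have hv2 := q.comp.2.2.2.2.2 v hv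
      have e1 : v * (t * v⁻¹ * t⁻¹) = w := by rw [← hvt, commutatorElement_def]; group
      rw [inv_eq_of_mul_eq_one_right hv2] at e1
      calc t * v * t⁻¹ = (v * v) * (t * v * t⁻¹) := by rw [hv2, one_mul]
        _ = v * (v * (t * v * t⁻¹)) := mul_assoc _ _ _
        _ = v * w := by rw [e1]
    have hte : t * e * t⁻¹ = e * w := by
      rw [hez]
      calc t * (a' * (c * v)) * t⁻¹ = (t * a' * t⁻¹) * (t * c * t⁻¹) * (t * v * t⁻¹) := by group
        _ = a' * c * (v * w) := by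
          rw [← Subgroup.mem_centralizer_iff.mp (Subgroup.mem_inf.mp ht).2 a' ha', mul_inv_cancel_right,
            (hFc c (hyp_le T K hc) t htT).eq, mul_inv_cancel_right, htv]
        _ = _ := by group
    set ρ' := t * ρ * t⁻¹ with hρ'
    have hρ'e : ρ' * (e * w) * ρ'⁻¹ = e * w := by
      rw [← hte, hρ']
      calc t * ρ * t⁻¹ * (t * e * t⁻¹) * (t * ρ * t⁻¹)⁻¹ = t * (ρ * e * ρ⁻¹) * t⁻¹ := by group
        _ = _ := by rw [heρ]
    have hρ'K : ρ' ∈ K := (Subgroup.mem_normalizer_iff.mp (hn htT) ρ).mp hρK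
    obtain ⟨y, hy, m, hym⟩ := hgen ρ' hρ'K
    have hyQ : y ∈ qGrp T K := Subgroup.mem_inf.mpr ⟨core_le_T q hn hy,
      Subgroup.mem_centralizer_iff.mpr fun u hu => (wOf_central hu hy).symm⟩
    have hρm : ρ ^ m * e * (ρ ^ m)⁻¹ = e := by
      have hc' : Commute ρ e := by
        rw [commute_iff_eq]
        calc ρ * e = ρ * e * ρ⁻¹ * ρ := by group
          _ = e * ρ := by rw [heρ]
      rw [(hc'.pow_left m).eq, mul_inv_cancel_right]
    set u := ρ ^ m * w * (ρ ^ m)⁻¹ with hu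
    have huW : u ∈ wOf K := (Subgroup.mem_normalizer_iff.mp
      (normalizer_le_normalizer_wOf K (Subgroup.le_normalizer (pow_mem hρK m))) w).mp hwW
    have hyu : Commute y u := (Subgroup.mem_centralizer_iff.mp (Subgroup.mem_inf.mp hyQ).2 u huW).symm
    have hye : y * e * y⁻¹ = e ∨ y * e * y⁻¹ = e * w' := by
      have hyz : Commute y (c * v) :=
        (hZQ _ (mul_mem (Subgroup.mem_sup_left hc) (Subgroup.mem_sup_right hv)) y hyQ).symm
      have hya : ⁅a', y⁆ = 1 ∨ ⁅a', y⁆ = w' :=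
        comm_modZ q' hn' hle hw'Z hw'W hw'1 (qGrp_le T K hyQ) ha'Z'
      have e1 : y * e * y⁻¹ = (y * a' * y⁻¹) * (c * v) := by
        rw [hez]
        calc y * (a' * (c * v)) * y⁻¹ = (y * a' * y⁻¹) * (y * (c * v) * y⁻¹) := by group
          _ = _ := by rw [hyz.eq, mul_inv_cancel_right]
      have e2 : y * a' * y⁻¹ = a' * ⁅a', y⁆ := by
        rw [commutatorElement_def, inv_eq_of_mul_eq_one_right (q'.comp.2.2.2.2.2 a' ha')]
        calc y * a' * y⁻¹ = (a' * a') * (y * a' * y⁻¹) := by rw [q'.comp.2.2.2.2.2 a' ha', one_mul]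
          _ = _ := by group
      rw [e1, e2]
      rcases hya with hh | hh <;> rw [hh]
      · left; rw [mul_one, hez]
      · right
        rw [hez, mul_assoc, (hFc w' hw'Z (c * v)
          (T.mul_mem (hZle (Subgroup.mem_sup_left hc)) (wOf_le_T q hn hv))).eq.symm, mul_assoc]
        group
    have hmain : y * e * y⁻¹ * u = e * w := by
      rw [← hρ'e, hym]
      calc y * e * y⁻¹ * u = y * e * y⁻¹ * (y * u * y⁻¹) := by rw [hyu.eq, mul_inv_cancel_right]
        _ = y * (ρ ^ m * e * (ρ ^ m)⁻¹ * u) * y⁻¹ := by rw [hρm]; group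
        _ = _ := by rw [hu]; group
    rcases hye with e1 | e1 <;> rw [e1] at hmain
    · have huw : u = w := mul_left_cancel hmain
      have hmT : ρ ^ m ∈ T :=
        fix_w q hn hle hwZ hwW hw1 (pow_mem hρP m) huw
      refine hρT ?_
      have hρ'T : ρ' ∈ T := hym ▸ T.mul_mem (qGrp_le T K hyQ) hmT
      have := T.mul_mem (T.mul_mem (T.inv_mem htT) hρ'T) htT
      simpa [hρ', mul_assoc] using this
    · have huw : w' * u = w := mul_left_cancel ((mul_assoc e w' u).symm.trans hmain)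
      refine hw'1 (eq_one_of_mem_hyp_wOf q.comp hw'h ?_)
      have h9 : w' = w * u⁻¹ := by rw [← huw, mul_inv_cancel_right]
      rw [h9]; exact mul_mem hwW (inv_mem huW)
  set f₀ := c * v with hf₀
  have hf₀F : f₀ ∈ omegaCenterOf (thompsonSubgroupOf 2 T) := by
    rcases hv01 with rfl | rfl
    · simpa [hf₀] using hyp_le T K hc
    · exact mul_mem (hyp_le T K hc) hwZ
  have heT' : e ∈ modZ T K' := hez ▸ mul_mem ha'Z' (omega_le_modZ q' hf₀F)
  have heF : e ∉ omegaCenterOf (thompsonSubgroupOf 2 T) := fun h => ha'nZ (omega_le_modZ q (by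
    have := mul_mem h (inv_mem hf₀F)
    rwa [hez, mul_inv_cancel_right] at this))
  have hCT : ∀ x ∈ T, (Commute x e ↔ x ∈ qGrp T K') := by
    intro x hx
    have h0 : Commute x f₀ := hFc f₀ hf₀F x hx
    constructor
    · intro h
      refine mem_qGrp_of_commute q' hn' hle hw'Z hw'W hw'1 ha' ha'1 ha'w hx ?_
      have := h.mul_right h0.inv_right
      rwa [hez, mul_inv_cancel_right] at this
    · intro h
      rw [hez]
      exact (show Commute x a' from
        (Subgroup.mem_centralizer_iff.mp (Subgroup.mem_inf.mp h).2 a' ha').symm).mul_right h0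
  obtain ⟨c', hc', v', hv', hev⟩ := mem_modZ heT'
  have hv'1 : v' ≠ 1 := fun h => heF (by rw [hev, h, mul_one]; exact hyp_le T K' hc')
  have hv'w : v' ≠ w' := fun h => heF (by rw [hev, h]; exact mul_mem (hyp_le T K' hc') hw'Z)
  have hc'1 : c' ≠ 1 := by
    intro h
    rw [h, one_mul] at hev
    -- then `K ⊔ T` normalises `W_K'`
    have hρW : ∀ u ∈ wOf K', ρ * u * ρ⁻¹ = u := by
      intro u hu
      have hρw' := hfix ρ hρP
      rcases eq_or_ne u 1 with rfl | h1
      · group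
      rcases eq_or_ne u w' with rfl | h2
      · exact hρw'
      rcases wOf_mul_mem q'.comp hw'W hw'1 hv' hu hv'1 hv'w h1 h2 with e1 | e1
      · have : u = e := by
          rw [hev, ← inv_eq_of_mul_eq_one_right (q'.comp.2.2.2.2.2 v' hv'), inv_eq_of_mul_eq_one_right e1]
        rw [this, heρ]
      · have : u = e * w' := by rw [← e1, hev, ← mul_assoc, q'.comp.2.2.2.2.2 v' hv', one_mul]
        rw [this]
        calc ρ * (e * w') * ρ⁻¹ = (ρ * e * ρ⁻¹) * (ρ * w' * ρ⁻¹) := by group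
          _ = e * w' := by rw [heρ, hρw']
    have hρN : ρ ∈ Subgroup.normalizer (wOf K' : Set G) := by
      refine Subgroup.centralizer_le_normalizer _ (Subgroup.mem_centralizer_iff.mpr fun u hu => ?_)
      calc u * ρ = ρ * u * ρ⁻¹ * ρ := by rw [hρW u hu]
        _ = ρ * u := by group
    have hTW : T ≤ Subgroup.normalizer (wOf K' : Set G) := hn'.trans (normalizer_le_normalizer_wOf K')
    have h0 := d.core (wOf_isPGroup K') (gen_sup q hn hle hTW hρN hρP hρT)
      (sup_le_normalizer_wOf' q' hn')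
    exact hw'1 (Subgroup.mem_bot.mp (h0 ▸ hw'W))
  -- `e` is conjugate to an element of `Ω₁(Z(S))`
  obtain ⟨p, hp, hpT, hpv⟩ := exists_conj_w q' hn' hle hw'Z hw'W hw'1 hv' hv'1 hv'w
  have hpP : p ∈ K' ⊔ T := Subgroup.mem_sup_left hp
  set f := c' * w' with hf
  have hfF : f ∈ omegaCenterOf (thompsonSubgroupOf 2 T) := mul_mem (hyp_le T K' hc') hw'Z
  have hf1 : f ≠ 1 := by
    intro h
    apply hc'1
    refine eq_one_of_mem_hyp_wOf q'.comp hc' ?_
    rw [eq_inv_of_mul_eq_one_left h]; exact inv_mem hw'W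
  have hpf : p * f * p⁻¹ = e := by
    rw [hf, hev, ← hpv, ← mul_assoc p c' w', hyp_central_sup q' hn' hle hc' p hpP]
    group
  set X := (K ⊔ T) ⊓ Subgroup.centralizer ({e} : Set G) with hX
  have hXmem : ∀ x ∈ K ⊔ T, (x ∈ X ↔ x * e * x⁻¹ = e) := by
    intro x hx
    rw [hX, Subgroup.mem_inf, Subgroup.mem_centralizer_singleton_iff, mul_inv_eq_iff_eq_mul]
    exact ⟨fun h => h.2, fun h => ⟨hx, h⟩⟩
  have hconjT : ∀ t ∈ T, t * e * t⁻¹ = e ∨ t * e * t⁻¹ = e * w' := by
    intro t ht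
    rcases comm_modZ q' hn' hle hw'Z hw'W hw'1 ht heT' with h | h
    · left
      rw [← (commutatorElement_eq_one_iff_mul_comm.mp h), mul_inv_cancel_right]
    · right
      have he2 := exp2_modZ q' heT'
      rw [commutatorElement_def, inv_eq_of_mul_eq_one_right he2] at h
      calc t * e * t⁻¹ = (e * e) * (t * e * t⁻¹) := by rw [he2, one_mul]
        _ = e * (e * t * e * t⁻¹) := by group
        _ = e * w' := by rw [h]
  have horb : ∀ x ∈ K ⊔ T, x * e * x⁻¹ = e ∨ x * e * x⁻¹ = e * w' := by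
    intro x hx
    obtain ⟨y, hy, m, t, ht, rfl⟩ := decomp q hn hgen hx
    have hρc : ∀ u : G, ρ * u * ρ⁻¹ = u → ρ ^ m * u * (ρ ^ m)⁻¹ = u := by
      intro u hu
      have hc'' : Commute ρ u := by
        rw [commute_iff_eq]
        calc ρ * u = ρ * u * ρ⁻¹ * ρ := by group
          _ = u * ρ := by rw [hu]
      rw [(hc''.pow_left m).eq, mul_inv_cancel_right]
    have hyT := core_le_T q hn hy
    have h9 : y * ρ ^ m * t * e * (y * ρ ^ m * t)⁻¹ = y * (ρ ^ m * (t * e * t⁻¹) * (ρ ^ m)⁻¹) * y⁻¹ := by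
      group
    rw [h9]
    have hyw : y * w' * y⁻¹ = w' := by rw [(hFc w' hw'Z y hyT).eq, mul_inv_cancel_right]
    rcases hconjT t ht with h1 | h1 <;> rw [h1]
    · rw [hρc e heρ]; exact hconjT y hyT
    · have h8 : ρ * (e * w') * ρ⁻¹ = e * w' := by
        calc ρ * (e * w') * ρ⁻¹ = (ρ * e * ρ⁻¹) * (ρ * w' * ρ⁻¹) := by group
          _ = e * w' := by rw [heρ, hfix ρ hρP]
      rw [hρc _ h8]
      have h7 : y * (e * w') * y⁻¹ = (y * e * y⁻¹) * w' := by
        calc y * (e * w') * y⁻¹ = (y * e * y⁻¹) * (y * w' * y⁻¹) := by group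
          _ = _ := by rw [hyw]
      rw [h7]
      rcases hconjT y hyT with h2 | h2 <;> rw [h2]
      · exact Or.inr rfl
      · left; rw [mul_assoc, mul_self_of_mem_omega hw'Z, mul_one]
  have hq₀X : q₀ ∉ X := fun h => hq₀' ((hCT q₀ (qGrp_le T K hq₀)).mp
    (Subgroup.mem_centralizer_singleton_iff.mp (Subgroup.mem_inf.mp h).2))
  have hq₀P : q₀ ∈ K ⊔ T := Subgroup.mem_sup_right (qGrp_le T K hq₀)
  have hidx : X.relIndex (K ⊔ T) = 2 := by
    rw [Subgroup.relIndex, Subgroup.index_eq_two_iff]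
    refine ⟨⟨q₀, hq₀P⟩, fun x => ?_⟩
    rw [Subgroup.mem_subgroupOf, Subgroup.mem_subgroupOf, Subgroup.coe_mul]
    by_cases hx : (x : G) ∈ X
    · exact Or.inr ⟨hx, fun h => hq₀X (by simpa using X.mul_mem (X.inv_mem hx) h)⟩
    · refine Or.inl ⟨(hXmem _ (Subgroup.mul_mem _ x.2 hq₀P)).mpr ?_, hx⟩
      have h1 := (horb _ x.2).resolve_left fun h => hx ((hXmem _ x.2).mpr h)
      have h2 := (horb q₀ hq₀P).resolve_left fun h => hq₀X ((hXmem q₀ hq₀P).mpr h)
      calc (x : G) * q₀ * e * ((x : G) * q₀)⁻¹ = (x : G) * (q₀ * e * q₀⁻¹) * (x : G)⁻¹ := by group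
        _ = ((x : G) * e * (x : G)⁻¹) * ((x : G) * w' * (x : G)⁻¹) := by rw [h2]; group
        _ = e := by rw [h1, hfix _ x.2, mul_assoc, mul_self_of_mem_omega hw'Z, mul_one]
  have hXn : K ⊔ T ≤ Subgroup.normalizer (X : Set G) := by
    haveI := Subgroup.normal_of_index_eq_two (H := X.subgroupOf (K ⊔ T)) hidx
    exact (Subgroup.normal_subgroupOf_iff_le_normalizer inf_le_left).mp inferInstance
  set D := qGrp T K ⊓ qGrp T K' with hD
  have hDX : D ≤ X := fun x hx => Subgroup.mem_inf.mpr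
    ⟨Subgroup.mem_sup_right (qGrp_le T K (Subgroup.mem_inf.mp hx).1), Subgroup.mem_centralizer_singleton_iff.mpr
      ((hCT x (qGrp_le T K (Subgroup.mem_inf.mp hx).1)).mpr (Subgroup.mem_inf.mp hx).2).eq⟩
  have hTD : T ≤ Subgroup.normalizer (D : Set G) := fun t ht =>
    Subgroup.inf_normalizer_le_normalizer_inf ⟨qGrp_normal q hn hle (Subgroup.mem_sup_right ht),
      qGrp_normal q' hn' hle (Subgroup.mem_sup_right ht)⟩
  have hDP : K ⊔ T ≤ Subgroup.normalizer (D : Set G) := by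
    refine gen_sup q hn hle hTD ?_ hρP hρT
    have key : ∀ g : G, g ∈ K ⊔ T → g * e * g⁻¹ = e → ∀ x ∈ D, g * x * g⁻¹ ∈ D := by
      intro g hg hge x hx
      obtain ⟨hx1, hx2⟩ := Subgroup.mem_inf.mp hx
      have h1 := (Subgroup.mem_normalizer_iff.mp (qGrp_normal q hn hle hg) x).mp hx1
      refine Subgroup.mem_inf.mpr ⟨h1, (hCT _ (qGrp_le T K h1)).mp ?_⟩
      have hxe : Commute x e := (hCT x (qGrp_le T K hx1)).mpr hx2
      have := hxe.map (MulAut.conj g)
      simp only [MulAut.conj_apply, hge] at this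
      exact this
    rw [Subgroup.mem_normalizer_iff]
    refine fun x => ⟨key ρ hρP heρ x, fun hx => ?_⟩
    have h1 : ρ⁻¹ * e * ρ⁻¹⁻¹ = e := by
      conv_lhs => rw [← heρ]
      group
    have := key ρ⁻¹ (inv_mem hρP) h1 _ hx
    simpa [mul_assoc] using this
  have hcoreX : pCoreOf 2 X = D := by
    refine le_antisymm (fun x hx => ?_) (two_le_pCoreOf (q.two.to_le (inf_le_left.trans (qGrp_le T K))) hDX
      (inf_le_left.trans hDP))
    have h1 : pCoreOf 2 X ≤ qGrp T K := by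
      rw [← pCoreOf_sup q hn hle]
      exact two_le_pCoreOf (pCoreOf_isPGroup X) ((pCoreOf_le X).trans inf_le_left)
        (hXn.trans (normalizer_le_normalizer_pCoreOf X))
    exact Subgroup.mem_inf.mpr ⟨h1 hx, (hCT x (qGrp_le T K (h1 hx))).mp
      (Subgroup.mem_centralizer_singleton_iff.mp (Subgroup.mem_inf.mp (pCoreOf_le X hx)).2)⟩
  -- move to the centraliser of `f`
  set ψ := (MulAut.conj p⁻¹).toMonoidHom with hψ
  set X₀ := X.map ψ with hX₀
  have hX₀f : X₀ ≤ Subgroup.centralizer ({f} : Set G) := by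
    rintro _ ⟨x, hx, rfl⟩
    have h1 := Subgroup.mem_centralizer_singleton_iff.mp (Subgroup.mem_inf.mp hx).2
    refine Subgroup.mem_centralizer_singleton_iff.mpr ?_
    simp only [hψ, MulEquiv.coe_toMonoidHom, MulAut.conj_apply, inv_inv]
    calc p⁻¹ * x * p * f = p⁻¹ * (x * (p * f * p⁻¹)) * p := by group
      _ = p⁻¹ * (x * e) * p := by rw [hpf]
      _ = p⁻¹ * (e * x) * p := by rw [h1]
      _ = f * (p⁻¹ * x * p) := by rw [← hpf]; group
  have hQ'X : qGrp T K' ≤ X := fun x hx => Subgroup.mem_inf.mpr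
    ⟨Subgroup.mem_sup_right (qGrp_le T K' hx),
      Subgroup.mem_centralizer_singleton_iff.mpr ((hCT x (qGrp_le T K' hx)).mpr hx).eq⟩
  have hQ'fix : (qGrp T K').map ψ = qGrp T K' :=
    map_conj_eq_of_mem_normalizer (inv_mem (qGrp_normal q' hn' hle hpP))
  have hQ'X₀ : qGrp T K' ≤ X₀ := hQ'fix ▸ Subgroup.map_mono hQ'X
  have hcore0 : pCoreOf 2 X₀ = D.map ψ := by
    rw [hX₀, hψ, ← CfsgLib.LocalEven.pCoreOf_map_equiv, hcoreX]
  have hQ'D : ¬ qGrp T K' ≤ pCoreOf 2 X₀ := by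
    rw [hcore0]
    intro h
    rw [← hQ'fix, Subgroup.map_le_map_iff_of_injective (MulAut.conj p⁻¹).injective] at h
    obtain ⟨b, hb, hbQ⟩ := exists_not_mem_qGrp q hn hle
    have hbQ' : b ∉ qGrp T K' := fun h' => hbQ (Subgroup.mem_inf.mp (h h')).1
    have h9 := mul_mem (inv_mem hq₀)
      (Subgroup.mem_inf.mp (h (qGrp_split q' hn' hle (qGrp_le T K hq₀) hb hq₀' hbQ'))).1
    exact hbQ (by simpa using h9)
  have hnot2 : ∀ R : Subgroup G, qGrp T K' ≤ R → R ≤ X₀ → X₀ ≤ Subgroup.normalizer (R : Set G) →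
      ¬ IsPGroup 2 R := fun R h1 h2 h3 h4 => hQ'D (h1.trans (two_le_pCoreOf h4 h2 h3))
  rcases q.centralizer_cases S hTS hn hle hfF hf1 with hN | ⟨P, hTP, hPn, hPcard⟩
  · refine hnot2 (X₀ ⊓ T) (le_inf hQ'X₀ (qGrp_le T K')) inf_le_left ?_ (q.two.to_le inf_le_right)
    exact (le_inf Subgroup.le_normalizer (hX₀f.trans hN)).trans Subgroup.inf_normalizer_le_normalizer_inf
  have hR2 : ¬ IsPGroup 2 (X₀ ⊓ P : Subgroup G) :=
    hnot2 _ (le_inf hQ'X₀ ((qGrp_le T K').trans hTP)) inf_le_left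
      ((le_inf Subgroup.le_normalizer (hX₀f.trans hPn)).trans Subgroup.inf_normalizer_le_normalizer_inf)
  have hXcard : 2 * Nat.card X₀ = 3 * Nat.card T := by
    have h1 : Nat.card X₀ = Nat.card X := Subgroup.card_map_of_injective (MulAut.conj p⁻¹).injective
    have h2 := Subgroup.relIndex_mul_relIndex (⊥ : Subgroup G) X (K ⊔ T) bot_le inf_le_left
    rw [Subgroup.relIndex_bot_left, Subgroup.relIndex_bot_left, hidx, card_sup q hn] at h2
    omega
  have hQ'card : 2 * Nat.card ↥(qGrp T K') = Nat.card T := by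
    have h2 := Subgroup.relIndex_mul_relIndex (⊥ : Subgroup G) (qGrp T K') T bot_le (qGrp_le T K')
    rw [Subgroup.relIndex_bot_left, Subgroup.relIndex_bot_left, relIndex_qGrp q' hn' hle] at h2
    omega
  have hX₀P : X₀ ≤ P := by
    rw [← inf_eq_left]
    refine eq_of_le_card_le inf_le_left ?_
    obtain ⟨k, hk⟩ := Subgroup.card_dvd_of_le (le_inf hQ'X₀ ((qGrp_le T K').trans hTP))
    have hd : Nat.card ↥(qGrp T K') * k ∣ Nat.card ↥(qGrp T K') * 3 := by
      rw [← hk]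
      refine (Subgroup.card_dvd_of_le inf_le_left).trans (dvd_of_eq ?_)
      omega
    rcases (Nat.dvd_prime Nat.prime_three).mp (Nat.dvd_of_mul_dvd_mul_left Nat.card_pos hd) with h | h
    · exfalso
      subst h
      rw [mul_one] at hk
      exact hR2 ((eq_of_le_card_le (le_inf hQ'X₀ ((qGrp_le T K').trans hTP)) hk.le) ▸
        q.two.to_le (qGrp_le T K'))
    · subst h; omega
  have hPX : P ≤ Subgroup.normalizer (X₀ : Set G) := by
    have h2 := Subgroup.relIndex_mul_relIndex (⊥ : Subgroup G) X₀ P bot_le hX₀P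
    rw [Subgroup.relIndex_bot_left, Subgroup.relIndex_bot_left, hPcard, ← hXcard, mul_comm 2] at h2
    haveI := Subgroup.normal_of_index_eq_two (H := X₀.subgroupOf P)
      (Nat.eq_of_mul_eq_mul_left Nat.card_pos h2)
    exact (Subgroup.normal_subgroupOf_iff_le_normalizer hX₀P).mp inferInstance
  have hT0 : T ≤ Subgroup.normalizer (D.map ψ : Set G) :=
    hcore0 ▸ hTP.trans (hPX.trans (normalizer_le_normalizer_pCoreOf X₀))
  have hTp : T.map (MulAut.conj p).toMonoidHom ≤ Subgroup.normalizer (D : Set G) := by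
    have hback : (D.map ψ).map (MulAut.conj p).toMonoidHom = D := by
      rw [Subgroup.map_map]; ext z; simp [hψ, Subgroup.mem_map, mul_assoc]
    have h := Subgroup.map_mono (f := (MulAut.conj p).toMonoidHom) hT0
    rwa [Subgroup.map_equiv_normalizer_eq _ (MulAut.conj p), hback] at h
  obtain ⟨s, hs, hsT⟩ : ∃ s ∈ T, p * s * p⁻¹ ∉ T := by
    by_contra hall
    push Not at hall
    refine not_mem_normalizer_T q' hn' hle hpP hpT (mem_normalizer_of_map_conj_eq (eq_of_le_card_le ?_ ?_))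
    · rintro _ ⟨s, hs, rfl⟩; exact hall s hs
    · exact (Subgroup.card_map_of_injective (MulAut.conj p).injective).ge
  have hP' : K' ⊔ T ≤ Subgroup.normalizer (D : Set G) :=
    gen_sup q' hn' hle hTD (hTp ⟨s, hs, rfl⟩)
      (mul_mem (mul_mem hpP (Subgroup.mem_sup_right hs)) (inv_mem hpP)) hsT
  have h0 := d.core (q.two.to_le (inf_le_left.trans (qGrp_le T K))) hDP hP'
  refine hw1 (Subgroup.mem_bot.mp (h0 ▸ Subgroup.mem_inf.mpr ⟨wOf_le_qGrp q hn hwW, ?_⟩))
  exact Subgroup.mem_inf.mpr ⟨wOf_le_T q hn hwW, Subgroup.mem_centralizer_iff.mpr fun u hu =>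
    ((hcomm w hwW u hu).symm).eq⟩

/-- The two four-groups share their fixed element and do not commute. -/
theorem noncommute (S : Sylow 2 G) (hTS : T = (S : Subgroup G)) :
    ∃ w a b, w ∈ omegaCenterOf (thompsonSubgroupOf 2 T) ∧ w ∈ wOf K ∧ w ∈ wOf K' ∧ w ≠ 1 ∧
      a ∈ wOf K ∧ b ∈ wOf K' ∧ ¬ Commute a b := by
  have q := d.pos
  have q' := d.pos'
  have hn := d.norm
  have hn' := d.norm'
  have hle := d.small
  obtain ⟨w, hwZ, hwW, hw1, -, -⟩ := exists_fixW q.two q.comp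
  obtain ⟨w', hw'Z, hw'W, hw'1, -, -⟩ := exists_fixW q'.two q'.comp
  obtain ⟨a, ha, b, hb, hab⟩ : ∃ a ∈ wOf K, ∃ b ∈ wOf K', ¬ Commute a b := by
    by_contra hall
    push Not at hall
    have cpair : Tree.Pair T (omegaCenterOf (thompsonSubgroupOf 2 T))
        (fun i => bif i then K' ⊔ T else K ⊔ T) (fun i => bif i then modZ T K' else modZ T K)
        (fun i => bif i then w' else w) := by
      constructor
      · intro i; cases i <;> exact le_sup_right
      · intro i; cases i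
        · exact modZ_le_T q hn
        · exact modZ_le_T q' hn'
      · intro i; cases i
        · exact normalizer_modZ q hn hle
        · exact normalizer_modZ q' hn' hle
      · intro i; cases i
        · exact fun a ha => exp2_modZ q ha
        · exact fun a ha => exp2_modZ q' ha
      · intro i; cases i
        · exact le_trans (inf_le_inf_left _ (Subgroup.centralizer_le
            (show (wOf K : Set G) ⊆ modZ T K from fun _ hx => Subgroup.mem_sup_right hx)))
            (centralizer_wOf_le_T q hn hle)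
        · exact le_trans (inf_le_inf_left _ (Subgroup.centralizer_le
            (show (wOf K' : Set G) ⊆ modZ T K' from fun _ hx => Subgroup.mem_sup_right hx)))
            (centralizer_wOf_le_T q' hn' hle)
      · intro i; cases i
        · exact hwZ
        · exact hw'Z
      · intro i; cases i
        · exact omega_le_modZ q
        · exact omega_le_modZ q'
      · exact fun f hf u hu => q.omega_central hn hle hf hu
      · intro i; cases i
        · exact fun x hx x' hx' => index_modZ q hn hle hx hx'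
        · exact fun x hx x' hx' => index_modZ q' hn' hle hx hx'
      · intro i; cases i
        · exact fun u hu a ha => comm_modZ q hn hle hwZ hwW hw1 hu ha
        · exact fun u hu a ha => comm_modZ q' hn' hle hw'Z hw'W hw'1 hu ha
      · intro i; cases i
        · exact hw1
        · exact hw'1
      · intro i; cases i
        · exact fun p hp hpT b hb hbC => move_modZ q hn hle hwZ hwW hw1 hp hpT hb hbC
        · exact fun p hp hpT b hb hbC => move_modZ q' hn' hle hw'Z hw'W hw'1 hp hpT hb hbC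
      · intro i; cases i
        · exact other_modZ q hn hle hwZ hwW hw1 hw'Z
        · exact other_modZ q' hn' hle hw'Z hw'W hw'1 hwZ
      · intro i; cases i
        · exact fun X hTX p hpX hp hpT => gen_sup q hn hle hTX hpX hp hpT
        · exact fun X hTX p hpX hp hpT => gen_sup q' hn' hle hTX hpX hp hpT
      · intro i; cases i
        · exact exists_proper q hn
        · exact exists_proper q' hn'
      · exact fun U hU h1 h2 => d.core hU h1 h2
      · intro i hPi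
        exfalso
        cases i
        · exact d.sym_absurd S hTS hall hPi
        · exact d.symm.sym_absurd S hTS (fun a ha b hb => (hall b hb a ha).symm) hPi
    obtain ⟨a, ha, b, hb, hab⟩ := cpair.exists_not_commute
    simp only [cond_false, cond_true] at ha hb
    obtain ⟨c, hc, a', ha', rfl⟩ := mem_modZ ha
    obtain ⟨c', hc', b', hb', rfl⟩ := mem_modZ hb
    have hcc : ∀ u ∈ T, Commute c u := fun u hu => (q.omega_central hn hle (hyp_le T K hc) hu).symm
    have hdd : ∀ u ∈ T, Commute c' u := fun u hu => (q.omega_central hn hle (hyp_le T _ hc') hu).symm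
    exact hab ((hcc _ (modZ_le_T q' hn' hb)).mul_left
      ((hdd _ (wOf_le_T q hn ha')).symm.mul_right (hall a' ha' b' hb')))
  have h1 : ⁅a, b⁆ = w := (comm_modZ q hn hle hwZ hwW hw1 (wOf_le_T q' hn' hb)
    (Subgroup.mem_sup_right ha)).resolve_left fun e => hab (commutatorElement_eq_one_iff_mul_comm.mp e)
  have h2 : ⁅b, a⁆ = w' := (comm_modZ q' hn' hle hw'Z hw'W hw'1 (wOf_le_T q hn ha)
    (Subgroup.mem_sup_right hb)).resolve_left fun e => hab (commutatorElement_eq_one_iff_mul_comm.mp e).symm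
  have hww : w' = w := by rw [← h2, ← commutatorElement_inv, h1, inv_eq_self_of_mem_omega hwZ]
  exact ⟨w, a, b, hwZ, hwW, hww ▸ hw'W, hw1, ha, hb, hab⟩

end Duo

end CfsgLib.JComp
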