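import Cfsg.Agent.Lib.JComp.Basic
import Cfsg.Agent.Lib.LocalEven.PBasic
import Cfsg.Agent.Lib.PLocal.Thompson

/-!
Transport of `J(T)`-components: they depend only on `J(T)` and are compatible with conjugation.
-/

set_option autoImplicit false
open Cfsg CfsgLib.PLocal
open scoped commutatorElement

namespace CfsgLib.JComp

variable {G : Type*} [Group G]

theorem omegaCenterOf_map (f : G ≃* G) (X : Subgroup G) :
    (omegaCenterOf X).map f.toMonoidHom = omegaCenterOf (X.map f.toMonoidHom) := by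
  ext y
  rw [Subgroup.mem_map_equiv, mem_omegaCenterOf, mem_omegaCenterOf]
  simp only [Subgroup.mem_map_equiv]
  constructor
  · rintro ⟨h1, h2, h3⟩
    refine ⟨h1, fun z hz => ?_, ?_⟩
    · have := congrArg f (h2 _ hz)
      simpa using this
    · have := congrArg f h3
      simpa using this
  · rintro ⟨h1, h2, h3⟩
    refine ⟨h1, fun z hz => ?_, ?_⟩
    · have := congrArg f.symm (h2 (f z) (by simpa using hz))
      simpa using this
    · rw [← map_pow, h3, map_one]

theorem wOf_map (f : G ≃* G) (K : Subgroup G) :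
    (wOf K).map f.toMonoidHom = wOf (K.map f.toMonoidHom) := by
  rw [wOf, wOf, Subgroup.map_commutator, omegaCenterOf_map,
    CfsgLib.LocalEven.pCoreOf_map_equiv]

theorem isSylowTwoIn_map (f : G ≃* G) {S L : Subgroup G} (h : IsSylowTwoIn S L) :
    IsSylowTwoIn (S.map f.toMonoidHom) (L.map f.toMonoidHom) := by
  refine ⟨Subgroup.map_mono h.1, h.2.1.map _, ?_⟩
  rw [Subgroup.relIndex_map_map_of_injective _ _ f.injective]
  exact h.2.2

theorem isJComponent_congr {T T' K : Subgroup G}
    (h : thompsonSubgroupOf 2 T = thompsonSubgroupOf 2 T') (hK : IsJComponent T K) :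
    IsJComponent T' K := by
  unfold IsJComponent at *
  rwa [← h]

theorem jComponentsZero_congr {T T' K : Subgroup G}
    (h : thompsonSubgroupOf 2 T = thompsonSubgroupOf 2 T') (hK : K ∈ jComponentsZero T) :
    K ∈ jComponentsZero T' := by
  refine ⟨isJComponent_congr h hK.1, ?_⟩
  rw [← h]
  exact hK.2

theorem isJComponent_map {T K : Subgroup G} (hK : IsJComponent T K) (f : G ≃* G) :
    IsJComponent (T.map f.toMonoidHom) (K.map f.toMonoidHom) := by
  obtain ⟨h1, h2, h3, h4, h5, h6⟩ := hK
  have hJ : thompsonSubgroupOf 2 (T.map f.toMonoidHom) = (thompsonSubgroupOf 2 T).map f.toMonoidHom :=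
    (thompsonSubgroupOf_map f.injective T).symm
  refine ⟨?_, ?_, ?_, ?_, ?_, ?_⟩
  · conv_rhs => rw [← h1, MonoidHom.map_closure]
    congr 1
    ext g
    constructor
    · rintro ⟨⟨x, hx, rfl⟩, ho⟩
      exact ⟨x, ⟨hx, by simpa using ho⟩, rfl⟩
    · rintro ⟨x, ⟨hx, ho⟩, rfl⟩
      exact ⟨⟨x, hx, rfl⟩, by simpa using ho⟩
  · rw [hJ, ← Subgroup.map_commutator, h2]
  · rw [← CfsgLib.LocalEven.pCoreOf_map_equiv, Subgroup.relIndex_map_map_of_injective _ _ f.injective, h3]
  · intro S hS hJS
    rw [hJ, ← Subgroup.map_sup] at hS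
    rw [hJ] at hJS ⊢
    have e : (S.map f.symm.toMonoidHom).map f.toMonoidHom = S := by
      ext y
      simp [Subgroup.mem_map_equiv]
    have hS' := isSylowTwoIn_map f.symm hS
    have e2 : ∀ X : Subgroup G, (X.map f.toMonoidHom).map f.symm.toMonoidHom = X := fun X => by
      ext y
      simp [Subgroup.mem_map_equiv]
    rw [e2] at hS'
    have := h4 _ hS' (by rw [← e2 (thompsonSubgroupOf 2 T)]; exact Subgroup.map_mono hJS)
    rw [← this, thompsonSubgroupOf_map f.injective, e]
  · rw [← wOf_map, Subgroup.card_map_of_injective f.injective, h5]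
  · rw [← wOf_map]
    rintro _ ⟨w, hw, rfl⟩
    show f w * f w = 1
    rw [← map_mul, h6 w hw, map_one]

/-- The order of a largest elementary abelian subgroup. -/
theorem maxElemAbelianOrder_eq [Finite G] {X A : Subgroup G} (hA : A ∈ maxEAIn 2 X) :
    maxElemAbelianOrder X = Nat.card A := by
  have h : (fun B : Subgroup ↥X => Nat.card ↥B) '' maxElementaryAbelianSubgroups 2 ↥X = {Nat.card A} := by
    have hA' := subgroupOf_mem_maxEA hA
    have hc : Nat.card ↥(A.subgroupOf X) = Nat.card A :=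
      Nat.card_congr (Subgroup.subgroupOfEquivOfLe hA.1).toEquiv
    ext n
    simp only [Set.mem_image, Set.mem_singleton_iff]
    constructor
    · rintro ⟨B, hB, rfl⟩
      rw [← hc]
      exact le_antisymm (hA'.2 _ hB.1) (hB.2 _ hA'.1)
    · rintro rfl
      exact ⟨_, hA', hc⟩
  rw [maxElemAbelianOrder, h, csSup_singleton]

/-- Equal Thompson subgroups have the same largest elementary abelian subgroups. -/
theorem maxEAIn_eq_of_thompson_eq [Finite G] {X Y : Subgroup G}
    (h : thompsonSubgroupOf 2 X = thompsonSubgroupOf 2 Y) : maxEAIn 2 X = maxEAIn 2 Y := by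
  have key : ∀ {X Y : Subgroup G}, thompsonSubgroupOf 2 X = thompsonSubgroupOf 2 Y →
      maxEAIn 2 X ⊆ maxEAIn 2 Y := by
    intro X Y h A hA
    have hin : ∀ {U B : Subgroup G}, B ∈ maxEAIn 2 U → B ≤ thompsonSubgroupOf 2 U := fun {U B} hB => by
      rw [thompsonSubgroupOf_eq]; exact le_sSup hB
    obtain ⟨B, hB⟩ := exists_maxEAIn (G := G) 2 Y
    have hAY : A ≤ Y := ((hin hA).trans h.le).trans (thompsonSubgroupOf_le 2 Y)
    have hBX : B ≤ X := ((hin hB).trans h.ge).trans (thompsonSubgroupOf_le 2 X)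
    exact ⟨hAY, hA.2.1, fun C hC hCe => (hB.2.2 C hC hCe).trans (hA.2.2 B hBX hB.2.1)⟩
  exact subset_antisymm (key h) (key h.symm)

end CfsgLib.JComp
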