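import Cfsg.Agent.Lib.JComp.Parabolic

/-!
Two positions on the same 2-group `T`, with different maximal 2-local subgroups.
-/

set_option autoImplicit false
set_option maxHeartbeats 800000
open Cfsg CfsgLib.PLocal
open scoped commutatorElement

namespace CfsgLib.JComp

variable {G : Type*} [Group G] [Finite G]

/-- A Sylow subgroup is largest in the lexicographic order. -/
theorem sylow_bound (S : Sylow 2 G) {X : Subgroup G} (hX : IsPGroup 2 X) :
    maxElemAbelianOrder X ≤ maxElemAbelianOrder (S : Subgroup G) ∧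
      (maxElemAbelianOrder X = maxElemAbelianOrder (S : Subgroup G) →
        Nat.card ↥(thompsonSubgroupOf 2 X) ≤ Nat.card ↥(thompsonSubgroupOf 2 (S : Subgroup G))) ∧
      Nat.card X ≤ Nat.card ↥(S : Subgroup G) := by
  haveI : Fact (Nat.Prime 2) := ⟨Nat.prime_two⟩
  obtain ⟨R, hR⟩ := hX.exists_le_sylow
  obtain ⟨g, rfl⟩ := MulAction.exists_smul_eq G S R
  have hg : ((g • S : Sylow 2 G) : Subgroup G) = (S : Subgroup G).map (MulAut.conj g).toMonoidHom := by
    rw [Sylow.coe_subgroup_smul]; rfl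
  rw [hg] at hR
  have hinj : Function.Injective (MulAut.conj g).toMonoidHom := (MulAut.conj g).injective
  obtain ⟨A, hA⟩ := exists_maxEAIn (G := G) 2 X
  obtain ⟨B, hB⟩ := exists_maxEAIn (G := G) 2 (S : Subgroup G)
  have hB' : B.map (MulAut.conj g).toMonoidHom ∈
      maxEAIn 2 ((S : Subgroup G).map (MulAut.conj g).toMonoidHom) := by
    rw [maxEAIn_map hinj]; exact ⟨B, hB, rfl⟩
  have hBc : Nat.card ↥(B.map (MulAut.conj g).toMonoidHom) = Nat.card B :=
    Subgroup.card_map_of_injective hinj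
  have hAB : Nat.card A ≤ Nat.card B := hBc ▸ hB'.2.2 A (hA.1.trans hR) hA.2.1
  refine ⟨by rw [maxElemAbelianOrder_eq hA, maxElemAbelianOrder_eq hB]; exact hAB, fun he => ?_, ?_⟩
  · rw [maxElemAbelianOrder_eq hA, maxElemAbelianOrder_eq hB] at he
    have e : Nat.card ↥((thompsonSubgroupOf 2 (S : Subgroup G)).map (MulAut.conj g).toMonoidHom) =
        Nat.card ↥(thompsonSubgroupOf 2 (S : Subgroup G)) := Subgroup.card_map_of_injective hinj
    rw [← e, thompsonSubgroupOf_map hinj]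
    refine Subgroup.card_le_of_le ?_
    rw [thompsonSubgroupOf_eq]
    refine sSup_le fun C hC => ?_
    rw [thompsonSubgroupOf_eq]
    refine le_sSup ⟨hC.1.trans hR, hC.2.1, fun D hD hDe => ?_⟩
    calc Nat.card D ≤ Nat.card ↥(B.map (MulAut.conj g).toMonoidHom) := hB'.2.2 D hD hDe
      _ = Nat.card A := by rw [hBc, he]
      _ ≤ Nat.card C := hC.2.2 A hA.1 hA.2.1
  · have e : Nat.card ↥((S : Subgroup G).map (MulAut.conj g).toMonoidHom) =
        Nat.card ↥(S : Subgroup G) := Subgroup.card_map_of_injective hinj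
    rw [← e]
    exact Subgroup.card_le_of_le hR

theorem jComponentsZero_sylow (S : Sylow 2 G) {K : Subgroup G}
    (hK : IsJComponent (S : Subgroup G) K) : K ∈ jComponentsZero (S : Subgroup G) := by
  refine ⟨hK, fun R hJR hR => ?_⟩
  obtain ⟨hle, hJ, -⟩ := sylow_bound S hR.2.1
  obtain ⟨A, hA⟩ := exists_maxEAIn (G := G) 2 (S : Subgroup G)
  obtain ⟨B, hB⟩ := exists_maxEAIn (G := G) 2 R
  have hJin : ∀ C ∈ maxEAIn 2 (S : Subgroup G), C ≤ thompsonSubgroupOf 2 (S : Subgroup G) := fun C hC => by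
    rw [thompsonSubgroupOf_eq]; exact le_sSup hC
  rw [maxElemAbelianOrder_eq hA, maxElemAbelianOrder_eq hB] at hle hJ
  have hAB : Nat.card A ≤ Nat.card B := hB.2.2 A ((hJin A hA).trans hJR) hA.2.1
  have hsub : thompsonSubgroupOf 2 (S : Subgroup G) ≤ thompsonSubgroupOf 2 R := by
    rw [thompsonSubgroupOf_eq]
    refine sSup_le fun C hC => ?_
    rw [thompsonSubgroupOf_eq]
    refine le_sSup ⟨(hJin C hC).trans hJR, hC.2.1, fun D hD hDe => ?_⟩
    exact ((hB.2.2 D hD hDe).trans hle).trans (hC.2.2 A hA.1 hA.2.1)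
  exact (eq_of_le_card_le hsub (hJ (le_antisymm hle hAB))).symm

/-- Two positions on `T`. -/
structure Duo (M M' T K K' L L' : Subgroup G) : Prop where
  pos : Pos M T K L
  pos' : Pos M' T K' L'
  norm : T ≤ Subgroup.normalizer (K : Set G)
  norm' : T ≤ Subgroup.normalizer (K' : Set G)
  small : Nat.card ↥(omegaCenterOf (thompsonSubgroupOf 2 T)) ≤ 4
  out : ¬ K' ≤ L
  out' : ¬ K ≤ L'

namespace Duo

variable {M M' T K K' L L' : Subgroup G} (d : Duo M M' T K K' L L')

include d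

theorem symm : Duo M' M T K' K L' L := ⟨d.pos', d.pos, d.norm', d.norm, d.small, d.out', d.out⟩

theorem core {U : Subgroup G} (hU : IsPGroup 2 U) (h1 : K ⊔ T ≤ Subgroup.normalizer (U : Set G))
    (h2 : K' ⊔ T ≤ Subgroup.normalizer (U : Set G)) : U = ⊥ := by
  by_contra hU1
  exact d.out ((le_sup_left.trans h2).trans (d.pos.le_of_two_local ⟨U, hU, hU1, rfl⟩
    ((sup_le_sup_left (thompsonSubgroupOf_le 2 T) K).trans h1)))

theorem pCoreOf_sup_sup : pCoreOf 2 ((K ⊔ T) ⊔ (K' ⊔ T)) = ⊥ :=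
  d.core (pCoreOf_isPGroup _)
    (le_sup_left.trans (Subgroup.le_normalizer.trans (normalizer_le_normalizer_pCoreOf _)))
    (le_sup_right.trans (Subgroup.le_normalizer.trans (normalizer_le_normalizer_pCoreOf _)))

theorem ne : K ≠ K' := fun h => d.out (h ▸ d.pos.K_le)

theorem local_ne : L ≠ L' := fun h => d.out (h ▸ d.pos'.K_le)

end Duo

theorem Pos.duo {M M' T K K' L L' : Subgroup G} (q : Pos M T K L) (q' : Pos M' T K' L') (S : Sylow 2 G)
    (hTS : T ≤ (S : Subgroup G)) (hout : ¬ K' ≤ L) : Duo M M' T K K' L L' := by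
  have hout' : ¬ K ≤ L' := fun h => hout (q.unique q'.maxL (sup_le h q'.J_le) ▸ q'.K_le)
  exact ⟨q, q', q.T_le_normalizer S hTS q'.comp hout, q'.T_le_normalizer S hTS q.comp hout',
    q.card_omega_le q'.comp hout, hout, hout'⟩

namespace Pos

variable {M T K L : Subgroup G} (q : Pos M T K L)

include q

/-- For `T` a Sylow subgroup of `G` every good component gives a position. -/
theorem of_sylow (S : Sylow 2 G) (hTS : T = (S : Subgroup G)) {K' : Subgroup G} (hK' : IsJComponent T K')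
    (hcore : pCoreOf 2 (K' ⊔ T) ≠ ⊥) :
    ∃ L', Pos (Subgroup.normalizer (thompsonSubgroupOf 2 T : Set G)) T K' L' := by
  set M' := Subgroup.normalizer (thompsonSubgroupOf 2 T : Set G) with hM'
  have hTM : T ≤ M' := Subgroup.le_normalizer.trans (normalizer_le_normalizer_thompsonSubgroupOf T)
  have hLM : ¬ L ≤ M' := fun h => q.not_le_normalizer (q.two.to_le (thompsonSubgroupOf_le 2 T)) le_rfl
    q.comp (q.K_le.trans h)
  have hstr : T ∈ maxStraddlingTwoSubgroups M' := by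
    refine ⟨⟨q.two, q.ne_bot, hTM, L, q.maxL.1, q.sylow.1, hLM⟩, fun X hX => ?_⟩
    subst hTS
    obtain ⟨h1, h2, h3⟩ := sylow_bound S hX.1
    exact ⟨h1, fun e => ⟨h2 e, fun _ => h3⟩⟩
  obtain ⟨L', hL', hmax⟩ := exists_maximalTwoLocal
    (N := Subgroup.normalizer (pCoreOf 2 (K' ⊔ T) : Set G)) ⟨_, pCoreOf_isPGroup _, hcore, rfl⟩
  refine ⟨L', q.char2, q.locals, q.centralZ, le_rfl, hstr,
    ⟨hTS ▸ jComponentsZero_sylow S (hTS ▸ hK'),
      q.not_le_normalizer (q.two.to_le (thompsonSubgroupOf_le 2 T)) le_rfl hK', hcore⟩, hL', ?_⟩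
  exact (sup_le_sup_left (thompsonSubgroupOf_le 2 T) K').trans
    ((Subgroup.le_normalizer.trans (normalizer_le_normalizer_pCoreOf _)).trans hmax)

/-- A good component outside `L` when `T` is a Sylow subgroup of `G`. -/
theorem exists_good (hO : pCore 2 G = ⊥) (S : Sylow 2 G) (hTS : T = (S : Subgroup G))
    (hMJ : Subgroup.normalizer (thompsonSubgroupOf 2 (S : Subgroup G) : Set G) ≤ M) :
    ∃ K', IsJComponent T K' ∧ ¬ K' ≤ L ∧ pCoreOf 2 (K' ⊔ T) ≠ ⊥ := by
  haveI : Fact (Nat.Prime 2) := ⟨Nat.prime_two⟩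
  obtain ⟨K₁, hK₁, hK₁L⟩ := q.exists_component_not_le hO S hTS.le hMJ
  have hTK := q.T_le_normalizer S hTS.le hK₁ hK₁L
  have hle := q.card_omega_le hK₁ hK₁L
  have hcard := card_omega_eq q.two hK₁
  by_cases h4 : 1 < Nat.card ↥(hyp T K₁)
  · -- a fixed element in the centre of `T`
    obtain ⟨x, hx, hx1⟩ := (Subgroup.bot_or_exists_ne_one (hyp T K₁)).resolve_left
      fun e => by rw [e, Subgroup.card_bot] at h4; omega
    have hT' : T ≤ Subgroup.normalizer (Subgroup.zpowers x : Set G) := by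
      rw [normalizer_zpowers_eq_centralizer (mul_self_of_mem_omega (hyp_le T K₁ hx))]
      exact fun t ht => Subgroup.mem_centralizer_singleton_iff.mpr
        (q.omega_central hTK hle (hyp_le T K₁ hx) ht)
    have hK' : K₁ ≤ Subgroup.normalizer (Subgroup.zpowers x : Set G) := by
      rw [normalizer_zpowers_eq_centralizer (mul_self_of_mem_omega (hyp_le T K₁ hx))]
      exact fun k hk => Subgroup.mem_centralizer_singleton_iff.mpr
        (Subgroup.mem_centralizer_iff.mp (Subgroup.mem_inf.mp hx).2 k hk)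
    have hxT : Subgroup.zpowers x ≤ K₁ ⊔ T := Subgroup.zpowers_le.mpr (Subgroup.mem_sup_right
      (thompsonSubgroupOf_le 2 T (mem_omegaCenterOf.mp (hyp_le T K₁ hx)).1))
    refine ⟨K₁, hK₁, hK₁L, fun e => hx1 (Subgroup.mem_bot.mp ?_)⟩
    rw [← e]
    exact two_le_pCoreOf (isPGroup_zpowers_of_sq (mul_self_of_mem_omega (hyp_le T K₁ hx))) hxT
      (sup_le hK' hT') (Subgroup.mem_zpowers x)
  -- `Ω₁(Z(J(T)))` has order 2
  have h2 : Nat.card ↥(omegaCenterOf (thompsonSubgroupOf 2 T)) = 2 := by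
    have : 0 < Nat.card ↥(hyp T K₁) := Nat.card_pos
    omega
  obtain ⟨w, hwZ, hw1, hwu⟩ := exists_ne_of_card_two h2
  have hNT : Subgroup.normalizer (thompsonSubgroupOf 2 T : Set G) ≤
      Subgroup.normalizer (T : Set G) := by
    intro g hg
    have hgz : g * w * g⁻¹ = w := by
      refine (hwu _ (conj_mem_omegaCenterOf hg hwZ)).resolve_left fun e => hw1 ?_
      exact (MulAut.conj g).injective (by simpa using e)
    rw [hTS]
    refine q.centralZ S (Subgroup.mem_centralizer_iff.mpr fun z hz => ?_)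
    rw [← hTS] at hz
    rcases hwu z (omega_le_omega_thompson hz) with rfl | rfl
    · rw [one_mul, mul_one]
    · calc z * g = g * z * g⁻¹ * g := by rw [hgz]
        _ = g * z := by group
  by_cases hNL : Subgroup.normalizer (thompsonSubgroupOf 2 T : Set G) ≤ L
  swap
  · obtain ⟨g, hg, hgL⟩ := SetLike.not_le_iff_exists.mp hNL
    have hgM : g ∈ M := hMJ (hTS ▸ hg)
    have q' := q.map hgM
    rw [map_conj_eq_of_mem_normalizer (hNT hg)] at q'
    refine ⟨_, q'.comp, fun hle' => hgL (isMaximal_normalizer_le q.maxL (mem_normalizer_of_map_conj_eq ?_)),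
      q'.out.2.2⟩
    exact (q'.unique q.maxL (sup_le hle' q.J_le)).symm
  have hSL : (S : Subgroup G) ≤ L := hTS ▸ q.sylow.1
  have hNS : Subgroup.normalizer (thompsonSubgroupOf 2 (S : Subgroup G) : Set G) ≤ L := hTS ▸ hNL
  have hne : (straddlingTwoSubgroups L).Nonempty := by
    refine ⟨thompsonSubgroupOf 2 T, q.two.to_le (thompsonSubgroupOf_le 2 T),
      thompsonOf_ne_bot q.two q.ne_bot, q.J_le, _, normalizer_wOf_twoLocal hK₁,
      le_sup_right.trans (le_normalizer_wOf hK₁), fun h => hK₁L ?_⟩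
    exact (le_sup_left.trans (le_normalizer_wOf hK₁)).trans h
  obtain ⟨X₀, hX₀⟩ := exists_max_straddling hne
  obtain ⟨A₀, hA₀⟩ := Cfsg.Agent.S2949.result q.char2 q.locals q.centralZ hO S L q.maxL.1 hNS X₀ hX₀
  obtain ⟨L₀, hL₀, hL₀max⟩ := exists_maximalTwoLocal
    (N := Subgroup.normalizer (pCoreOf 2 (A₀ ⊔ X₀) : Set G)) ⟨_, pCoreOf_isPGroup _, hA₀.2.2, rfl⟩
  have p₀ : Pos L X₀ A₀ L₀ := ⟨q.char2, q.locals, q.centralZ, normalizer_thompson_le hSL hNS hX₀, hX₀,
    hA₀, hL₀, (sup_le_sup_left (thompsonSubgroupOf_le 2 X₀) A₀).trans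
      ((Subgroup.le_normalizer.trans (normalizer_le_normalizer_pCoreOf _)).trans hL₀max)⟩
  obtain ⟨m, hmL, hm⟩ := q.ctx.exists_conj_le hX₀.1.1 hX₀.1.2.2.1
  have p := p₀.map hmL
  set X := X₀.map (MulAut.conj m).toMonoidHom with hX
  have hXS : X ≤ (S : Subgroup G) := by
    rintro _ ⟨y, hy, rfl⟩
    exact hTS ▸ hm y hy
  by_cases hXe : X = (S : Subgroup G)
  · rw [hXe, ← hTS] at p
    exact ⟨_, p.comp, p.out.2.1, p.out.2.2⟩
  exfalso
  obtain ⟨y, hyS, hyL, t⟩ := p.exists_twin S hXS hXe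
  obtain ⟨hJ, h4'⟩ := t.thompson_eq_of_element S hXS hyS hyL
    fun v hv _ hZv => q.exists_moved S hTS hv hZv
  rw [← hJ, ← hTS, h2] at h4'
  omega

/-- A second position. -/
theorem exists_duo (hO : pCore 2 G = ⊥) (S : Sylow 2 G) (hTS : T ≤ (S : Subgroup G))
    (hMJ : Subgroup.normalizer (thompsonSubgroupOf 2 (S : Subgroup G) : Set G) ≤ M) :
    ∃ M' K' L', Duo M M' T K K' L L' ∧
      ((∃ y, Twin M T K L y ∧ K' = K.map (MulAut.conj y).toMonoidHom) ∨ T = (S : Subgroup G)) := by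
  by_cases hne : T = (S : Subgroup G)
  · obtain ⟨K', hK', hK'L, hcore⟩ := q.exists_good hO S hne hMJ
    obtain ⟨L', q'⟩ := q.of_sylow S hne hK' hcore
    exact ⟨_, K', L', q.duo q' S hTS hK'L, Or.inr hne⟩
  · obtain ⟨y, -, -, t⟩ := q.exists_twin S hTS hne
    exact ⟨M, _, _, q.duo t.pos' S hTS t.out', Or.inl ⟨y, t, rfl⟩⟩

end Pos

end CfsgLib.JComp
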