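import Cfsg.Agent.Lib.JComp.Lift
import Cfsg.Agent.Lib.JComp.Bound
import Cfsg.Agent.Lib.JComp.Common

/-!
The `J(T)`-components inside a member `L` of `jOvergroups T`: one for each plane.
-/

set_option autoImplicit false
set_option maxHeartbeats 800000
open Cfsg CfsgLib.PLocal
open scoped commutatorElement

attribute [local instance] CfsgLib.CharP.pCore_normal'

namespace CfsgLib.JComp

variable {G : Type*} [Group G]

/-- The subgroup generated by the odd order elements above `⟨r⟩`. -/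
noncomputable def liftComp (L : Subgroup G) (r : ↥L ⧸ Cfsg.pCore 2 ↥L) : Subgroup G :=
  Subgroup.closure {g | g ∈ ((Subgroup.zpowers r).comap (modCore L)).map L.subtype ∧ Odd (orderOf g)}

theorem liftComp_le_comap (L : Subgroup G) (r : ↥L ⧸ Cfsg.pCore 2 ↥L) :
    liftComp L r ≤ ((Subgroup.zpowers r).comap (modCore L)).map L.subtype :=
  (Subgroup.closure_le _).mpr fun _ hg => hg.1

theorem liftComp_le (L : Subgroup G) (r : ↥L ⧸ Cfsg.pCore 2 ↥L) : liftComp L r ≤ L :=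
  (liftComp_le_comap L r).trans (Subgroup.map_subtype_le _)

theorem modCore_mem_of_liftComp {L : Subgroup G} {r : ↥L ⧸ Cfsg.pCore 2 ↥L} {k : ↥L}
    (hk : (k : G) ∈ liftComp L r) : modCore L k ∈ Subgroup.zpowers r := by
  obtain ⟨k', hk', hke⟩ := liftComp_le_comap L r hk
  obtain rfl : k' = k := Subtype.ext hke
  exact hk'

namespace Ctx

variable [Finite G] {T L : Subgroup G} (c : Ctx T L)

include c

theorem liftComp_conj_mem {r : ↥L ⧸ Cfsg.pCore 2 ↥L} {g : ↥L}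
    (hg : modCore L g * r * (modCore L g)⁻¹ ∈ Subgroup.zpowers r) {k : G} (hk : k ∈ liftComp L r) :
    (g : G) * k * (g : G)⁻¹ ∈ liftComp L r := by
  refine conj_closure_mem ?_ hk
  rintro y ⟨⟨y', hy', rfl⟩, hodd⟩
  refine Subgroup.subset_closure ⟨⟨g * y' * g⁻¹, ?_, rfl⟩, ?_⟩
  · obtain ⟨i, hi⟩ := Subgroup.mem_zpowers_iff.mp hy'
    rw [SetLike.mem_coe, Subgroup.mem_comap, map_mul, map_mul, map_inv, ← hi, ← conj_zpow]
    exact zpow_mem hg i
  · have h := (MulAut.conj (g : G)).orderOf_eq (y' : G)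
    rw [MulAut.conj_apply] at h
    rw [Subgroup.subtype_apply, h]
    exact hodd

omit c in
theorem mem_normalizer_liftComp {r : ↥L ⧸ Cfsg.pCore 2 ↥L} {S : Subgroup G}
    (h : ∀ g ∈ S, ∀ k ∈ liftComp L r, g * k * g⁻¹ ∈ liftComp L r) :
    S ≤ Subgroup.normalizer (liftComp L r : Set G) :=
  le_normalizer_of_conj h

theorem core_le_normalizer_liftComp (r : ↥L ⧸ Cfsg.pCore 2 ↥L) :
    pCoreOf 2 L ≤ Subgroup.normalizer (liftComp L r : Set G) := by
  refine mem_normalizer_liftComp fun g hg k hk => ?_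
  obtain ⟨g', hg', rfl⟩ := hg
  refine c.liftComp_conj_mem (g := g') ?_ hk
  have h1 : modCore L g' = 1 := modCore_eq_one.mpr ⟨g', hg', rfl⟩
  rw [h1, one_mul, inv_one, mul_one]
  exact Subgroup.mem_zpowers r

variable {t ρ : ↥c.act.range} {v : ↥(modV T L)} {r : ↥L ⧸ Cfsg.pCore 2 ↥L}

theorem thompson_le_normalizer_liftComp (hr : c.IsLift t ρ r) :
    thompsonSubgroupOf 2 T ≤ Subgroup.normalizer (liftComp L r : Set G) := by
  refine mem_normalizer_liftComp fun g hg k hk => ?_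
  have hgL : g ∈ L := c.T_le (thompsonSubgroupOf_le 2 T hg)
  refine c.liftComp_conj_mem (g := ⟨g, hgL⟩) ?_ hk
  rcases hr.act _ ⟨⟨g, hgL⟩, hg, rfl⟩ with h | h <;> rw [h]
  · exact Subgroup.mem_zpowers r
  · exact inv_mem (Subgroup.mem_zpowers r)

theorem preN_le_normalizer_liftComp (ht : t ∈ c.imJ)
    (hp : FF.IsPlane c.act.range.subtype (Cfsg.fittingSubgroup ↥c.act.range) t v ρ)
    (hn : Cfsg.fittingSubgroup ↥c.act.range ≤ Subgroup.normalizer (Subgroup.zpowers ρ : Set ↥c.act.range))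
    (hr : c.IsLift t ρ r) : c.preN ≤ Subgroup.normalizer (liftComp L r : Set G) := by
  refine mem_normalizer_liftComp fun g hg k hk => ?_
  obtain ⟨g', hg', rfl⟩ := hg
  refine c.liftComp_conj_mem (g := g') ?_ hk
  rw [c.preN_commutes ht hp hn hr hg', mul_inv_cancel_right]
  exact Subgroup.mem_zpowers r

theorem exists_odd_lift (hr : c.IsLift t ρ r) :
    ∃ y : ↥L, modCore L y = r ∧ Odd (orderOf y) ∧ (y : G) ∈ liftComp L r := by
  obtain ⟨x, hx⟩ := modCore_surjective L r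
  obtain ⟨a, m, hm, he⟩ := Nat.exists_eq_two_pow_mul_odd (orderOf_pos x).ne'
  obtain ⟨k, hk⟩ := exists_pow_eq_self_of_coprime (x := r) (n := 2 ^ a)
    (by rw [hr.order]; exact Nat.Coprime.pow_left _ (by norm_num))
  set y := (x ^ 2 ^ a) ^ k with hy
  have hyr : modCore L y = r := by rw [hy, map_pow, map_pow, hx, hk]
  have hodd : Odd (orderOf y) := by
    refine Odd.of_dvd_nat hm (orderOf_dvd_of_pow_eq_one ?_)
    rw [hy, ← pow_mul, ← pow_mul, show 2 ^ a * (k * m) = 2 ^ a * m * k by ring, ← he, pow_mul,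
      pow_orderOf_eq_one, one_pow]
  refine ⟨y, hyr, hodd, Subgroup.subset_closure ⟨⟨y, ?_, rfl⟩, by rwa [Subgroup.orderOf_coe]⟩⟩
  rw [SetLike.mem_coe, Subgroup.mem_comap, hyr]
  exact Subgroup.mem_zpowers r

theorem exists_lift_pow (hr : c.IsLift t ρ r) {y : ↥L} (hy : modCore L y = r)
    (hyK : (y : G) ∈ liftComp L r) {k : G} (hk : k ∈ liftComp L r) :
    ∃ i : ℕ, ∃ p ∈ pCoreOf 2 L, p ∈ liftComp L r ∧ k = p * (y : G) ^ i := by
  have hkL := liftComp_le L r hk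
  have hm := modCore_mem_of_liftComp (k := ⟨k, hkL⟩) hk
  obtain ⟨i, hi⟩ := Submonoid.mem_powers_iff _ _ |>.mp (mem_powers_iff_mem_zpowers.mpr hm)
  refine ⟨i, k * ((y : G) ^ i)⁻¹, ?_, mul_mem hk (inv_mem (pow_mem hyK i)), by group⟩
  have h1 : modCore L (⟨k, hkL⟩ * (y ^ i)⁻¹) = 1 := by rw [map_mul, map_inv, map_pow, hy, hi, mul_inv_cancel]
  have h2 := modCore_eq_one.mp h1
  simpa using h2

theorem pCoreOf_liftComp (hr : c.IsLift t ρ r) :
    pCoreOf 2 (liftComp L r) = liftComp L r ⊓ pCoreOf 2 L := by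
  refine le_antisymm ?_ ?_
  · intro z hz
    refine ⟨pCoreOf_le _ hz, ?_⟩
    have hzK := pCoreOf_le _ hz
    have hzL := liftComp_le L r hzK
    show ((⟨z, hzL⟩ : ↥L) : G) ∈ pCoreOf 2 L
    rw [← modCore_eq_one]
    have h1 : modCore L ⟨z, hzL⟩ ^ 3 = 1 := by
      obtain ⟨i, hi⟩ := Subgroup.mem_zpowers_iff.mp (modCore_mem_of_liftComp (k := ⟨z, hzL⟩) hzK)
      rw [← hi, ← zpow_natCast, ← zpow_mul, mul_comm, zpow_mul, zpow_natCast, hr.pow_eq, one_zpow]
    obtain ⟨e, he⟩ := pCoreOf_isPGroup (liftComp L r) ⟨z, hz⟩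
    have he' : modCore L ⟨z, hzL⟩ ^ 2 ^ e = 1 := by
      rw [← map_pow]
      have : (⟨z, hzL⟩ : ↥L) ^ 2 ^ e = 1 := Subtype.ext (by simpa using congrArg Subtype.val he)
      rw [this, map_one]
    rw [← orderOf_eq_one_iff]
    exact Nat.eq_one_of_dvd_coprimes (Nat.Coprime.pow_right _ (by norm_num : Nat.Coprime 3 2))
      (orderOf_dvd_of_pow_eq_one h1) (orderOf_dvd_of_pow_eq_one he')
  · refine CfsgLib.CharP.subgroup_le_pCore_map inf_le_left ?_ ((pCoreOf_isPGroup L).to_le inf_le_right)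
    refine le_trans (le_inf Subgroup.le_normalizer ?_) Subgroup.inf_normalizer_le_normalizer_inf
    exact (liftComp_le L r).trans c.L_le_normalizer_core

theorem relIndex_liftComp (hr : c.IsLift t ρ r) :
    (pCoreOf 2 (liftComp L r)).relIndex (liftComp L r) = 3 := by
  rw [c.pCoreOf_liftComp hr, Subgroup.inf_relIndex_left]
  let ψ : ↥(liftComp L r) →* ↥L ⧸ Cfsg.pCore 2 ↥L :=
    (modCore L).comp (Subgroup.inclusion (liftComp_le L r))
  have hker : ψ.ker = (pCoreOf 2 L).subgroupOf (liftComp L r) := by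
    ext k
    rw [MonoidHom.mem_ker, Subgroup.mem_subgroupOf]
    exact modCore_eq_one
  have hrange : ψ.range = Subgroup.zpowers r := by
    refine le_antisymm ?_ ?_
    · rintro _ ⟨k, rfl⟩
      exact modCore_mem_of_liftComp (k := Subgroup.inclusion (liftComp_le L r) k) k.2
    · obtain ⟨y, hy, -, hyK⟩ := c.exists_odd_lift hr
      rw [Subgroup.zpowers_le]
      exact ⟨⟨y, hyK⟩, hy⟩
  rw [Subgroup.relIndex, ← hker, Subgroup.index_ker, hrange, Nat.card_zpowers, hr.order]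

theorem commutator_liftComp (ht : t ∈ c.imJ) (hr : c.IsLift t ρ r) :
    ⁅liftComp L r, thompsonSubgroupOf 2 T⁆ = liftComp L r := by
  set K := liftComp L r with hK
  set J := thompsonSubgroupOf 2 T with hJ
  have hle : ⁅K, J⁆ ≤ K := Subgroup.le_normalizer_iff_commutator_le_left.mp (c.thompson_le_normalizer_liftComp hr)
  refine le_antisymm hle ?_
  obtain ⟨y, hy, -, hyK⟩ := c.exists_odd_lift hr
  obtain ⟨j, hjJ, hjt⟩ := ht
  have hcmem : ⁅(y : G), (j : G)⁆ ∈ ⁅K, J⁆ := Subgroup.commutator_mem_commutator hyK hjJ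
  have hc : modCore L ⁅y, j⁆ = r * r := by
    have h := hr.inverted j hjJ hjt
    rw [map_commutatorElement, hy, commutatorElement_def]
    calc r * modCore L j * r⁻¹ * (modCore L j)⁻¹ = r * (modCore L j * r * (modCore L j)⁻¹)⁻¹ := by group
      _ = r * r := by rw [h, inv_inv]
  have hn : K ≤ Subgroup.normalizer ((⁅K, J⁆ : Subgroup G) : Set G) := Subgroup.normalizer_commutator_ge_left K J
  rw [hK, liftComp, Subgroup.closure_le]
  intro z hz
  have hzK : z ∈ K := Subgroup.subset_closure hz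
  have hodd := hz.2
  have hzL := liftComp_le L r hzK
  -- `z = p · c^i` with `p` a 2-element of `K`
  set z' : ↥L := ⟨z, hzL⟩
  set e : ↥L := ⁅y, j⁆
  have he : (e : G) = ⁅(y : G), (j : G)⁆ := by simp [e, commutatorElement_def]
  have her : Subgroup.zpowers (modCore L e) = Subgroup.zpowers r := by
    rw [hc]
    refine le_antisymm (Subgroup.zpowers_le.mpr (mul_mem (Subgroup.mem_zpowers r) (Subgroup.mem_zpowers r))) ?_
    rw [Subgroup.zpowers_le]
    refine ⟨2, ?_⟩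
    show (r * r) ^ (2 : ℤ) = r
    rw [show (2 : ℤ) = ((2 : ℕ) : ℤ) from rfl, zpow_natCast, pow_two]
    calc r * r * (r * r) = r * r * r * r := by group
      _ = r ^ 3 * r := by rw [pow_succ, pow_two]
      _ = r := by rw [hr.pow_eq, one_mul]
  have hzr : modCore L z' ∈ Subgroup.zpowers (modCore L e) := her ▸ modCore_mem_of_liftComp (k := z') hzK
  obtain ⟨i, hi⟩ := Subgroup.mem_zpowers_iff.mp hzr
  have hu : (e : G) ^ i ∈ ⁅K, J⁆ := zpow_mem (he ▸ hcmem) i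
  set p := z * ((e : G) ^ i)⁻¹ with hp
  have hpP : p ∈ pCoreOf 2 L := by
    have h1 : modCore L (z' * (e ^ i)⁻¹) = 1 := by rw [map_mul, map_inv, map_zpow, hi, mul_inv_cancel]
    have h2 := modCore_eq_one.mp h1
    simpa [hp] using h2
  have hpK : p ∈ K := mul_mem hzK (inv_mem (hle hu))
  obtain ⟨a, ha⟩ := pCoreOf_isPGroup L ⟨p, hpP⟩
  have ha' : p ^ 2 ^ a = 1 := by simpa using congrArg Subtype.val ha
  have key : ∀ n : ℕ, ∃ u ∈ ⁅K, J⁆, z ^ n = u * p ^ n := by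
    intro n
    induction n with
    | zero => exact ⟨1, one_mem _, by simp⟩
    | succ n ih =>
      obtain ⟨u, hu', hzn⟩ := ih
      refine ⟨u * (p ^ n * (p * (e : G) ^ i * p⁻¹) * (p ^ n)⁻¹), mul_mem hu' ?_, ?_⟩
      · refine (Subgroup.mem_normalizer_iff.mp (hn (pow_mem hpK n)) _).mp ?_
        exact (Subgroup.mem_normalizer_iff.mp (hn hpK) _).mp hu
      · rw [pow_succ, hzn, pow_succ, hp]; group
  obtain ⟨u, hu', hzn⟩ := key (2 ^ a)
  rw [ha', mul_one] at hzn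
  obtain ⟨m, hm⟩ := exists_pow_eq_self_of_coprime (x := z) (n := 2 ^ a)
    (Nat.Coprime.pow_left _ (Nat.coprime_two_left.mpr hodd))
  rw [SetLike.mem_coe, ← hm, hzn]
  exact pow_mem hu' m

theorem sylow_cond_liftComp {S : Subgroup G}
    (hS : IsSylowTwoIn S (liftComp L r ⊔ thompsonSubgroupOf 2 T)) (hJS : thompsonSubgroupOf 2 T ≤ S) :
    thompsonSubgroupOf 2 S = thompsonSubgroupOf 2 T :=
  c.thompson_eq hS.2.1 (hS.1.trans (sup_le (liftComp_le L r) ((thompsonSubgroupOf_le 2 T).trans c.T_le))) hJS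

/-- The plane in `G`. -/
theorem plane_le_omega (hp : FF.IsPlane c.act.range.subtype (Cfsg.fittingSubgroup ↥c.act.range) t v ρ)
    (hr : c.IsLift t ρ r) :
    (Subgroup.closure {v, c.act.range.subtype ρ v}).map (modV T L).subtype ≤ wOf (liftComp L r) := by
  obtain ⟨y, hy, -, hyK⟩ := c.exists_odd_lift hr
  set K := liftComp L r with hK
  have hρy : ∀ m : ↥(modV T L), ((c.act.range.subtype ρ m : ↥(modV T L)) : G) = y * m * (y : G)⁻¹ := fun m => by
    rw [← hr.proj y hy]; rfl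
  set W0 := (Subgroup.closure {v, c.act.range.subtype ρ v}).map (modV T L).subtype with hW0
  -- the plane is spanned by shifts
  have hspan : ∀ m ∈ Subgroup.closure {v, c.act.range.subtype ρ v},
      ∃ u ∈ Subgroup.closure {v, c.act.range.subtype ρ v}, m = u⁻¹ * c.act.range.subtype ρ u := by
    intro m hm
    rcases FF.mem_pair modV_exp2 hm with e | e | e | e
    · exact ⟨1, one_mem _, by rw [e]; simp⟩
    · exact ⟨_, FF.IsPlane.w_mem ρ v, by rw [e, hp.axis_img, inv_mul_cancel_left]⟩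
    · refine ⟨v * c.act.range.subtype ρ v, mul_mem (FF.IsPlane.v_mem ρ v) (FF.IsPlane.w_mem ρ v), ?_⟩
      rw [e, map_mul, hp.axis_img, FF.inv_eq_self modV_exp2]
      calc c.act.range.subtype ρ v = v * v * (c.act.range.subtype ρ v * c.act.range.subtype ρ v) * c.act.range.subtype ρ v := by
            rw [modV_exp2, modV_exp2, one_mul, one_mul]
        _ = _ := by ac_rfl
    · exact ⟨v, FF.IsPlane.v_mem ρ v, by rw [e, FF.inv_eq_self modV_exp2]⟩
  have hcomm : ∀ m : ↥(modV T L), ((m⁻¹ * c.act.range.subtype ρ m : ↥(modV T L)) : G) = ⁅(m : G)⁻¹, (y : G)⁆ := by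
    intro m
    rw [Subgroup.coe_mul, Subgroup.coe_inv, hρy, commutatorElement_def, inv_inv]
    have hc : y * (m : G) * (y : G)⁻¹ ∈ modV T L := (Subgroup.mem_normalizer_iff.mp (c.L_le_normalizer_modV y.2) _).mp m.2
    have hw : (m : G) * (y * (m : G) * (y : G)⁻¹) = y * (m : G) * (y : G)⁻¹ * m :=
      congrArg Subtype.val (mul_comm (m : ↥(modV T L)) ⟨_, hc⟩)
    have hm2 : (m : G)⁻¹ = m := inv_eq_of_mul_eq_one_right (congrArg Subtype.val (modV_exp2 m))
    calc (m : G)⁻¹ * (y * m * (y : G)⁻¹) = (m : G) * (y * m * (y : G)⁻¹) := by rw [hm2]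
      _ = y * m * (y : G)⁻¹ * m := hw
      _ = _ := by
        rw [hm2]
        have hw' := hw
        rw [← hw]
        group
  -- `W0 ≤ Ω₁(Z(O₂(K)))`
  have hW0V : W0 ≤ omegaCenterOf (pCoreOf 2 K) := by
    rintro _ ⟨m, hm, rfl⟩
    obtain ⟨u, -, he⟩ := hspan m hm
    rw [c.pCoreOf_liftComp hr]
    have hmK : (m : G) ∈ K := by
      rw [he, hcomm, commutatorElement_def]
      exact K.mul_mem ((Subgroup.mem_normalizer_iff.mp
        (c.core_le_normalizer_liftComp r (inv_mem (modV_le_core u.2))) _).mp hyK) (K.inv_mem hyK)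
    refine mem_omegaCenterOf.mpr ⟨⟨hmK, modV_le_core m.2⟩, fun z hz => ?_, ?_⟩
    · exact (mem_omegaCenterOf.mp m.2.2).2.1 z hz.2
    · exact (mem_omegaCenterOf.mp m.2.2).2.2
  rintro _ ⟨m, hm, rfl⟩
  obtain ⟨u, hu, he⟩ := hspan m hm
  show (m : G) ∈ wOf K
  rw [he, hcomm]
  exact Subgroup.commutator_mem_commutator (inv_mem (hW0V ⟨u, hu, rfl⟩)) hyK

theorem card_plane (hp : FF.IsPlane c.act.range.subtype (Cfsg.fittingSubgroup ↥c.act.range) t v ρ) :
    Nat.card ↥((Subgroup.closure {v, c.act.range.subtype ρ v}).map (modV T L).subtype) = 4 := by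
  classical
  rw [Subgroup.card_map_of_injective (modV T L).subtype_injective, ← SetLike.coe_sort_coe,
    Nat.card_coe_set_eq, Set.ncard_eq_toFinset_card _ (Set.toFinite _)]
  set w := c.act.range.subtype ρ v with hw
  have hw1 : w ≠ 1 := fun h => hp.trans.2.1 ((MulEquiv.map_eq_one_iff _).mp h)
  have hne : w ≠ v := hp.move_v
  have hv1 := hp.trans.2.1
  have e1 : v * w ≠ 1 := fun h => hne (by rw [eq_inv_of_mul_eq_one_right h, FF.inv_eq_self modV_exp2])
  have e2 : v * w ≠ v := fun h => hw1 (mul_eq_left.mp h)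
  have e3 : v * w ≠ w := fun h => hv1 (mul_eq_right.mp h)
  have heq : ((Subgroup.closure {v, w} : Subgroup ↥(modV T L)) : Set ↥(modV T L)).toFinite.toFinset =
      ({1, v, w, v * w} : Finset ↥(modV T L)) := by
    ext x
    rw [Set.Finite.mem_toFinset]
    simp only [Finset.mem_insert, Finset.mem_singleton]
    refine ⟨fun hx => FF.mem_pair modV_exp2 hx, ?_⟩
    have h3 : v ∈ Subgroup.closure ({v, w} : Set ↥(modV T L)) := Subgroup.subset_closure (Or.inl rfl)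
    have h4 : w ∈ Subgroup.closure ({v, w} : Set ↥(modV T L)) := Subgroup.subset_closure (Or.inr rfl)
    rintro (rfl | rfl | rfl | rfl)
    · exact one_mem _
    · exact h3
    · exact h4
    · exact mul_mem h3 h4
  rw [heq]
  simp [Finset.card_insert_of_notMem, Ne.symm hv1, Ne.symm hw1, Ne.symm hne, Ne.symm e1, Ne.symm e2, Ne.symm e3]

/-- The four-group of the component. -/
theorem card_wOf_le (ht : t ∈ c.imJ) (hr : c.IsLift t ρ r) : Nat.card ↥(wOf (liftComp L r)) ≤ 4 := by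
  classical
  haveI : Fact (Nat.Prime 2) := ⟨Nat.prime_two⟩
  set K := liftComp L r with hK
  set D := wOf K with hD
  have cD : ∀ p ∈ D, ∀ q ∈ D, p * q = q * p := fun p hp q hq => wOf_central hq (wOf_le_pCoreOf K hp)
  letI : CommGroup ↥D :=
    { (inferInstance : Group ↥D) with mul_comm := fun p q => Subtype.ext (cD p p.2 q q.2) }
  have hD2 : ∀ d : ↥D, d * d = 1 := fun d => Subtype.ext (by
    rw [Subgroup.coe_mul, ← pow_two]
    exact (mem_omegaCenterOf.mp (wOf_le_omegaCenter K d.2)).2.2)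
  by_contra hbig
  push Not at hbig
  obtain ⟨y, hy, hyodd, hyK⟩ := c.exists_odd_lift hr
  have hKn : K ≤ Subgroup.normalizer (D : Set G) := Subgroup.le_normalizer.trans (normalizer_le_normalizer_wOf K)
  let β : ↥(Subgroup.normalizer (D : Set G)) →* MulAut ↥D := Subgroup.normalizerMonoidHom D
  have hβtriv : ∀ g : ↥(Subgroup.normalizer (D : Set G)), (g : G) ∈ pCoreOf 2 L → (g : G) ∈ K → β g = 1 := by
    intro g hgP hgK
    refine MulEquiv.ext fun d => Subtype.ext ?_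
    have hg : (g : G) ∈ pCoreOf 2 K := by rw [c.pCoreOf_liftComp hr]; exact ⟨hgK, hgP⟩
    show (g : G) * d * (g : G)⁻¹ = d
    rw [wOf_central d.2 hg, mul_inv_cancel_right]
  set yN : ↥(Subgroup.normalizer (D : Set G)) := ⟨y, hKn hyK⟩
  set σ := β yN with hσdef
  have hσ3 : σ ^ 3 = 1 := by
    rw [hσdef, ← map_pow]
    refine hβtriv _ ?_ ?_
    · show ((y ^ 3 : ↥L) : G) ∈ pCoreOf 2 L
      rw [← modCore_eq_one, map_pow, hy, hr.pow_eq]
    · rw [SubmonoidClass.coe_pow]; exact pow_mem hyK 3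
  -- fixed point freeness
  set V' := omegaCenterOf (pCoreOf 2 K) with hV'
  have cV : ∀ p ∈ V', ∀ q ∈ V', p * q = q * p := fun p hp q hq =>
    (mem_omegaCenterOf.mp hq).2.1 p (mem_omegaCenterOf.mp hp).1
  have hV2 : ∀ p ∈ V', p⁻¹ = p := fun p hp => inv_eq_of_mul_eq_one_right (by
    rw [← pow_two]; exact (mem_omegaCenterOf.mp hp).2.2)
  have hyV : ∀ i : ℕ, ∀ u ∈ V', (y : G) ^ i * u * ((y : G) ^ i)⁻¹ ∈ V' := fun i u hu =>
    conj_mem_omegaCenterOf (normalizer_le_normalizer_pCoreOf K (Subgroup.le_normalizer (pow_mem hyK i))) hu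
  let Im : Subgroup G :=
    { carrier := {m | ∃ u ∈ V', m = u⁻¹ * (y * u * (y : G)⁻¹)}
      one_mem' := ⟨1, one_mem _, by simp⟩
      mul_mem' := by
        rintro p q ⟨u, hu, rfl⟩ ⟨w, hw, rfl⟩
        refine ⟨u * w, mul_mem hu hw, ?_⟩
        have h1 := hyV 1 u hu
        rw [pow_one] at h1
        have h2 := cV _ h1 _ (inv_mem hw)
        calc u⁻¹ * (y * u * (y : G)⁻¹) * (w⁻¹ * (y * w * (y : G)⁻¹))
            = u⁻¹ * ((y * u * (y : G)⁻¹) * w⁻¹) * (y * w * (y : G)⁻¹) := by group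
          _ = u⁻¹ * (w⁻¹ * (y * u * (y : G)⁻¹)) * (y * w * (y : G)⁻¹) := by rw [h2]
          _ = (u⁻¹ * w⁻¹) * (y * (u * w) * (y : G)⁻¹) := by group
          _ = (w⁻¹ * u⁻¹) * (y * (u * w) * (y : G)⁻¹) := by rw [cV _ (inv_mem hu) _ (inv_mem hw)]
          _ = _ := by group
      inv_mem' := by
        rintro p ⟨u, hu, rfl⟩
        refine ⟨u⁻¹, inv_mem hu, ?_⟩
        have h1 := hyV 1 u hu
        rw [pow_one] at h1
        rw [mul_inv_rev, inv_inv, cV _ (inv_mem h1) _ hu]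
        group }
  have hDIm : D ≤ Im := by
    rw [hD, wOf, Subgroup.commutator_le]
    intro u hu k hk
    obtain ⟨i, p, hpP, hpK, rfl⟩ := c.exists_lift_pow hr hy hyK hk
    have hp' : p ∈ pCoreOf 2 K := by rw [c.pCoreOf_liftComp hr]; exact ⟨hpK, hpP⟩
    have hw := hyV i _ (inv_mem hu)
    have hc := (mem_omegaCenterOf.mp hw).2.1 p hp'
    have he : ⁅u, p * (y : G) ^ i⁆ = u * (p * ((y : G) ^ i * u⁻¹ * ((y : G) ^ i)⁻¹) * p⁻¹) := by
      simp only [commutatorElement_def]; group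
    rw [he, hc, mul_inv_cancel_right]
    clear hc he hw hk
    induction i with
    | zero => simp
    | succ i ih =>
      set a := (y : G) ^ i * u⁻¹ * ((y : G) ^ i)⁻¹ with ha
      have haV : a ∈ V' := hyV i _ (inv_mem hu)
      have hstep : (y : G) ^ (i + 1) * u⁻¹ * ((y : G) ^ (i + 1))⁻¹ = a * (a⁻¹ * (y * a * (y : G)⁻¹)) := by
        rw [mul_inv_cancel_left, ha, pow_succ']; group
      rw [hstep, ← mul_assoc]
      exact mul_mem ih ⟨a, haV, rfl⟩
  have hfpf : ∀ d, σ d = d → d = 1 := by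
    intro d hd
    obtain ⟨u, hu, he⟩ := hDIm d.2
    have hfix : (y : G) * d * (y : G)⁻¹ = d := congrArg Subtype.val hd
    have hyu : (y : G) * u * (y : G)⁻¹ = u * d := by rw [he]; group
    have hy3 : (y : G) ^ 3 * u * ((y : G) ^ 3)⁻¹ = u := by
      have hy3K : (y : G) ^ 3 ∈ pCoreOf 2 K := by
        rw [c.pCoreOf_liftComp hr]
        refine ⟨pow_mem hyK 3, ?_⟩
        show ((y ^ 3 : ↥L) : G) ∈ pCoreOf 2 L
        rw [← modCore_eq_one, map_pow, hy, hr.pow_eq]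
      rw [(mem_omegaCenterOf.mp hu).2.1 _ hy3K, mul_inv_cancel_right]
    have hy3' : (y : G) ^ 3 * u * ((y : G) ^ 3)⁻¹ = u * (d * d * d) := by
      calc (y : G) ^ 3 * u * ((y : G) ^ 3)⁻¹
          = y * (y * (y * u * (y : G)⁻¹) * (y : G)⁻¹) * (y : G)⁻¹ := by rw [pow_succ, pow_two]; group
        _ = y * ((y * u * (y : G)⁻¹) * (y * d * (y : G)⁻¹)) * (y : G)⁻¹ := by nth_rw 1 [hyu]; group
        _ = y * (u * d * d) * (y : G)⁻¹ := by rw [hfix, hyu]
        _ = (y * u * (y : G)⁻¹) * (y * d * (y : G)⁻¹) * (y * d * (y : G)⁻¹) := by group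
        _ = u * (d * d * d) := by rw [hfix, hyu]; group
    rw [hy3, left_eq_mul] at hy3'
    have h2 : (d : G) * d = 1 := congrArg Subtype.val (hD2 d)
    rw [h2, one_mul] at hy3'
    exact Subtype.ext hy3'
  -- a largest elementary abelian subgroup moving `r`
  set J := thompsonSubgroupOf 2 T with hJ
  obtain ⟨j₀, hj₀, hjt⟩ := ht
  obtain ⟨A, hA, a₁, ha₁, ha₁r⟩ : ∃ A ∈ maxEAIn 2 T, ∃ a : ↥L, (a : G) ∈ A ∧
      modCore L a * r * (modCore L a)⁻¹ ≠ r := by
    by_contra hall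
    push Not at hall
    have hle : J ≤ ((Subgroup.centralizer ({r} : Set (↥L ⧸ Cfsg.pCore 2 ↥L))).comap (modCore L)).map L.subtype := by
      rw [hJ, thompsonSubgroupOf_eq]
      refine sSup_le fun A hA a ha => ?_
      refine ⟨⟨a, c.T_le (hA.1 ha)⟩, Subgroup.mem_centralizer_singleton_iff.mpr ?_, rfl⟩
      exact mul_inv_eq_iff_eq_mul.mp (hall A hA ⟨a, c.T_le (hA.1 ha)⟩ ha)
    obtain ⟨j', hj', hje⟩ := hle hj₀
    obtain rfl : j' = j₀ := Subtype.ext hje
    have h := hr.inverted j' hj₀ hjt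
    rw [Subgroup.mem_centralizer_singleton_iff.mp hj', mul_inv_cancel_right, eq_inv_iff_mul_eq_one, ← pow_two,
      ← orderOf_dvd_iff_pow_eq_one, hr.order] at h
    omega
  obtain ⟨hAT, hAe, hAmax⟩ := hA
  have cA : ∀ p ∈ A, ∀ q ∈ A, p * q = q * p := fun p hp q hq =>
    congrArg Subtype.val (hAe.1.is_comm.comm ⟨p, hp⟩ ⟨q, hq⟩)
  have hAL : A ≤ L := hAT.trans c.T_le
  have hAJ : A ≤ J := by rw [hJ, thompsonSubgroupOf_eq]; exact le_sSup ⟨hAT, hAe, hAmax⟩
  have hAn : A ≤ Subgroup.normalizer (D : Set G) :=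
    hAJ.trans ((c.thompson_le_normalizer_liftComp hr).trans (normalizer_le_normalizer_wOf K))
  set A₀ : Subgroup G := A ⊓ ((Subgroup.centralizer ({r} : Set (↥L ⧸ Cfsg.pCore 2 ↥L))).comap (modCore L)).map L.subtype with hA₀
  have memA₀ : ∀ a : ↥L, (a : G) ∈ A₀ ↔ (a : G) ∈ A ∧ modCore L a * r * (modCore L a)⁻¹ = r := by
    intro a
    rw [hA₀, Subgroup.mem_inf]
    refine and_congr_right fun _ => ⟨?_, fun h => ⟨a, Subgroup.mem_centralizer_singleton_iff.mpr (mul_inv_eq_iff_eq_mul.mp h), rfl⟩⟩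
    rintro ⟨a', ha', hae⟩
    obtain rfl : a' = a := Subtype.ext hae
    rw [Subgroup.mem_centralizer_singleton_iff.mp ha', mul_inv_cancel_right]
  have hinvA : ∀ a : ↥L, (a : G) ∈ A → (a : G) ∉ A₀ → modCore L a * r * (modCore L a)⁻¹ = r⁻¹ := fun a ha ha' =>
    (hr.act _ ⟨a, hAJ ha, rfl⟩).resolve_left fun h => ha' ((memA₀ a).mpr ⟨ha, h⟩)
  have ha₁' : modCore L a₁ * r * (modCore L a₁)⁻¹ = r⁻¹ := (hr.act _ ⟨a₁, hAJ ha₁, rfl⟩).resolve_left ha₁r
  have hAcard : Nat.card A ≤ 2 * Nat.card A₀ := by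
    have hidx : (A₀.subgroupOf A).index ≤ 2 := by
      rw [Subgroup.index_eq_card, ← Nat.card_fin 2]
      refine Nat.card_le_card_of_surjective
        (fun i : Fin 2 => ((if i = 0 then 1 else ⟨a₁, ha₁⟩ : ↥A) : ↥A ⧸ A₀.subgroupOf A)) ?_
      intro q
      obtain ⟨⟨b, hb⟩, rfl⟩ := QuotientGroup.mk_surjective q
      by_cases hb0 : b ∈ A₀
      · refine ⟨0, ?_⟩
        rw [QuotientGroup.eq, Subgroup.mem_subgroupOf]
        simpa using hb0
      · refine ⟨1, ?_⟩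
        rw [QuotientGroup.eq, Subgroup.mem_subgroupOf]
        simp only [one_ne_zero, if_false, Subgroup.coe_mul, Subgroup.coe_inv]
        have h1 : (a₁ : G)⁻¹ * b = ((a₁⁻¹ * ⟨b, hAL hb⟩ : ↥L) : G) := rfl
        rw [h1, memA₀]
        refine ⟨A.mul_mem (A.inv_mem ha₁) hb, ?_⟩
        have hbr := hinvA ⟨b, hAL hb⟩ hb hb0
        set a := modCore L a₁
        set b' := modCore L ⟨b, hAL hb⟩
        rw [map_mul, map_inv]
        calc a⁻¹ * b' * r * (a⁻¹ * b')⁻¹ = a⁻¹ * (b' * r * b'⁻¹) * a := by group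
          _ = a⁻¹ * r⁻¹ * a := by rw [hbr]
          _ = a⁻¹ * (a * r * a⁻¹) * a := by rw [ha₁']
          _ = r := by group
    rw [← Subgroup.relIndex_bot_left, ← Subgroup.relIndex_bot_left,
      ← Subgroup.relIndex_mul_relIndex _ _ _ bot_le (inf_le_left : A₀ ≤ A), mul_comm 2]
    exact Nat.mul_le_mul_left _ hidx
  set a₁N : ↥(Subgroup.normalizer (D : Set G)) := ⟨a₁, hAn ha₁⟩
  set τ := β a₁N with hτdef
  let ι : ↥A₀ →* MulAut ↥D :=
    β.comp (Subgroup.inclusion ((inf_le_left : A₀ ≤ A).trans hAn))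
  set B := ι.range with hB
  have hτ2 : τ * τ = 1 := by
    rw [hτdef, ← map_mul]
    have h : a₁N * a₁N = 1 := Subtype.ext (by
      show (a₁ : G) * a₁ = 1
      rw [← pow_two]; exact hAe.2 _ ha₁)
    rw [h, map_one]
  have hinvτ : τ * σ * τ⁻¹ = σ⁻¹ := by
    have h : β (a₁N * yN * a₁N⁻¹ * yN) = 1 := by
      have h1 : modCore L (a₁ * y * a₁⁻¹ * y) = 1 := by
        rw [map_mul, map_mul, map_mul, map_inv, hy, ha₁', inv_mul_cancel]
      refine hβtriv _ (modCore_eq_one.mp h1) ?_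
      show (a₁ : G) * y * (a₁ : G)⁻¹ * y ∈ K
      exact K.mul_mem ((Subgroup.mem_normalizer_iff.mp (c.thompson_le_normalizer_liftComp hr (hAJ ha₁)) _).mp hyK) hyK
    rw [map_mul, map_mul, map_mul, map_inv] at h
    exact eq_inv_of_mul_eq_one_left h
  have hBp : IsPGroup 2 B := by
    rintro ⟨_, a, rfl⟩
    exact ⟨1, Subtype.ext (by
      show ι a ^ 2 ^ 1 = 1
      rw [pow_one, ← map_pow, show a ^ 2 = 1 from Subtype.ext (by simpa using hAe.2 _ (Subgroup.mem_inf.mp a.2).1), map_one])⟩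
  have hBσ : ∀ b ∈ B, b * σ = σ * b := by
    rintro _ ⟨a, rfl⟩
    have haA := (Subgroup.mem_inf.mp a.2).1
    set aN : ↥(Subgroup.normalizer (D : Set G)) := ⟨a, hAn haA⟩
    have h : β (aN * yN * aN⁻¹ * yN⁻¹) = 1 := by
      have h1 : modCore L (⟨a, hAL haA⟩ * y * ⟨a, hAL haA⟩⁻¹ * y⁻¹) = 1 := by
        rw [map_mul, map_mul, map_mul, map_inv, map_inv, hy, ((memA₀ ⟨a, hAL haA⟩).mp a.2).2, mul_inv_cancel]
      refine hβtriv _ (modCore_eq_one.mp h1) ?_
      show (a : G) * y * (a : G)⁻¹ * (y : G)⁻¹ ∈ K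
      exact K.mul_mem ((Subgroup.mem_normalizer_iff.mp (c.thompson_le_normalizer_liftComp hr (hAJ haA)) _).mp hyK)
        (K.inv_mem hyK)
    rw [map_mul, map_mul, map_mul, map_inv, map_inv, mul_inv_eq_one, mul_inv_eq_iff_eq_mul] at h
    exact h
  have hBA : ∀ b ∈ B, ∀ a' : ↥(Subgroup.normalizer (D : Set G)), (a' : G) ∈ A → b * β a' = β a' * b := by
    rintro _ ⟨a, rfl⟩ a' ha'
    show β _ * β a' = β a' * β _
    rw [← map_mul, ← map_mul]
    exact congrArg β (Subtype.ext (cA _ (Subgroup.mem_inf.mp a.2).1 _ ha'))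
  set Y := (A ⊓ D).subgroupOf D with hYdef
  have hYle : Y ≤ Bound.fixedAll B ⊓ Bound.fixedOf τ := by
    intro d hd
    have hdA : (d : G) ∈ A := (Subgroup.mem_inf.mp hd).1
    have key : ∀ a' : ↥(Subgroup.normalizer (D : Set G)), (a' : G) ∈ A → β a' d = d := fun a' ha' => Subtype.ext (by
      show (a' : G) * d * (a' : G)⁻¹ = d
      rw [cA _ ha' _ hdA, mul_inv_cancel_right])
    refine ⟨Bound.mem_fixedAll.mpr ?_, key a₁N ha₁⟩
    rintro _ ⟨a, rfl⟩
    exact key _ (Subgroup.mem_inf.mp a.2).1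
  have hDe : IsElementaryAbelian 2 D :=
    ⟨⟨⟨fun p q => Subtype.ext (cD _ p.2 _ q.2)⟩⟩, fun p hp => (mem_omegaCenterOf.mp (wOf_le_omegaCenter K hp)).2.2⟩
  have hDT : D ≤ T := by
    refine le_trans ?_ c.core_le_T
    exact (wOf_le_pCoreOf K).trans ((c.pCoreOf_liftComp hr).le.trans inf_le_right)
  have hYcard : Nat.card ↥Y = Nat.card ↥(A ⊓ D) :=
    Nat.card_congr (Subgroup.subgroupOfEquivOfLe inf_le_right).toEquiv
  -- first inequality
  have h1 : Nat.card ↥(Bound.fixedAll B) ≤ 2 * Nat.card ↥Y := by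
    set CB := (Bound.fixedAll B).map D.subtype with hCB
    have hCBc : Nat.card CB = Nat.card ↥(Bound.fixedAll B) := Subgroup.card_map_of_injective D.subtype_injective
    have hcomm : ∀ a ∈ A₀, ∀ d ∈ CB, a * d = d * a := by
      rintro a ha _ ⟨d, hd, rfl⟩
      have h : a * (d : G) * a⁻¹ = d := congrArg Subtype.val (Bound.mem_fixedAll.mp hd _ ⟨⟨a, ha⟩, rfl⟩)
      show a * (d : G) = d * a
      calc a * (d : G) = a * (d : G) * a⁻¹ * a := by group
        _ = d * a := by rw [h]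
    have hsup := isEA_sup (isEA_le hAe (inf_le_left : A₀ ≤ A)) (isEA_le hDe (Subgroup.map_subtype_le _)) hcomm
    have hm := hAmax _ (sup_le ((inf_le_left : A₀ ≤ A).trans hAT) ((Subgroup.map_subtype_le _).trans hDT)) hsup
    have hcard := CfsgLib.PLoc.card_sup_mul_card_inf (H := A₀) (N := CB) (fun a ha => by
      refine Subgroup.centralizer_le_normalizer _ (Subgroup.mem_centralizer_iff.mpr fun d hd => (hcomm a ha d hd).symm))
    have hinf : Nat.card ↥(A₀ ⊓ CB) ≤ Nat.card ↥Y := by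
      rw [hYcard]
      exact Nat.le_of_dvd Nat.card_pos (Subgroup.card_dvd_of_le (inf_le_inf inf_le_left (Subgroup.map_subtype_le _)))
    rw [← hCBc]
    refine Nat.le_of_mul_le_mul_left ?_ (Nat.card_pos (α := ↥A₀))
    calc Nat.card A₀ * Nat.card CB = Nat.card ↥(A₀ ⊔ CB) * Nat.card ↥(A₀ ⊓ CB) := hcard.symm
      _ ≤ (2 * Nat.card A₀) * Nat.card ↥Y := Nat.mul_le_mul (hm.trans hAcard) hinf
      _ = Nat.card A₀ * (2 * Nat.card ↥Y) := by ring
  -- second inequality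
  have h2 : Nat.card ↥D ≤ 2 * Nat.card ↥B * Nat.card ↥Y := by
    set CA : Subgroup G := A₀ ⊓ Subgroup.centralizer (D : Set G) with hCA
    have hcomm : ∀ a ∈ CA, ∀ d ∈ D, a * d = d * a := fun a ha d hd =>
      (Subgroup.mem_centralizer_iff.mp (Subgroup.mem_inf.mp ha).2 d hd).symm
    have hsup := isEA_sup (isEA_le hAe (inf_le_left.trans inf_le_left : CA ≤ A)) hDe hcomm
    have hm := hAmax _ (sup_le ((inf_le_left.trans inf_le_left : CA ≤ A).trans hAT) hDT) hsup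
    have hcard := CfsgLib.PLoc.card_sup_mul_card_inf (H := CA) (N := D)
      (inf_le_right.trans (Subgroup.centralizer_le_normalizer _))
    have hinf : Nat.card ↥(CA ⊓ D) ≤ Nat.card ↥Y := by
      rw [hYcard]
      exact Nat.le_of_dvd Nat.card_pos (Subgroup.card_dvd_of_le (inf_le_inf_right _ (inf_le_left.trans inf_le_left)))
    have hker : Nat.card ι.ker = Nat.card CA := by
      refine Nat.card_congr
        { toFun := fun a => ⟨(a : ↥A₀), (a : ↥A₀).2, Subgroup.mem_centralizer_iff.mpr fun d hd => ?_⟩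
          invFun := fun a => ⟨⟨a, a.2.1⟩, MulEquiv.ext fun d => Subtype.ext ?_⟩
          left_inv := fun a => rfl
          right_inv := fun a => rfl }
      · have h : ((a : ↥A₀) : G) * d * ((a : ↥A₀) : G)⁻¹ = d :=
          congrArg Subtype.val (DFunLike.congr_fun a.2 (⟨d, hd⟩ : ↥D))
        calc d * ((a : ↥A₀) : G) = ((a : ↥A₀) : G) * d * ((a : ↥A₀) : G)⁻¹ * (a : ↥A₀) := by rw [h]
          _ = _ := by group
      · show (a : G) * d * (a : G)⁻¹ = d
        rw [hcomm a a.2 d d.2, mul_inv_cancel_right]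
    have hsplit : Nat.card A₀ = Nat.card CA * Nat.card B := by
      rw [← hker, hB, ← Subgroup.index_ker, Subgroup.card_mul_index]
    refine Nat.le_of_mul_le_mul_left ?_ (Nat.card_pos (α := ↥CA))
    calc Nat.card CA * Nat.card D = Nat.card ↥(CA ⊔ D) * Nat.card ↥(CA ⊓ D) := hcard.symm
      _ ≤ (2 * Nat.card A₀) * Nat.card ↥Y := Nat.mul_le_mul (hm.trans hAcard) hinf
      _ = Nat.card CA * (2 * Nat.card B * Nat.card ↥Y) := by rw [hsplit]; ring
  have hle := Bound.card_le_four hD2 σ τ B hσ3 hfpf hτ2 hinvτ hBp hBσ (fun b hb => hBA b hb a₁N ha₁)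
    (by rintro b hb _ ⟨a, rfl⟩; exact hBA b hb _ (Subgroup.mem_inf.mp a.2).1) Y hYle h1 h2
  omega

theorem wOf_liftComp (ht : t ∈ c.imJ)
    (hp : FF.IsPlane c.act.range.subtype (Cfsg.fittingSubgroup ↥c.act.range) t v ρ)
    (hr : c.IsLift t ρ r) :
    wOf (liftComp L r) = (Subgroup.closure {v, c.act.range.subtype ρ v}).map (modV T L).subtype :=
  (eq_of_le_card_le (c.plane_le_omega hp hr) (by rw [c.card_plane hp]; exact c.card_wOf_le ht hr)).symm

theorem isJComponent_liftComp (ht : t ∈ c.imJ)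
    (hp : FF.IsPlane c.act.range.subtype (Cfsg.fittingSubgroup ↥c.act.range) t v ρ)
    (hr : c.IsLift t ρ r) : IsJComponent T (liftComp L r) := by
  refine ⟨?_, c.commutator_liftComp ht hr, c.relIndex_liftComp hr, fun S hS hJS => c.sylow_cond_liftComp hS hJS, ?_, ?_⟩
  · refine le_antisymm ((Subgroup.closure_le _).mpr fun g hg => hg.1) ?_
    conv_lhs => rw [liftComp]
    exact Subgroup.closure_mono fun g hg => ⟨Subgroup.subset_closure hg, hg.2⟩
  · rw [c.wOf_liftComp ht hp hr, c.card_plane hp]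
  · intro w hw
    rw [← pow_two]
    exact (mem_omegaCenterOf.mp (wOf_le_omegaCenter _ hw)).2.2

/-- Every `J(T)`-component inside `L` is one of the lifted planes. -/
theorem component_eq {K : Subgroup G} (hK : IsJComponent T K) (hKL : K ≤ L) :
    ∃ (t ρ : ↥c.act.range) (v : ↥(modV T L)) (r : ↥L ⧸ Cfsg.pCore 2 ↥L), t ∈ c.imJ ∧
      FF.IsPlane c.act.range.subtype (Cfsg.fittingSubgroup ↥c.act.range) t v ρ ∧
      Cfsg.fittingSubgroup ↥c.act.range ≤ Subgroup.normalizer (Subgroup.zpowers ρ : Set ↥c.act.range) ∧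
      c.IsLift t ρ r ∧ K = liftComp L r := by
  have hset := c.setup
  haveI := hset.planeGroup_normal
  set J := thompsonSubgroupOf 2 T with hJ
  have hJL : J ≤ L := (thompsonSubgroupOf_le 2 T).trans c.T_le
  set φ : ↥K →* ↥c.act.range := c.pi.comp (Subgroup.inclusion hKL) with hφ
  have hcl : ∀ k : ↥K, φ k ∈ Subgroup.normalClosure (c.imJ : Set ↥c.act.range) := by
    rintro ⟨k, hk0⟩
    have hk := hk0
    rw [← hK.2.1, Subgroup.commutator_def] at hk
    suffices h : ∃ hkL : k ∈ L, c.pi ⟨k, hkL⟩ ∈ Subgroup.normalClosure (c.imJ : Set ↥c.act.range) by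
      obtain ⟨hkL, h⟩ := h; exact h
    clear hk0
    induction hk using Subgroup.closure_induction with
    | mem x hx =>
      obtain ⟨a, ha, j, hj, rfl⟩ := hx
      have hcL : ⁅a, j⁆ ∈ L := L.mul_mem (L.mul_mem (L.mul_mem (hKL ha) (hJL hj)) (L.inv_mem (hKL ha))) (L.inv_mem (hJL hj))
      refine ⟨hcL, ?_⟩
      have hje : c.pi ⟨j, hJL hj⟩ ∈ Subgroup.normalClosure (c.imJ : Set ↥c.act.range) :=
        Subgroup.subset_normalClosure (show c.pi ⟨j, hJL hj⟩ ∈ (c.imJ : Set ↥c.act.range) from ⟨⟨j, hJL hj⟩, hj, rfl⟩)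
      have he : c.pi ⟨⁅a, j⁆, hcL⟩ = c.pi ⟨a, hKL ha⟩ * c.pi ⟨j, hJL hj⟩ * (c.pi ⟨a, hKL ha⟩)⁻¹ * (c.pi ⟨j, hJL hj⟩)⁻¹ := by
        rw [← map_inv, ← map_inv, ← map_mul, ← map_mul, ← map_mul]; rfl
      rw [he]
      exact mul_mem (Subgroup.normalClosure_normal.conj_mem _ hje _) (inv_mem hje)
    | one => exact ⟨one_mem _, by rw [show (⟨1, one_mem L⟩ : ↥L) = 1 from rfl, map_one]; exact one_mem _⟩
    | mul x y _ _ hx hy =>
      obtain ⟨hxL, hx⟩ := hx; obtain ⟨hyL, hy⟩ := hy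
      refine ⟨mul_mem hxL hyL, ?_⟩
      rw [show (⟨x * y, mul_mem hxL hyL⟩ : ↥L) = ⟨x, hxL⟩ * ⟨y, hyL⟩ from rfl, map_mul]
      exact mul_mem hx hy
    | inv x _ hx =>
      obtain ⟨hxL, hx⟩ := hx
      refine ⟨inv_mem hxL, ?_⟩
      rw [show (⟨x⁻¹, inv_mem hxL⟩ : ↥L) = ⟨x, hxL⟩⁻¹ from rfl, map_inv]
      exact inv_mem hx
  obtain ⟨ρK, hρK, hρo, hρP, hgenK⟩ := exists_rho hK
  set k₀ := φ ⟨ρK, hρK⟩ with hk₀
  have hoddN : ∀ k : ↥K, Odd (orderOf (k : G)) → φ k ∈ c.planeN := fun k hk => by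
    refine hset.odd_mem_planeGroup (hcl k) (Odd.of_dvd_nat hk ?_)
    rw [Subgroup.orderOf_coe]
    exact orderOf_map_dvd φ k
  have hφN : ∀ k : ↥K, φ k ∈ c.planeN := by
    intro ⟨k, hk⟩
    suffices h : ∃ hk' : k ∈ K, φ ⟨k, hk'⟩ ∈ c.planeN by obtain ⟨_, h⟩ := h; exact h
    have hk2 := hk
    rw [← hK.1] at hk2
    induction hk2 using Subgroup.closure_induction with
    | mem x hx => exact ⟨hx.1, hoddN ⟨x, hx.1⟩ hx.2⟩
    | one => exact ⟨one_mem _, by rw [show (⟨1, one_mem K⟩ : ↥K) = 1 from rfl, map_one]; exact one_mem _⟩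
    | mul x y hx' hy' hx hy =>
      have hxK : x ∈ K := hK.1 ▸ hx'
      have hyK : y ∈ K := hK.1 ▸ hy'
      obtain ⟨_, hx⟩ := hx hxK; obtain ⟨_, hy⟩ := hy hyK
      refine ⟨mul_mem hxK hyK, ?_⟩
      rw [show (⟨x * y, mul_mem hxK hyK⟩ : ↥K) = ⟨x, hxK⟩ * ⟨y, hyK⟩ from rfl, map_mul]
      exact mul_mem hx hy
    | inv x hx' hx =>
      have hxK : x ∈ K := hK.1 ▸ hx'
      obtain ⟨_, hx⟩ := hx hxK
      refine ⟨inv_mem hxK, ?_⟩
      rw [show (⟨x⁻¹, inv_mem hxK⟩ : ↥K) = ⟨x, hxK⟩⁻¹ from rfl, map_inv]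
      exact inv_mem hx
  have hP1 : ∀ p : ↥K, (p : G) ∈ pCoreOf 2 K → φ p = 1 := by
    intro p hp
    obtain ⟨e, he⟩ := pCoreOf_isPGroup K ⟨p, hp⟩
    have he' : φ p ^ 2 ^ e = 1 := by
      rw [← map_pow, show p ^ 2 ^ e = 1 from Subtype.ext (by simpa using congrArg Subtype.val he), map_one]
    rw [← orderOf_eq_one_iff]
    exact Nat.eq_one_of_dvd_coprimes (Nat.Coprime.pow_right _ (by norm_num : Nat.Coprime 3 2))
      (orderOf_dvd_of_pow_eq_one (hset.planeGroup_cube (hφN p))) (orderOf_dvd_of_pow_eq_one he')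
  have hφgen : ∀ k : ↥K, φ k ∈ Subgroup.zpowers k₀ := by
    rintro ⟨k, hk⟩
    obtain ⟨p, hp, m, rfl⟩ := hgenK k hk
    rw [show (⟨p * ρK ^ m, hk⟩ : ↥K) = ⟨p, pCoreOf_le K hp⟩ * ⟨ρK, hρK⟩ ^ m from rfl, map_mul, map_pow,
      hP1 _ hp, one_mul]
    exact pow_mem (Subgroup.mem_zpowers _) m
  have hJK := thompson_le_normalizer hK
  -- `k₀ ≠ 1`
  have hk₀1 : k₀ ≠ 1 := by
    intro h
    have hKC : ∀ k ∈ K, k ∈ modC T L := fun k hk => by
      have h1 := hφgen ⟨k, hk⟩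
      rw [h, Subgroup.zpowers_one_eq_bot, Subgroup.mem_bot] at h1
      exact c.pi_eq_one.mp h1
    have hle : K ≤ pCoreOf 2 L := by
      rw [← hK.2.1, Subgroup.commutator_le]
      exact fun a ha j hj => c.comm_T_mem (hKC a ha) (thompsonSubgroupOf_le 2 T hj)
    exact hρP (mem_pCoreOf_of_two_group hK ((pCoreOf_isPGroup L).to_le hle) le_rfl hρK)
  have hmove : ∃ j ∈ c.imJ, j * k₀ ≠ k₀ * j := by
    by_contra hall
    push Not at hall
    apply hk₀1
    have hKC : ∀ x ∈ K, ∃ hx : x ∈ L, c.pi ⟨x, hx⟩ = 1 := by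
      intro x hx
      rw [← hK.2.1, Subgroup.commutator_def] at hx
      induction hx using Subgroup.closure_induction with
      | mem x hx =>
        obtain ⟨a, ha, j, hj, rfl⟩ := hx
        have hcL : ⁅a, j⁆ ∈ L := L.mul_mem (L.mul_mem (L.mul_mem (hKL ha) (hJL hj)) (L.inv_mem (hKL ha))) (L.inv_mem (hJL hj))
        refine ⟨hcL, ?_⟩
        obtain ⟨i, hi⟩ := Subgroup.mem_zpowers_iff.mp (hφgen ⟨a, ha⟩)
        have hc : c.pi ⟨j, hJL hj⟩ * k₀ = k₀ * c.pi ⟨j, hJL hj⟩ := hall _ ⟨⟨j, hJL hj⟩, hj, rfl⟩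
        have hc' : Commute (c.pi ⟨a, hKL ha⟩) (c.pi ⟨j, hJL hj⟩) := by
          have : c.pi ⟨a, hKL ha⟩ = k₀ ^ i := hi.symm
          rw [this]; exact ((show Commute (c.pi ⟨j, hJL hj⟩) k₀ from hc).zpow_right i).symm
        have he : c.pi ⟨⁅a, j⁆, hcL⟩ = ⁅c.pi ⟨a, hKL ha⟩, c.pi ⟨j, hJL hj⟩⁆ := by
          rw [← map_commutatorElement]; rfl
        rw [he, commutatorElement_eq_one_iff_mul_comm]
        exact hc'.eq
      | one => exact ⟨one_mem _, map_one c.pi⟩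
      | mul x y _ _ hx hy =>
        obtain ⟨hxL, hx⟩ := hx; obtain ⟨hyL, hy⟩ := hy
        refine ⟨mul_mem hxL hyL, ?_⟩
        rw [show (⟨x * y, mul_mem hxL hyL⟩ : ↥L) = ⟨x, hxL⟩ * ⟨y, hyL⟩ from rfl, map_mul, hx, hy, one_mul]
      | inv x _ hx =>
        obtain ⟨hxL, hx⟩ := hx
        refine ⟨inv_mem hxL, ?_⟩
        rw [show (⟨x⁻¹, inv_mem hxL⟩ : ↥L) = ⟨x, hxL⟩⁻¹ from rfl, map_inv, hx, inv_one]
    obtain ⟨_, h⟩ := hKC ρK hρK
    exact h
  have hnorm : ∀ j ∈ c.imJ, j * k₀ * j⁻¹ ∈ Subgroup.zpowers k₀ := by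
    rintro _ ⟨j, hj, rfl⟩
    have hmem : (j : G) * ρK * (j : G)⁻¹ ∈ K := (Subgroup.mem_normalizer_iff.mp (hJK hj) _).mp hρK
    have h := hφgen ⟨_, hmem⟩
    have he : φ ⟨_, hmem⟩ = c.pi j * k₀ * (c.pi j)⁻¹ := by
      rw [hk₀, hφ, ← map_inv]
      show c.pi _ = c.pi _ * c.pi _ * c.pi _
      rw [← map_mul, ← map_mul]; rfl
    rwa [he] at h
  obtain ⟨t, v, ρ, ht, hp, hn, hzp⟩ := hset.eq_rho (hφN ⟨ρK, hρK⟩) hk₀1 hnorm hmove
  obtain ⟨r, hr⟩ := c.exists_lift ht hp hn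
  refine ⟨t, ρ, v, r, ht, hp, hn, hr, ?_⟩
  -- `K ≤` preimage of `⟨r⟩`
  obtain ⟨y, hy, -, hyK⟩ := c.exists_odd_lift hr
  have hKH : ∀ x ∈ K, ∃ hx : x ∈ L, modCore L ⟨x, hx⟩ ∈ Subgroup.zpowers r := by
    intro x hx
    rw [← hK.2.1, Subgroup.commutator_def] at hx
    induction hx using Subgroup.closure_induction with
    | mem x hx =>
      obtain ⟨a, ha, j, hj, rfl⟩ := hx
      have hcL : ⁅a, j⁆ ∈ L := L.mul_mem (L.mul_mem (L.mul_mem (hKL ha) (hJL hj)) (L.inv_mem (hKL ha))) (L.inv_mem (hJL hj))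
      refine ⟨hcL, ?_⟩
      obtain ⟨i, hi⟩ := Subgroup.mem_zpowers_iff.mp (hzp ▸ hφgen ⟨a, ha⟩ : φ ⟨a, ha⟩ ∈ Subgroup.zpowers ρ)
      set z := modCore L (⟨a, hKL ha⟩ * (y ^ i)⁻¹) with hz
      have hzC : z ∈ imC T L := c.mem_imC_of_pi_eq_one (by
        rw [map_mul, map_inv, map_zpow, hr.proj y hy, hi]
        exact mul_inv_cancel (φ ⟨a, ha⟩))
      have haz : modCore L ⟨a, hKL ha⟩ = z * r ^ i := by
        rw [hz, map_mul, map_inv, map_zpow, hy, inv_mul_cancel_right]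
      set b := modCore L ⟨j, hJL hj⟩
      have hbA : b ∈ imA T L := ⟨⟨j, hJL hj⟩, hj, rfl⟩
      have he : modCore L ⟨⁅a, j⁆, hcL⟩ = ⁅modCore L ⟨a, hKL ha⟩, b⁆ := by
        rw [← map_commutatorElement]; rfl
      rw [he, haz]
      have hzb : Commute z b := c.imC_comm_imA hzC hbA
      have h1 : ⁅z * r ^ i, b⁆ = z * (r ^ i * (b * r ^ i * b⁻¹)⁻¹) * z⁻¹ := by
        calc ⁅z * r ^ i, b⁆ = z * r ^ i * b * (r ^ i)⁻¹ * (z⁻¹ * b⁻¹) := by
              simp only [commutatorElement_def]; group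
          _ = z * r ^ i * b * (r ^ i)⁻¹ * (b⁻¹ * z⁻¹) := by rw [(hzb.inv_left.inv_right).eq]
          _ = _ := by group
      have hmem : r ^ i * (b * r ^ i * b⁻¹)⁻¹ ∈ Subgroup.zpowers r := by
        refine mul_mem (zpow_mem (Subgroup.mem_zpowers r) i) (inv_mem ?_)
        rw [← conj_zpow]
        refine zpow_mem ?_ i
        rcases hr.act b hbA with h | h <;> rw [h]
        · exact Subgroup.mem_zpowers r
        · exact inv_mem (Subgroup.mem_zpowers r)
      obtain ⟨e, he'⟩ := Subgroup.mem_zpowers_iff.mp hmem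
      have hcz : Commute z (r ^ i * (b * r ^ i * b⁻¹)⁻¹) := by
        rw [← he']; exact (show Commute z r from hr.central z hzC).zpow_right e
      rw [h1, hcz.eq, mul_inv_cancel_right]
      exact hmem
    | one => exact ⟨one_mem _, by rw [show (⟨1, one_mem L⟩ : ↥L) = 1 from rfl, map_one]; exact one_mem _⟩
    | mul x y _ _ hx hy =>
      obtain ⟨hxL, hx⟩ := hx; obtain ⟨hyL, hy⟩ := hy
      refine ⟨mul_mem hxL hyL, ?_⟩
      rw [show (⟨x * y, mul_mem hxL hyL⟩ : ↥L) = ⟨x, hxL⟩ * ⟨y, hyL⟩ from rfl, map_mul]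
      exact mul_mem hx hy
    | inv x _ hx =>
      obtain ⟨hxL, hx⟩ := hx
      refine ⟨inv_mem hxL, ?_⟩
      rw [show (⟨x⁻¹, inv_mem hxL⟩ : ↥L) = ⟨x, hxL⟩⁻¹ from rfl, map_inv]
      exact inv_mem hx
  have hmemH : ∀ x ∈ K, x ∈ ((Subgroup.zpowers r).comap (modCore L)).map L.subtype := fun x hx => by
    obtain ⟨hxL, h⟩ := hKH x hx
    exact ⟨⟨x, hxL⟩, h, rfl⟩
  refine le_antisymm ?_ ?_
  · conv_lhs => rw [← hK.1]
    exact Subgroup.closure_mono fun g hg => ⟨hmemH g hg.1, hg.2⟩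
  rw [liftComp, Subgroup.closure_le]
  rintro z ⟨⟨z', hz', rfl⟩, hodd⟩
  -- `O₂(L)` normalises `K`
  have hPK : pCoreOf 2 L ≤ Subgroup.normalizer (K : Set G) := by
    refine le_normalizer_component c.two hK _ (sup_le hKL hJL |>.trans c.L_le_normalizer_core) ?_
    exact le_trans (c.core_le_T.trans Subgroup.le_normalizer) (normalizer_le_normalizer_thompsonSubgroupOf T)
  set g₀ : ↥L := ⟨ρK, hKL hρK⟩
  have hg₀ : modCore L g₀ ∈ Subgroup.zpowers r := by obtain ⟨_, h⟩ := hKH ρK hρK; exact h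
  have hg₀1 : modCore L g₀ ≠ 1 := fun h => hk₀1 (by
    have := c.pi_factor (x := g₀) (y := 1) (by rw [h, map_one])
    rw [map_one] at this
    exact this)
  have hgen : Subgroup.zpowers (modCore L g₀) = Subgroup.zpowers r := by
    refine Subgroup.eq_of_le_of_card_ge (Subgroup.zpowers_le.mpr hg₀) ?_
    rw [Nat.card_zpowers, Nat.card_zpowers, hr.order]
    have hd := orderOf_dvd_of_mem_zpowers hg₀
    rw [hr.order] at hd
    rcases (Nat.dvd_prime Nat.prime_three).mp hd with e | e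
    · exact absurd (orderOf_eq_one_iff.mp e) hg₀1
    · omega
  obtain ⟨i, hi⟩ := Subgroup.mem_zpowers_iff.mp (hgen.ge hz')
  set u := ρK ^ i
  set p := u⁻¹ * (z' : G) with hp'
  have hu : u ∈ K := zpow_mem hρK i
  have hpP : p ∈ pCoreOf 2 L := by
    have h1 : modCore L ((g₀ ^ i)⁻¹ * z') = 1 := by rw [map_mul, map_inv, map_zpow, hi, inv_mul_cancel]
    have h2 := modCore_eq_one.mp h1
    simpa [hp', u, g₀] using h2
  obtain ⟨a, ha⟩ := pCoreOf_isPGroup L ⟨p, hpP⟩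
  have ha' : p ^ 2 ^ a = 1 := by simpa using congrArg Subtype.val ha
  have key : ∀ n : ℕ, ∃ w ∈ K, (z' : G) ^ n = w * p ^ n := by
    intro n
    induction n with
    | zero => exact ⟨1, one_mem _, by simp⟩
    | succ n ih =>
      obtain ⟨w, hw, hzn⟩ := ih
      refine ⟨w * (p ^ n * u * (p ^ n)⁻¹), mul_mem hw ((Subgroup.mem_normalizer_iff.mp (hPK (pow_mem hpP n)) _).mp hu), ?_⟩
      rw [pow_succ, hzn, pow_succ, hp']; group
  obtain ⟨w, hw, hzn⟩ := key (2 ^ a)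
  rw [ha', mul_one] at hzn
  obtain ⟨m, hm⟩ := exists_pow_eq_self_of_coprime (x := (z' : G)) (n := 2 ^ a)
    (Nat.Coprime.pow_left _ (Nat.coprime_two_left.mpr hodd))
  rw [Subgroup.subtype_apply, SetLike.mem_coe, ← hm, hzn]
  exact pow_mem hw m

end Ctx

end CfsgLib.JComp
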