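import Cfsg.Agent.Lib.JComp.Unique

/-!
The hyperplanes `Ω₁(Z(J(T))) ∩ C(K)` and the centralisers of their elements.
-/

set_option autoImplicit false
set_option maxHeartbeats 800000
open Cfsg CfsgLib.PLocal
open scoped commutatorElement

namespace CfsgLib.JComp

variable {G : Type*} [Group G]

theorem mul_self_of_mem_omega {X : Subgroup G} {z : G} (h : z ∈ omegaCenterOf X) : z * z = 1 := by
  rw [← pow_two]; exact (mem_omegaCenterOf.mp h).2.2

theorem inv_eq_self_of_mem_omega {X : Subgroup G} {z : G} (h : z ∈ omegaCenterOf X) : z⁻¹ = z :=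
  inv_eq_of_mul_eq_one_right (mul_self_of_mem_omega h)

theorem isPGroup_zpowers_of_sq {z : G} (h : z * z = 1) : IsPGroup 2 (Subgroup.zpowers z) := by
  intro y
  obtain ⟨k, hk⟩ := Subgroup.mem_zpowers_iff.mp y.2
  refine ⟨1, Subtype.ext ?_⟩
  push_cast
  rw [← hk, ← zpow_natCast, ← zpow_mul, mul_comm, zpow_mul, zpow_natCast, pow_two, h, one_zpow]

theorem normalizer_zpowers_eq_centralizer {z : G} (h : z * z = 1) :
    Subgroup.normalizer (Subgroup.zpowers z : Set G) = Subgroup.centralizer ({z} : Set G) := by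
  have hz : ∀ y ∈ Subgroup.zpowers z, y = 1 ∨ y = z := by
    intro y hy
    obtain ⟨k, rfl⟩ := Subgroup.mem_zpowers_iff.mp hy
    have h2 : z ^ (2 : ℤ) = 1 := by rw [zpow_ofNat, pow_two, h]
    rcases Int.even_or_odd k with ⟨l, rfl⟩ | ⟨l, rfl⟩
    · left; rw [← two_mul, zpow_mul, h2, one_zpow]
    · right; rw [zpow_add, zpow_mul, h2, one_zpow, one_mul, zpow_one]
  ext g
  rw [Subgroup.mem_centralizer_singleton_iff]
  constructor
  · intro hg
    rcases hz _ ((Subgroup.mem_normalizer_iff.mp hg z).mp (Subgroup.mem_zpowers z)) with h1 | h1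
    · have hz1 : z = 1 := by
        calc z = g⁻¹ * (g * z * g⁻¹) * g := by group
          _ = 1 := by rw [h1]; group
      rw [hz1]; simp
    · calc g * z = g * z * g⁻¹ * g := by group
        _ = z * g := by rw [h1]
  · intro hg
    have hgz : g * z * g⁻¹ = z := by rw [hg, mul_inv_cancel_right]
    apply mem_normalizer_of_map_conj_eq
    rw [MonoidHom.map_zpowers]
    simp [hgz]

theorem centralizer_isTwoLocal {z : G} (h : z * z = 1) (h1 : z ≠ 1) :
    IsTwoLocal (Subgroup.centralizer ({z} : Set G)) :=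
  ⟨_, isPGroup_zpowers_of_sq h, fun e => h1 (Subgroup.mem_bot.mp (e ▸ Subgroup.mem_zpowers z)),
    (normalizer_zpowers_eq_centralizer h).symm⟩

variable [Finite G]

theorem isMaximal_normalizer_le {L : Subgroup G} (hL : IsMaximalTwoLocal L) :
    Subgroup.normalizer (L : Set G) ≤ L := by
  obtain ⟨U, hU, hU1, hLU⟩ := hL.1
  have hne : pCoreOf 2 L ≠ ⊥ := ne_bot_of_le_ne_bot hU1
    (two_le_pCoreOf hU (hLU ▸ Subgroup.le_normalizer) hLU.le)
  have heq := hL.2 _ ⟨_, pCoreOf_isPGroup L, hne, rfl⟩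
    (Subgroup.le_normalizer.trans (normalizer_le_normalizer_pCoreOf L))
  exact (normalizer_le_normalizer_pCoreOf L).trans heq.le

theorem omega_le_omega_thompson {T : Subgroup G} {z : G} (hz : z ∈ omegaCenterOf T) :
    z ∈ omegaCenterOf (thompsonSubgroupOf 2 T) := by
  obtain ⟨hzT, hzc, hz2⟩ := mem_omegaCenterOf.mp hz
  have hJT := thompsonSubgroupOf_le 2 T
  obtain ⟨A, hA⟩ := exists_maxEAIn (G := G) 2 T
  have hzA := mem_maxEAIn_of_centralizes hA hzT hz2 fun j hj => (hzc j (hJT hj)).symm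
  refine mem_omegaCenterOf.mpr ⟨?_, fun j hj => hzc j (hJT hj), hz2⟩
  rw [thompsonSubgroupOf_eq]
  exact (le_sSup hA : A ≤ _) hzA

theorem omegaCenterOf_ne_bot {T : Subgroup G} (hT : IsPGroup 2 T) (hT1 : T ≠ ⊥) :
    omegaCenterOf T ≠ ⊥ := by
  haveI : Fact (Nat.Prime 2) := ⟨Nat.prime_two⟩
  haveI : Nontrivial ↥T := (Subgroup.nontrivial_iff_ne_bot T).mpr hT1
  haveI := hT.center_nontrivial
  obtain ⟨n, hn, hcard⟩ := (hT.to_subgroup (Subgroup.center ↥T)).nontrivial_iff_card.mp inferInstance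
  obtain ⟨⟨z, hz⟩, hzo⟩ := exists_prime_orderOf_dvd_card' (G := Subgroup.center ↥T) 2
    (by rw [hcard]; exact dvd_pow_self 2 hn.ne')
  intro h
  have h2 : (z : G) ^ 2 = 1 := by
    have := pow_orderOf_eq_one (⟨z, hz⟩ : Subgroup.center ↥T)
    rw [hzo] at this
    simpa using congrArg (fun u : Subgroup.center ↥T => ((u : ↥T) : G)) this
  have hmem : (z : G) ∈ omegaCenterOf T := mem_omegaCenterOf.mpr
    ⟨z.2, fun y hy => congrArg Subtype.val (Subgroup.mem_center_iff.mp hz ⟨y, hy⟩), h2⟩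
  rw [h, Subgroup.mem_bot] at hmem
  have : (⟨z, hz⟩ : Subgroup.center ↥T) = 1 := Subtype.ext (Subtype.ext hmem)
  rw [this, orderOf_one] at hzo
  omega

/-- The part of `Ω₁(Z(J(T)))` centralised by `K`. -/
def hyp (T K : Subgroup G) : Subgroup G :=
  omegaCenterOf (thompsonSubgroupOf 2 T) ⊓ Subgroup.centralizer (K : Set G)

theorem hyp_le (T K : Subgroup G) : hyp T K ≤ omegaCenterOf (thompsonSubgroupOf 2 T) := inf_le_left

section component

variable {T K : Subgroup G}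

theorem eq_one_of_mem_wOf_of_centralizes (hK : IsJComponent T K) {x : G} (hx : x ∈ wOf K)
    (hc : x ∈ Subgroup.centralizer (K : Set G)) : x = 1 := by
  obtain ⟨ρ, hρK, ho, -, hgen⟩ := exists_rho hK
  refine eq_one_of_wOf_fixed hK hρK ho hgen hx ?_
  rw [Subgroup.mem_centralizer_iff.mp hc ρ hρK, mul_inv_cancel_right]

theorem eq_one_of_mem_hyp_wOf (hK : IsJComponent T K) {x : G} (hx : x ∈ hyp T K) (hxW : x ∈ wOf K) :
    x = 1 :=
  eq_one_of_mem_wOf_of_centralizes hK hxW (Subgroup.mem_inf.mp hx).2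

theorem omega_decomp (hT : IsPGroup 2 T) (hK : IsJComponent T K) {z : G}
    (hz : z ∈ omegaCenterOf (thompsonSubgroupOf 2 T)) :
    ∃ c ∈ hyp T K, ∃ w ∈ omegaCenterOf (thompsonSubgroupOf 2 T) ⊓ wOf K, z = c * w := by
  obtain ⟨c, w, hc, -, hcc, hw, hwW, hzc⟩ := (omegaCenter_split hT hK).2 z hz
  exact ⟨c, Subgroup.mem_inf.mpr ⟨hc, Subgroup.mem_centralizer_iff.mpr fun k hk =>
    hcc k (Subgroup.mem_sup_left hk)⟩, w, ⟨hw, hwW⟩, hzc⟩

theorem exists_fixW (hT : IsPGroup 2 T) (hK : IsJComponent T K) :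
    ∃ w, w ∈ omegaCenterOf (thompsonSubgroupOf 2 T) ∧ w ∈ wOf K ∧ w ≠ 1 ∧
      w ∉ Subgroup.centralizer (K : Set G) ∧
      ∀ x ∈ omegaCenterOf (thompsonSubgroupOf 2 T) ⊓ wOf K, x = 1 ∨ x = w := by
  have h2 := (omegaCenter_split hT hK).1
  set U := omegaCenterOf (thompsonSubgroupOf 2 T) ⊓ wOf K with hU
  have hne : U ≠ ⊥ := fun h => by rw [h, Subgroup.card_bot] at h2; omega
  obtain ⟨w, hw, hw1⟩ := (Subgroup.bot_or_exists_ne_one U).resolve_left hne
  refine ⟨w, (Subgroup.mem_inf.mp hw).1, (Subgroup.mem_inf.mp hw).2, hw1,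
    fun hc => hw1 (eq_one_of_mem_wOf_of_centralizes hK (Subgroup.mem_inf.mp hw).2 hc), fun x hx => ?_⟩
  by_contra hne'
  push Not at hne'
  classical
  have hsub : ({1, w, x} : Finset G) ⊆ (U : Set G).toFinite.toFinset := by
    intro y hy
    simp only [Finset.mem_insert, Finset.mem_singleton] at hy
    rw [Set.Finite.mem_toFinset]
    rcases hy with rfl | rfl | rfl
    · exact one_mem _
    · exact hw
    · exact hx
  have hc := Finset.card_le_card hsub
  rw [← Set.ncard_eq_toFinset_card _ (U : Set G).toFinite, ← Nat.card_coe_set_eq] at hc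
  have h3 : ({1, w, x} : Finset G).card = 3 := by
    simp [Finset.card_insert_of_notMem, Ne.symm hw1, Ne.symm hne'.1, Ne.symm hne'.2]
  rw [h3] at hc
  have hc' : 3 ≤ Nat.card U := hc
  omega

theorem card_omega_eq (hT : IsPGroup 2 T) (hK : IsJComponent T K) :
    Nat.card ↥(omegaCenterOf (thompsonSubgroupOf 2 T)) = 2 * Nat.card ↥(hyp T K) := by
  set Z₀ := omegaCenterOf (thompsonSubgroupOf 2 T) with hZ₀
  set U := Z₀ ⊓ wOf K with hU
  rw [← (omegaCenter_split hT hK).1, ← hU, mul_comm, ← Nat.card_prod]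
  refine (Nat.card_congr (Equiv.ofBijective
    (fun q : ↥(hyp T K) × ↥U => (⟨q.1 * q.2, Z₀.mul_mem (hyp_le T K q.1.2)
      (Subgroup.mem_inf.mp q.2.2).1⟩ : ↥Z₀)) ⟨?_, ?_⟩)).symm
  · rintro ⟨⟨a, ha⟩, ⟨b, hb⟩⟩ ⟨⟨a', ha'⟩, ⟨b', hb'⟩⟩ h
    have h' : a * b = a' * b' := congrArg Subtype.val h
    have he : a'⁻¹ * a = b' * b⁻¹ := by
      calc a'⁻¹ * a = a'⁻¹ * (a * b) * b⁻¹ := by group
        _ = _ := by rw [h']; group
    have h1 := eq_one_of_mem_hyp_wOf hK ((hyp T K).mul_mem ((hyp T K).inv_mem ha') ha)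
      (he ▸ (wOf K).mul_mem (Subgroup.mem_inf.mp hb').2 ((wOf K).inv_mem (Subgroup.mem_inf.mp hb).2))
    obtain rfl : a = a' := by rw [inv_mul_eq_one] at h1; exact h1.symm
    obtain rfl : b = b' := mul_left_cancel h'
    rfl
  · intro z
    obtain ⟨c, hc, w, hw, hzc⟩ := omega_decomp hT hK z.2
    exact ⟨⟨⟨c, hc⟩, ⟨w, hw⟩⟩, Subtype.ext hzc.symm⟩

end component

/-- An outside component with its maximal 2-local overgroup. -/
structure Pos (M T K L : Subgroup G) : Prop where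
  char2 : IsCharacteristicTwoType G
  locals : ∀ N : Subgroup G, IsTwoLocal N → Group.IsSolvable ↥N
  centralZ : ∀ S : Sylow 2 G, Subgroup.centralizer (omegaCenterOf (S : Subgroup G) : Set G) ≤
    Subgroup.normalizer ((S : Subgroup G) : Set G)
  nJ : Subgroup.normalizer (thompsonSubgroupOf 2 T : Set G) ≤ M
  straddle : T ∈ maxStraddlingTwoSubgroups M
  out : K ∈ jComponentsOutside M T
  maxL : IsMaximalTwoLocal L
  KJ_le : K ⊔ thompsonSubgroupOf 2 T ≤ L

namespace Pos

variable {M T K L : Subgroup G} (q : Pos M T K L)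

include q

theorem two : IsPGroup 2 T := q.straddle.1.1

theorem ne_bot : T ≠ ⊥ := q.straddle.1.2.1

theorem T_le_M : T ≤ M := q.straddle.1.2.2.1

theorem comp : IsJComponent T K := q.out.1.1

theorem K_le : K ≤ L := le_sup_left.trans q.KJ_le

theorem J_le : thompsonSubgroupOf 2 T ≤ L := le_sup_right.trans q.KJ_le

theorem not_le : ¬ L ≤ M := fun h => q.out.2.1 (q.K_le.trans h)

theorem unique {L' : Subgroup G} (hL' : IsMaximalTwoLocal L')
    (h : K ⊔ thompsonSubgroupOf 2 T ≤ L') : L' = L := by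
  obtain ⟨L₀, -, -, huniq, -, -⟩ := unique_maximal q.char2 q.locals q.centralZ q.nJ q.straddle q.out
  rw [huniq L' hL' h, huniq L q.maxL q.KJ_le]

theorem sylow : IsSylowTwoIn T L := by
  obtain ⟨L₀, hL₀, -, huniq, -, hsyl⟩ := unique_maximal q.char2 q.locals q.centralZ q.nJ q.straddle q.out
  rwa [huniq L q.maxL q.KJ_le]

theorem ctx : Ctx T L :=
  ⟨q.two, q.ne_bot, straddle_overgroup_self q.char2 q.nJ q.straddle q.maxL.1 q.not_le q.sylow.1,
    q.locals, q.centralZ⟩

theorem le_of_two_local {N : Subgroup G} (hN : IsTwoLocal N) (h : K ⊔ thompsonSubgroupOf 2 T ≤ N) :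
    N ≤ L := by
  obtain ⟨L', hL', hNL'⟩ := exists_maximalTwoLocal hN
  rw [q.unique hL' (h.trans hNL')] at hNL'
  exact hNL'

/-- The centraliser of a nontrivial element of `Ω₁(Z(J(T)))` centralised by `K` lies in `L`. -/
theorem centralizer_le {x : G} (hx : x ∈ omegaCenterOf (thompsonSubgroupOf 2 T))
    (hxK : x ∈ Subgroup.centralizer (K : Set G)) (hx1 : x ≠ 1) :
    Subgroup.centralizer ({x} : Set G) ≤ L := by
  refine q.le_of_two_local (centralizer_isTwoLocal (mul_self_of_mem_omega hx) hx1) (sup_le ?_ ?_)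
  · exact fun k hk => Subgroup.mem_centralizer_singleton_iff.mpr (Subgroup.mem_centralizer_iff.mp hxK k hk)
  · exact fun j hj => Subgroup.mem_centralizer_singleton_iff.mpr ((mem_omegaCenterOf.mp hx).2.1 j hj)

/-- If some component lies outside `L` then `Ω₁(Z(J(T)))` has order at most 4. -/
theorem card_omega_le {K' : Subgroup G} (hK' : IsJComponent T K') (hK'L : ¬ K' ≤ L) :
    Nat.card ↥(omegaCenterOf (thompsonSubgroupOf 2 T)) ≤ 4 := by
  have h1 := card_omega_eq q.two q.comp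
  have h2 := card_omega_eq q.two hK'
  have hdisj : ∀ x ∈ hyp T K, x ∈ hyp T K' → x = 1 := by
    intro x hx hx'
    by_contra hx1
    apply hK'L
    refine le_trans ?_ (q.centralizer_le (Subgroup.mem_inf.mp hx).1 (Subgroup.mem_inf.mp hx).2 hx1)
    exact fun k hk => Subgroup.mem_centralizer_singleton_iff.mpr
      (Subgroup.mem_centralizer_iff.mp (Subgroup.mem_inf.mp hx').2 k hk)
  have h3 : Nat.card (↥(hyp T K) × ↥(hyp T K')) ≤ Nat.card ↥(omegaCenterOf (thompsonSubgroupOf 2 T)) := by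
    refine Nat.card_le_card_of_injective (fun p => (⟨p.1 * p.2,
      Subgroup.mul_mem _ (hyp_le T K p.1.2) (hyp_le T K' p.2.2)⟩ :
        ↥(omegaCenterOf (thompsonSubgroupOf 2 T)))) ?_
    rintro ⟨⟨a, ha⟩, ⟨b, hb⟩⟩ ⟨⟨a', ha'⟩, ⟨b', hb'⟩⟩ h
    have h' : a * b = a' * b' := congrArg Subtype.val h
    have he : a'⁻¹ * a = b' * b⁻¹ := by
      calc a'⁻¹ * a = a'⁻¹ * (a * b) * b⁻¹ := by group
        _ = _ := by rw [h']; group
    have h1 := hdisj _ ((hyp T K).mul_mem ((hyp T K).inv_mem ha') ha)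
      (he ▸ (hyp T K').mul_mem hb' ((hyp T K').inv_mem hb))
    obtain rfl : a = a' := by rw [inv_mul_eq_one] at h1; exact h1.symm
    obtain rfl : b = b' := mul_left_cancel h'
    rfl
  rw [Nat.card_prod] at h3
  have : 0 < Nat.card ↥(hyp T K) := Nat.card_pos
  nlinarith

/-- `Ω₁(Z(R))` lies in `Ω₁(Z(T))` for a 2-group `R` containing `T`. -/
theorem omega_over {R : Subgroup G} (hTR : T ≤ R) {z : G} (hz : z ∈ omegaCenterOf R) :
    z ∈ omegaCenterOf T := by
  obtain ⟨-, hzc, hz2⟩ := mem_omegaCenterOf.mp hz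
  refine mem_omegaCenterOf.mpr ⟨q.ctx.core_le_T (q.ctx.mem.2.2 (Subgroup.mem_centralizer_iff.mpr
    fun y hy => hzc y (hTR (q.ctx.core_le_T hy)))), fun y hy => hzc y (hTR hy), hz2⟩

/-- A component does not normalise a 2-group containing `J(T)`. -/
theorem not_le_normalizer {R : Subgroup G} (hR : IsPGroup 2 R) (hJR : thompsonSubgroupOf 2 T ≤ R)
    {K' : Subgroup G} (hK' : IsJComponent T K') : ¬ K' ≤ Subgroup.normalizer (R : Set G) := by
  intro h
  have hle : K' ≤ R := by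
    rw [← hK'.2.1]
    exact (Subgroup.commutator_mono h hJR).trans (Subgroup.le_normalizer_iff_commutator_le_right.mp le_rfl)
  obtain ⟨ρ, hρK, -, hρP, -⟩ := exists_rho hK'
  exact hρP (mem_pCoreOf_of_two_group hK' (hR.to_le hle) le_rfl hρK)

/-- A component does not centralise `Ω₁(Z(S))` for a Sylow group containing `J(T)`. -/
theorem not_centralizes_sylow (S : Sylow 2 G) (hJS : thompsonSubgroupOf 2 T ≤ (S : Subgroup G))
    {K' : Subgroup G} (hK' : IsJComponent T K') :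
    ¬ K' ≤ Subgroup.centralizer (omegaCenterOf (S : Subgroup G) : Set G) := fun h =>
  q.not_le_normalizer S.isPGroup' hJS hK' (h.trans (q.centralZ S))

theorem map {m : G} (hm : m ∈ M) :
    Pos M (T.map (MulAut.conj m).toMonoidHom) (K.map (MulAut.conj m).toMonoidHom)
      (L.map (MulAut.conj m).toMonoidHom) := by
  set e := (MulAut.conj m).toMonoidHom with he
  have hinj : Function.Injective e := (MulAut.conj m).injective
  have hMe : M.map e = M := map_conj_eq_of_mem_normalizer (Subgroup.le_normalizer hm)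
  have hinv : ∀ X : Subgroup G, (X.map (MulAut.conj m⁻¹).toMonoidHom).map e = X := fun X => by
    rw [Subgroup.map_map]; ext z; simp [he, Subgroup.mem_map, mul_assoc]
  have hinv' : ∀ X : Subgroup G, (X.map e).map (MulAut.conj m⁻¹).toMonoidHom = X := fun X => by
    rw [Subgroup.map_map]; ext z; simp [he, Subgroup.mem_map, mul_assoc]
  have hJ : thompsonSubgroupOf 2 (T.map e) = (thompsonSubgroupOf 2 T).map e :=
    (thompsonSubgroupOf_map hinj T).symm
  have hlocal : ∀ {X : Subgroup G} (g : G), IsTwoLocal X →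
      IsTwoLocal (X.map (MulAut.conj g).toMonoidHom) := by
    rintro X g ⟨U, hU, hU1, rfl⟩
    exact ⟨U.map (MulAut.conj g).toMonoidHom, hU.map _,
      fun h => hU1 ((Subgroup.map_eq_bot_iff_of_injective _ (MulAut.conj g).injective).mp h),
      Subgroup.map_equiv_normalizer_eq U (MulAut.conj g)⟩
  have hmaxe : ∀ X : Subgroup G, maxElemAbelianOrder (X.map e) = maxElemAbelianOrder X := by
    intro X
    obtain ⟨A, hA⟩ := exists_maxEAIn (G := G) 2 X
    have hA' : A.map e ∈ maxEAIn 2 (X.map e) := by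
      rw [maxEAIn_map hinj]; exact ⟨A, hA, rfl⟩
    rw [maxElemAbelianOrder_eq hA, maxElemAbelianOrder_eq hA', Subgroup.card_map_of_injective hinj]
  refine ⟨q.char2, q.locals, q.centralZ, ?_, ⟨⟨q.two.map _, ?_, ?_, ?_⟩, ?_⟩, ⟨?_, ?_, ?_⟩, ⟨?_, ?_⟩, ?_⟩
  · rw [hJ, ← hMe, he, ← Subgroup.map_equiv_normalizer_eq _ (MulAut.conj m)]
    exact Subgroup.map_mono q.nJ
  · exact fun h => q.ne_bot ((Subgroup.map_eq_bot_iff_of_injective _ hinj).mp h)
  · exact hMe ▸ Subgroup.map_mono q.T_le_M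
  · obtain ⟨L', hL', hTL', hL'M⟩ := q.straddle.1.2.2.2
    refine ⟨L'.map e, hlocal m hL', Subgroup.map_mono hTL', fun h => hL'M ?_⟩
    rw [← hMe] at h
    exact (Subgroup.map_le_map_iff_of_injective hinj).mp h
  · intro X hX
    obtain ⟨h1, h2⟩ := q.straddle.2 X hX
    refine ⟨(hmaxe T).symm ▸ h1, fun h => ?_⟩
    rw [hmaxe T] at h
    obtain ⟨h3, h4⟩ := h2 h
    rw [hJ, Subgroup.card_map_of_injective hinj, Subgroup.card_map_of_injective hinj]
    exact ⟨h3, h4⟩
  · refine ⟨isJComponent_map q.comp (MulAut.conj m), fun S hJS hS => ?_⟩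
    rw [hJ] at hJS ⊢
    have hS' := isSylowTwoIn_map (MulAut.conj m⁻¹) hS
    have hN : (Subgroup.normalizer (wOf (K.map e) : Set G)).map (MulAut.conj m⁻¹).toMonoidHom =
        Subgroup.normalizer (wOf K : Set G) := by
      rw [he, ← wOf_map, ← Subgroup.map_equiv_normalizer_eq _ (MulAut.conj m), hinv']
    rw [hN] at hS'
    have hh := q.out.1.2 _ (by rw [← hinv' (thompsonSubgroupOf 2 T)]; exact Subgroup.map_mono hJS) hS'
    conv_lhs => rw [← hinv S]
    rw [← hh]
    exact (thompsonSubgroupOf_map hinj _).symm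
  · intro h
    apply q.out.2.1
    rw [← hMe] at h
    exact (Subgroup.map_le_map_iff_of_injective hinj).mp h
  · intro h
    apply q.out.2.2
    rw [← Subgroup.map_sup, he, ← CfsgLib.LocalEven.pCoreOf_map_equiv] at h
    exact (Subgroup.map_eq_bot_iff_of_injective _ hinj).mp h
  · exact hlocal m q.maxL.1
  · intro N hN h
    have h2 := q.maxL.2 _ (hlocal m⁻¹ hN) (by rw [← hinv' L]; exact Subgroup.map_mono h)
    rw [← hinv N, h2]
  · rw [hJ, ← Subgroup.map_sup]
    exact Subgroup.map_mono q.KJ_le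

/-- A `J(T)`-component outside `L`, when `T` is not a Sylow subgroup of `G`. -/
theorem exists_not_le_of_lt {R : Subgroup G} (hR : IsPGroup 2 R) (hTR : T ≤ R) (hne : T ≠ R) :
    ∃ y, y ∈ R ∧ y ∈ Subgroup.normalizer (T : Set G) ∧ y ∉ L ∧ y * y ∈ T ∧
      Pos M T (K.map (MulAut.conj y).toMonoidHom) (L.map (MulAut.conj y).toMonoidHom) ∧
      ¬ K.map (MulAut.conj y).toMonoidHom ≤ L := by
  haveI : Fact (Nat.Prime 2) := ⟨Nat.prime_two⟩
  obtain ⟨y, hyR, hyn, hyT, hyy⟩ : ∃ y ∈ R, y ∈ Subgroup.normalizer (T : Set G) ∧ y ∉ T ∧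
      y * y ∈ T := by
    obtain ⟨y₀, hy₀, hn₀, hy₀T⟩ := exists_normalizer_gt hR hTR hne
    obtain ⟨a, ha⟩ := hR ⟨y₀, hy₀⟩
    have ha' : y₀ ^ 2 ^ a = 1 := by simpa using congrArg Subtype.val ha
    have key : ∀ a : ℕ, ∀ y₀ ∈ R, y₀ ∈ Subgroup.normalizer (T : Set G) → y₀ ∉ T → y₀ ^ 2 ^ a ∈ T →
        ∃ y ∈ R, y ∈ Subgroup.normalizer (T : Set G) ∧ y ∉ T ∧ y * y ∈ T := by
      intro a
      induction a with
      | zero => intro y _ _ hyT h; simp at h; exact absurd h hyT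
      | succ a ih =>
        intro y hy hn hyT h
        by_cases h2 : y * y ∈ T
        · exact ⟨y, hy, hn, hyT, h2⟩
        · refine ih (y * y) (R.mul_mem hy hy) (Subgroup.mul_mem _ hn hn) h2 ?_
          rwa [← pow_two, ← pow_mul, ← pow_succ']
    exact key a y₀ hy₀ hn₀ hy₀T (by rw [ha']; exact one_mem _)
  have hyL : y ∉ L := by
    intro hyL
    apply hyT
    have hle : T ⊔ Subgroup.zpowers y ≤ L := sup_le q.sylow.1 (Subgroup.zpowers_le.mpr hyL)
    have heq := q.ctx.eq_of_two (hR.to_le (sup_le hTR (Subgroup.zpowers_le.mpr hyR))) hle le_sup_left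
    exact heq ▸ Subgroup.mem_sup_right (Subgroup.mem_zpowers y)
  have hyM : y ∈ M := q.nJ (normalizer_le_normalizer_thompsonSubgroupOf T hyn)
  have q' := q.map hyM
  rw [map_conj_eq_of_mem_normalizer hyn] at q'
  refine ⟨y, hyR, hyn, hyL, hyy, q', fun hle => hyL (isMaximal_normalizer_le q.maxL ?_)⟩
  refine mem_normalizer_of_map_conj_eq ?_
  exact (q'.unique q.maxL (sup_le hle q.J_le)).symm

end Pos

end CfsgLib.JComp
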