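import Cfsg.Agent.Lib.JComp.Zero
import Cfsg.Agent.Lib.Components.Subnormal
import Cfsg.Agent.Lib.Transfer.PGroup

/-!
`J(T)` fixes the four-group of a component which is subnormal in `⟨K, J(T)⟩` inside an overgroup.
-/

set_option autoImplicit false
set_option maxHeartbeats 1000000
open Cfsg CfsgLib.PLocal
open scoped commutatorElement

attribute [local instance] CfsgLib.CharP.pCore_normal'

namespace CfsgLib.JComp

variable {G : Type*} [Group G] [Finite G]

/-- A normal 2-subgroup normalises the odd-order part of a subnormal subgroup. -/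
theorem oddClosure_normalized {Y : Type*} [Group Y] [Finite Y] {Q : Subgroup Y} [Q.Normal]
    (hQ : IsPGroup 2 Q) {H : Subgroup Y} (hH : H.IsSubnormal) :
    ∀ q ∈ Q, ∀ y ∈ H, Odd (orderOf y) → q * y * q⁻¹ ∈ H := by
  induction hH with
  | top => intro q _ y _ _; exact Subgroup.mem_top _
  | step H K' hle _ hN ih =>
    intro q hq y hy ho
    have hz : q * y * q⁻¹ ∈ K' := ih q hq y (hle hy) ho
    have hc : q * y * q⁻¹ * y⁻¹ ∈ Q := by
      rw [mul_assoc, mul_assoc]
      exact mul_mem hq (by simpa [mul_assoc] using (inferInstance : Q.Normal).conj_mem _ (inv_mem hq) y)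
    set c : ↥K' := ⟨q * y * q⁻¹ * y⁻¹, mul_mem hz (inv_mem (hle hy))⟩
    set z : ↥K' := ⟨q * y * q⁻¹, hz⟩
    have he : (z : ↥K' ⧸ H.subgroupOf K') = (c : ↥K' ⧸ H.subgroupOf K') := by
      rw [QuotientGroup.eq_iff_div_mem, Subgroup.mem_subgroupOf]
      have : ((z / c : ↥K') : Y) = (q * y * q⁻¹ * y * (q * y * q⁻¹)⁻¹) := by
        rw [Subgroup.coe_div]
        show q * y * q⁻¹ / (q * y * q⁻¹ * y⁻¹) = _
        rw [div_eq_mul_inv]; group
      rw [this]
      exact (Subgroup.mem_subgroupOf.mp (hN.conj_mem ⟨y, hle hy⟩ (Subgroup.mem_subgroupOf.mpr hy) z))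
    obtain ⟨a, ha⟩ := hQ ⟨_, hc⟩
    have ha' : ((z : ↥K' ⧸ H.subgroupOf K')) ^ 2 ^ a = 1 := by
      rw [he, ← QuotientGroup.mk_pow, show c ^ 2 ^ a = 1 from Subtype.ext (by simpa [c] using congrArg Subtype.val ha),
        QuotientGroup.mk_one]
    have hodd : Odd (orderOf (z : ↥K' ⧸ H.subgroupOf K')) := by
      refine Odd.of_dvd_nat ho ?_
      refine (orderOf_map_dvd (QuotientGroup.mk' _) z).trans ?_
      rw [← Subgroup.orderOf_coe]
      exact (((MulAut.conj q).orderOf_eq y)).dvd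
    have h1 : (z : ↥K' ⧸ H.subgroupOf K') = 1 := by
      rw [← orderOf_eq_one_iff]
      exact Nat.eq_one_of_dvd_coprimes (Nat.Coprime.pow_right _ hodd.coprime_two_right) dvd_rfl
        (orderOf_dvd_of_pow_eq_one ha')
    exact Subgroup.mem_subgroupOf.mp ((QuotientGroup.eq_one_iff _).mp h1)

section Shift

variable {V H : Type*} [CommGroup V] [Group H] {φ : H →* MulAut V}

/-- A transvection `s` fixes the image `W` of `v ↦ v⁻¹ σ(v)` when `sσs⁻¹` commutes with `σ`. -/
theorem shift_invariant {W : Subgroup V} (hV : ∀ v : V, v * v = 1) (hWc : Nat.card W = 4) {σ s : H} {v₀ : V}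
    (hs : FF.IsTransvection φ s v₀) (hshift : ∀ x, x⁻¹ * φ σ x ∈ W) (hfpf : ∀ w ∈ W, φ σ w = w → w = 1)
    (hsurj : ∀ w ∈ W, ∃ u ∈ W, w = u⁻¹ * φ σ u) (hc : (s * σ * s⁻¹) * σ = σ * (s * σ * s⁻¹)) :
    ∀ w ∈ W, φ s w ∈ W := by
  classical
  haveI : Finite ↥W := Nat.finite_of_card_ne_zero (by omega)
  set σ' := s * σ * s⁻¹ with hσ'
  have hss : ∀ x, φ s (φ s x) = x := fun x => by
    have h2 : s * s = 1 := by rw [← pow_two, ← hs.1, pow_orderOf_eq_one]
    rw [← FF.mulAut_mul_apply, h2, map_one, MulAut.one_apply]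
  have hσ'x : ∀ x, φ σ' x = φ s (φ σ (φ s x)) := fun x => by
    rw [hσ', FF.mulAut_mul_apply, FF.mulAut_mul_apply, hs.inv_eq]
  -- a fixed point of `s` in `W`
  obtain ⟨w, hwW, hw1, hws⟩ : ∃ w ∈ W, w ≠ 1 ∧ φ s w = w := by
    obtain ⟨w₁, hw₁⟩ : ∃ w₁ : ↥W, w₁ ≠ 1 := by
      haveI : Nontrivial ↥W := Finite.one_lt_card_iff_nontrivial.mp (by omega)
      exact exists_ne 1
    by_cases h1 : φ s w₁ = w₁
    · exact ⟨w₁, w₁.2, fun e => hw₁ (Subtype.ext e), h1⟩
    · obtain ⟨w₂, hw₂, hw₂'⟩ : ∃ w₂ : ↥W, w₂ ≠ 1 ∧ w₂ ≠ w₁ := by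
        by_contra hall
        push Not at hall
        haveI := Fintype.ofFinite ↥W
        have : (Finset.univ : Finset ↥W) ⊆ {1, w₁} := fun x _ => by
          by_cases hx : x = 1
          · simp [hx]
          · simp [hall x hx]
        have hcard := Finset.card_le_card this
        rw [Finset.card_univ, ← Nat.card_eq_fintype_card, hWc] at hcard
        exact absurd (hcard.trans Finset.card_le_two) (by omega)
      by_cases h2 : φ s w₂ = w₂
      · exact ⟨w₂, w₂.2, fun e => hw₂ (Subtype.ext e), h2⟩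
      · refine ⟨w₁ * w₂, mul_mem w₁.2 w₂.2, fun e => hw₂' ?_, ?_⟩
        · refine Subtype.ext ?_
          have := eq_inv_of_mul_eq_one_right e
          rw [this, FF.inv_eq_self hV]
        · rw [map_mul, (hs.2.2 w₁).resolve_left h1, (hs.2.2 w₂).resolve_left h2]
          calc (w₁ : V) * v₀ * (w₂ * v₀) = w₁ * w₂ * (v₀ * v₀) := mul_mul_mul_comm _ _ _ _
            _ = _ := by rw [hV, mul_one]
  -- its shift by `σ'` lies in `W` and in `s(W)`
  obtain ⟨u, hu, hwu⟩ := hsurj w hwW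
  set y := w⁻¹ * φ σ' w with hy
  have hyW : y ∈ W := by
    refine mul_mem (inv_mem hwW) ?_
    rw [hwu, map_mul (φ σ'), map_inv (φ σ'), ← FF.mulAut_mul_apply (φ := φ) σ' σ u, hc, FF.mulAut_mul_apply (φ := φ) σ σ' u]
    exact hshift _
  have hyS : φ s y ∈ W := by
    rw [hy, map_mul, map_inv, hws, hσ'x, hws, hss]
    exact hshift w
  have hy1 : y ≠ 1 := by
    intro e
    have h1 : φ σ' w = w := (inv_mul_eq_one.mp e).symm
    rw [hσ'x, hws] at h1
    have h2 := congrArg (φ s) h1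
    rw [hss, hws] at h2
    exact hw1 (hfpf w hwW h2)
  have hyw : y ≠ w := by
    intro e
    have h1 : φ σ' w = 1 := by
      rw [hy, inv_mul_eq_iff_eq_mul, hV] at e
      exact e
    exact hw1 ((MulEquiv.map_eq_one_iff _).mp h1)
  haveI : Fintype ↥W := Fintype.ofFinite _
  have hsub : ∀ x ∈ W, x = 1 ∨ x = w ∨ x = y ∨ x = w * y := by
    intro x hx
    have e1 : w * y ≠ 1 := fun e => hyw (by rw [eq_inv_of_mul_eq_one_right e, FF.inv_eq_self hV])
    have e2 : w * y ≠ w := fun e => hy1 (mul_eq_left.mp e)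
    have e3 : w * y ≠ y := fun e => hw1 (mul_eq_right.mp e)
    have hfour : ({1, ⟨w, hwW⟩, ⟨y, hyW⟩, ⟨w * y, mul_mem hwW hyW⟩} : Finset ↥W).card = 4 := by
      simp [Finset.card_insert_of_notMem, Subtype.ext_iff, Ne.symm hw1, Ne.symm hy1, Ne.symm hyw, Ne.symm e1,
        Ne.symm e2, Ne.symm e3]
    have huniv : ({1, ⟨w, hwW⟩, ⟨y, hyW⟩, ⟨w * y, mul_mem hwW hyW⟩} : Finset ↥W) = Finset.univ :=
      Finset.eq_univ_of_card _ (by rw [hfour, ← Nat.card_eq_fintype_card, hWc])
    have hm := Finset.mem_univ (⟨x, hx⟩ : ↥W)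
    rw [← huniv] at hm
    simpa [Subtype.ext_iff] using hm
  intro x hx
  rcases hsub x hx with rfl | rfl | rfl | rfl
  · rw [map_one]; exact one_mem _
  · rw [hws]; exact hwW
  · exact hyS
  · rw [map_mul, hws]; exact mul_mem hwW hyS

end Shift

namespace Ctx

variable {T L : Subgroup G} (c : Ctx T L)

include c

/-- `J(T)` normalises `W_K`. -/
theorem thompson_le_normalizer_wOf {T' K : Subgroup G} (hK : IsJComponent T' K) (hKL : K ≤ L)
    (hsn : (K.subgroupOf (K ⊔ thompsonSubgroupOf 2 T)).IsSubnormal) :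
    thompsonSubgroupOf 2 T ≤ Subgroup.normalizer (wOf K : Set G) := by
  classical
  haveI : Fact (Nat.Prime 2) := ⟨Nat.prime_two⟩
  haveI : Fact (Nat.Prime 3) := ⟨Nat.prime_three⟩
  set J := thompsonSubgroupOf 2 T with hJdef
  set X := K ⊔ J with hXdef
  set W := wOf K with hWdef
  have hKX : K ≤ X := le_sup_left
  have hJX : J ≤ X := le_sup_right
  have hXL : X ≤ L := sup_le hKL ((thompsonSubgroupOf_le 2 T).trans c.T_le)
  obtain ⟨ρ, hρK, hρo, hρP, hgen⟩ := exists_rho hK
  -- `Q = O₂(X)`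
  set Q := pCoreOf 2 X with hQdef
  have hXQ : X ≤ Subgroup.normalizer (Q : Set G) := Subgroup.le_normalizer.trans (normalizer_le_normalizer_pCoreOf X)
  have hQK : Q ≤ Subgroup.normalizer (K : Set G) := by
    refine le_normalizer_of_conj fun q hq y hy => ?_
    have hcl : Subgroup.closure {y | y ∈ K ∧ Odd (orderOf y)} = K := hK.1
    rw [← hcl] at hy ⊢
    refine conj_closure_mem ?_ hy
    intro z hz
    refine Subgroup.subset_closure ⟨?_, ?_⟩
    · obtain ⟨q', hq', rfl⟩ := hq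
      have h := oddClosure_normalized (Q := Cfsg.pCore 2 ↥X) CfsgLib.CharP.pCore_isPGroup' hsn q' hq'
        ⟨z, hKX hz.1⟩ (Subgroup.mem_subgroupOf.mpr hz.1) (by simpa using hz.2)
      simpa [Subgroup.mem_subgroupOf] using h
    · have h := (MulAut.conj q).orderOf_eq z
      rw [MulAut.conj_apply] at h
      rw [h]; exact hz.2
  have hPQ : pCoreOf 2 K ≤ Q := by
    have hsn' : ((Cfsg.pCore 2 ↥K).map (Subgroup.inclusion hKX)).IsSubnormal := by
      refine Subgroup.IsSubnormal.trans (K := K.subgroupOf X) ?_ ?_ hsn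
      · rintro _ ⟨p, -, rfl⟩
        exact p.2
      · refine Subgroup.Normal.isSubnormal ⟨fun n hn g => ?_⟩
        rw [Subgroup.mem_subgroupOf] at hn ⊢
        obtain ⟨p, hp, hpe⟩ := hn
        refine ⟨⟨((g : ↥X) : G), g.2⟩ * p * ⟨((g : ↥X) : G), g.2⟩⁻¹,
          (inferInstance : (Cfsg.pCore 2 ↥K).Normal).conj_mem p hp _, ?_⟩
        rw [map_mul, map_mul, map_inv, hpe]
        rfl
    have hle := CfsgLib.Components.le_pCore_of_isSubnormal hsn' (CfsgLib.CharP.pCore_isPGroup'.map _)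
    rintro _ ⟨p, hp, rfl⟩
    exact ⟨_, hle ⟨p, hp, rfl⟩, rfl⟩
  have hWQ : W ≤ Q := (wOf_le_pCoreOf K).trans hPQ
  have hKW : K ≤ Subgroup.normalizer (W : Set G) := Subgroup.le_normalizer.trans (normalizer_le_normalizer_wOf K)
  have hWfix : ∀ w ∈ W, ρ * w * ρ⁻¹ = w → w = 1 := fun w hw => eq_one_of_wOf_fixed hK hρK hρo hgen hw
  have hW2 : ∀ w ∈ W, w * w = 1 := hK.2.2.2.2.2
  have hρW : ∀ w ∈ W, ρ * w * ρ⁻¹ ∈ W := fun w hw => (Subgroup.mem_normalizer_iff.mp (hKW hρK) w).mp hw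
  -- `W ≤ Z(Q)`
  have hWcQ : ∀ w ∈ W, ∀ q ∈ Q, q * w = w * q := by
    have hWn : (W.subgroupOf Q).Normal :=
      Subgroup.normal_subgroupOf_of_le_normalizer (hQK.trans (normalizer_le_normalizer_wOf K))
    haveI : Nontrivial ↥(W.subgroupOf Q) := by
      rw [← Finite.one_lt_card_iff_nontrivial, Nat.card_congr (Subgroup.subgroupOfEquivOfLe hWQ).toEquiv]
      rw [hWdef, hK.2.2.2.2.1]; omega
    haveI : Group.IsNilpotent ↥Q := (pCoreOf_isPGroup X).isNilpotent
    haveI := hWn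
    have hne := CfsgLib.Transfer.inf_center_ne_bot (N := W.subgroupOf Q) ((Subgroup.nontrivial_iff_ne_bot _).mp inferInstance)
    obtain ⟨z, hz, hz1⟩ := (Subgroup.bot_or_exists_ne_one _).resolve_left hne
    obtain ⟨hzW, hzc⟩ := Subgroup.mem_inf.mp hz
    set w₁ : G := (z : G) with hw₁
    have hw₁W : w₁ ∈ W := hzW
    have hw₁c : ∀ q ∈ Q, q * w₁ = w₁ * q := fun q hq =>
      congrArg Subtype.val (Subgroup.mem_center_iff.mp hzc ⟨q, hq⟩)
    set w₂ := ρ * w₁ * ρ⁻¹ with hw₂
    have hw₂c : ∀ q ∈ Q, q * w₂ = w₂ * q := fun q hq => by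
      have hq' : ρ⁻¹ * q * ρ ∈ Q := by
        simpa using (Subgroup.mem_normalizer_iff.mp (hXQ (inv_mem (hKX hρK))) q).mp hq
      calc q * w₂ = ρ * ((ρ⁻¹ * q * ρ) * w₁) * ρ⁻¹ := by rw [hw₂]; group
        _ = ρ * (w₁ * (ρ⁻¹ * q * ρ)) * ρ⁻¹ := by rw [hw₁c _ hq']
        _ = _ := by rw [hw₂]; group
    have hle : Subgroup.closure {w₁, w₂} ≤ W := (Subgroup.closure_le _).mpr (by
      rintro x (rfl | rfl)
      · exact hw₁W
      · exact hρW _ hw₁W)
    have hw₁1 : w₁ ≠ 1 := fun e => hz1 (Subtype.ext e)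
    have hne' : w₂ ≠ w₁ := fun e => hw₁1 (hWfix w₁ hw₁W e)
    have hw₂1 : w₂ ≠ 1 := fun e => hw₁1 (conj_eq_one_iff.mp e)
    have heq : Subgroup.closure {w₁, w₂} = W := by
      refine eq_of_le_card_le hle ?_
      rw [hWdef, hK.2.2.2.2.1]
      have hdvd := Subgroup.card_dvd_of_le hle
      rw [hWdef, hK.2.2.2.2.1] at hdvd
      have h3 : 3 ≤ Nat.card ↥(Subgroup.closure {w₁, w₂}) := by
        haveI := Fintype.ofFinite ↥(Subgroup.closure ({w₁, w₂} : Set G))
        have hsub : ({1, ⟨w₁, Subgroup.subset_closure (Or.inl rfl)⟩,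
            ⟨w₂, Subgroup.subset_closure (Or.inr rfl)⟩} : Finset ↥(Subgroup.closure ({w₁, w₂} : Set G))).card = 3 := by
          simp [Finset.card_insert_of_notMem, Subtype.ext_iff, Ne.symm hw₁1, Ne.symm hw₂1, Ne.symm hne']
        rw [Nat.card_eq_fintype_card, ← hsub]
        exact Finset.card_le_univ _
      have h4 := Nat.le_of_dvd (by omega) hdvd
      interval_cases Nat.card ↥(Subgroup.closure {w₁, w₂}) <;> omega
    intro w hw q hq
    rw [← heq] at hw
    induction hw using Subgroup.closure_induction with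
    | mem x hx =>
      rcases hx with rfl | rfl
      · exact hw₁c q hq
      · exact hw₂c q hq
    | one => simp
    | mul a b _ _ ha hb => rw [← mul_assoc, ha, mul_assoc, hb, mul_assoc]
    | inv a _ ha => exact (show Commute q a from ha).inv_right.eq
  -- the module `P`
  set P := Subgroup.closure {p | ∃ x ∈ X, ∃ w ∈ W, p = x * w * x⁻¹} with hPdef
  have hPE : P ≤ omegaCenterOf Q := by
    rw [hPdef, Subgroup.closure_le]
    rintro _ ⟨x, hx, w, hw, rfl⟩
    exact conj_mem_omegaCenterOf (hXQ hx) (mem_omegaCenterOf.mpr ⟨hWQ hw, hWcQ w hw, by rw [pow_two]; exact hW2 w hw⟩)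
  have hXP : X ≤ Subgroup.normalizer (P : Set G) := by
    refine le_normalizer_of_conj fun x hx y hy => conj_closure_mem ?_ hy
    rintro _ ⟨x', hx', w, hw, rfl⟩
    exact Subgroup.subset_closure ⟨x * x', X.mul_mem hx hx', w, hw, by group⟩
  have hWP : W ≤ P := fun w hw => Subgroup.subset_closure ⟨1, one_mem _, w, hw, by simp⟩
  letI : CommGroup ↥P :=
    { (inferInstance : Group ↥P) with
      mul_comm := fun a b => Subtype.ext ((mem_omegaCenterOf.mp (hPE b.2)).2.1 _ (mem_omegaCenterOf.mp (hPE a.2)).1) }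
  have hP2 : ∀ p : ↥P, p * p = 1 := fun p => Subtype.ext (by
    rw [Subgroup.coe_mul, ← pow_two]; exact (mem_omegaCenterOf.mp (hPE p.2)).2.2)
  -- shifts land in `W`
  have hshift : ∀ p ∈ P, p⁻¹ * (ρ * p * ρ⁻¹) ∈ W := by
    intro p hp
    have hpE := mem_omegaCenterOf.mp (hPE hp)
    have hE : ∀ y ∈ omegaCenterOf Q, y * y = 1 ∧ ∀ z ∈ omegaCenterOf Q, y * z = z * y := fun y hy =>
      ⟨by rw [← pow_two]; exact (mem_omegaCenterOf.mp hy).2.2,
        fun z hz => (mem_omegaCenterOf.mp hz).2.1 y (mem_omegaCenterOf.mp hy).1⟩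
    have hconj : ∀ y ∈ omegaCenterOf Q, ρ * y * ρ⁻¹ ∈ omegaCenterOf Q := fun y hy =>
      conj_mem_omegaCenterOf (hXQ (hKX hρK)) hy
    set x := p⁻¹ * (ρ * p * ρ⁻¹) with hx
    have hxE : x ∈ omegaCenterOf Q := mul_mem (inv_mem (hPE hp)) (hconj p (hPE hp))
    have hxK : x ∈ K := by
      have h1 : p⁻¹ * ρ * p ∈ K := by
        simpa using (Subgroup.mem_normalizer_iff.mp (hQK (inv_mem hpE.1)) ρ).mp hρK
      have e : x = p⁻¹ * ρ * p * ρ⁻¹ := by rw [hx]; group
      rw [e]; exact K.mul_mem h1 (K.inv_mem hρK)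
    have hxP : x ∈ pCoreOf 2 K := by
      have hzp : IsPGroup 2 (Subgroup.zpowers x) := by
        intro y
        refine ⟨1, Subtype.ext ?_⟩
        obtain ⟨i, hi⟩ := Subgroup.mem_zpowers_iff.mp y.2
        rw [SubmonoidClass.coe_pow, ← hi, pow_one, pow_two, ← zpow_add, ← two_mul, zpow_mul, zpow_two,
          (hE x hxE).1, one_zpow]
        rfl
      exact mem_pCoreOf_of_two_group hK hzp (Subgroup.zpowers_le.mpr hxK) (Subgroup.mem_zpowers x)
    have hxV : ∀ y, y ∈ omegaCenterOf Q → y ∈ pCoreOf 2 K → y ∈ omegaCenterOf (pCoreOf 2 K) := fun y hy hyP =>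
      mem_omegaCenterOf.mpr ⟨hyP, fun z hz => (mem_omegaCenterOf.mp hy).2.1 z (hPQ hz), (mem_omegaCenterOf.mp hy).2.2⟩
    set y := ρ * x * ρ⁻¹ with hy
    have hyV : y ∈ omegaCenterOf (pCoreOf 2 K) :=
      hxV y (hconj x hxE) ((Subgroup.mem_normalizer_iff.mp
        (normalizer_le_normalizer_pCoreOf K (Subgroup.le_normalizer hρK)) x).mp hxP)
    have hkey : x = ⁅y, ρ⁆ := by
      have hyE := hconj x hxE
      have hzE := hconj y hyE
      have h3 : ρ * ρ * ρ = 1 := by rw [← pow_two, ← pow_succ, show 2 + 1 = orderOf ρ by omega, pow_orderOf_eq_one]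
      -- `x`, `ρ(x)`, `ρ²(x)` multiply to `1`
      set p1 := ρ * p * ρ⁻¹ with hp1
      set p2 := ρ * p1 * ρ⁻¹ with hp2
      have hp1E := hconj p (hPE hp)
      have hp2E := hconj p1 hp1E
      have hp3 : ρ * p2 * ρ⁻¹ = p := by
        rw [hp2, hp1]
        calc ρ * (ρ * (ρ * p * ρ⁻¹) * ρ⁻¹) * ρ⁻¹ = (ρ * ρ * ρ) * p * (ρ * ρ * ρ)⁻¹ := by group
          _ = p := by rw [h3]; group
      have hye : y = p1⁻¹ * p2 := by rw [hy, hx, hp2, hp1]; group
      have hze : ρ * y⁻¹ * ρ⁻¹ = p⁻¹ * p2 := by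
        rw [hye]
        calc ρ * (p1⁻¹ * p2)⁻¹ * ρ⁻¹ = (ρ * p2 * ρ⁻¹)⁻¹ * (ρ * p1 * ρ⁻¹) := by group
          _ = p⁻¹ * p2 := by rw [hp3, ← hp2]
      have i1 : p1⁻¹ = p1 := inv_eq_of_mul_eq_one_right (hE p1 hp1E).1
      have i0 : p⁻¹ = p := inv_eq_of_mul_eq_one_right (hE p (hPE hp)).1
      calc x = p * p1 := by rw [hx, i0]
        _ = p1 * p * (p2 * p2) := by rw [(hE p (hPE hp)).2 p1 hp1E, (hE p2 hp2E).1, mul_one]
        _ = p1 * p2 * (p * p2) := by
          rw [show p1 * p * (p2 * p2) = p1 * (p * p2) * p2 by group]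
          nth_rw 1 [(hE p (hPE hp)).2 p2 hp2E]
          group
        _ = (p1⁻¹ * p2) * (p⁻¹ * p2) := by rw [i1, i0]
        _ = y * (ρ * y⁻¹ * ρ⁻¹) := by rw [hze, ← hye]
        _ = _ := by rw [commutatorElement_def]; group
    rw [hkey]
    exact Subgroup.commutator_mem_commutator hyV hρK
  -- the action of `X` on `P`
  let β : ↥X →* MulAut ↥P := (Subgroup.normalizerMonoidHom P).comp (Subgroup.inclusion hXP)
  have hβ : ∀ (x : ↥X) (p : ↥P), ((β x p : ↥P) : G) = x * p * (x : G)⁻¹ := fun x p => rfl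
  let π : ↥X →* ↥β.range := β.rangeRestrict
  have hπ : Function.Surjective π := β.rangeRestrict_surjective
  set φ := β.range.subtype with hφdef
  have hπapp : ∀ x : ↥X, φ (π x) = β x := fun x => rfl
  have hφinj : Function.Injective φ := Subtype.val_injective
  have hπQ : ∀ x : ↥X, (x : G) ∈ Q → π x = 1 := fun x hx => hφinj (MulEquiv.ext fun p => Subtype.ext (by
    rw [hπapp, hβ, map_one]
    show (x : G) * p * (x : G)⁻¹ = p
    rw [(mem_omegaCenterOf.mp (hPE p.2)).2.1 x hx, mul_inv_cancel_right]))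
  set σ := π ⟨ρ, hKX hρK⟩ with hσdef
  have hKσ : (K.subgroupOf X).map π = Subgroup.zpowers σ := by
    refine le_antisymm ?_ ?_
    · rintro _ ⟨⟨k, hkX⟩, hk, rfl⟩
      obtain ⟨y, hy, m, rfl⟩ := hgen k (Subgroup.mem_subgroupOf.mp hk)
      rw [show (⟨y * ρ ^ m, hkX⟩ : ↥X) = ⟨y, hKX (pCoreOf_le K hy)⟩ * ⟨ρ, hKX hρK⟩ ^ m from rfl, map_mul,
        map_pow, hπQ _ (hPQ hy), one_mul]
      exact pow_mem (Subgroup.mem_zpowers σ) m
    · rw [Subgroup.zpowers_le]
      exact ⟨⟨ρ, hKX hρK⟩, Subgroup.mem_subgroupOf.mpr hρK, rfl⟩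
  have hσ3 : σ ^ 3 = 1 := by
    rw [hσdef, ← map_pow, show (⟨ρ, hKX hρK⟩ : ↥X) ^ 3 = 1 from Subtype.ext (by
      simp [← hρo, pow_orderOf_eq_one]), map_one]
  set F := Cfsg.pCore 3 ↥β.range with hFdef
  haveI hFn : F.Normal := CfsgLib.CharP.pCore_normal'
  have hF3 : IsPGroup 3 F := CfsgLib.CharP.pCore_isPGroup'
  have hσF : σ ∈ F := by
    have h1 : ((K.subgroupOf X).map π).IsSubnormal := Subgroup.IsSubnormal.map hπ hsn
    rw [hKσ] at h1
    refine CfsgLib.Components.le_pCore_of_isSubnormal h1 ?_ (Subgroup.mem_zpowers σ)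
    intro y
    refine ⟨1, Subtype.ext ?_⟩
    obtain ⟨i, hi⟩ := Subgroup.mem_zpowers_iff.mp y.2
    rw [SubmonoidClass.coe_pow, ← hi, pow_one, ← zpow_natCast, ← zpow_mul, mul_comm, zpow_mul, zpow_natCast,
      hσ3, one_zpow]
    rfl
  set Jb := (J.subgroupOf X).map π with hJb
  have hJb2 : IsPGroup 2 Jb :=
    ((c.two.to_le (thompsonSubgroupOf_le 2 T)).of_equiv (Subgroup.subgroupOfEquivOfLe hJX).symm).map _
  have hFJ : ∀ x : ↥β.range, ∃ f ∈ F, ∃ j ∈ Jb, x = f * j := by
    intro x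
    have htop : F ⊔ Jb = ⊤ := by
      rw [eq_top_iff]
      rintro y -
      obtain ⟨x, rfl⟩ := hπ y
      obtain ⟨x, hx⟩ := x
      rw [← Subgroup.mem_comap]
      suffices h : X ≤ ((F ⊔ Jb).comap π).map X.subtype by
        obtain ⟨x', hx', hxe⟩ := h hx
        obtain rfl : x' = ⟨x, hx⟩ := Subtype.ext hxe
        exact hx'
      refine sup_le (fun k hk => ⟨⟨k, hKX hk⟩, ?_, rfl⟩) (fun j hj => ⟨⟨j, hJX hj⟩, ?_, rfl⟩)
      · refine Subgroup.mem_sup_left ((Subgroup.zpowers_le.mpr hσF) ?_)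
        rw [← hKσ]
        exact ⟨⟨k, hKX hk⟩, Subgroup.mem_subgroupOf.mpr hk, rfl⟩
      · exact Subgroup.mem_sup_right ⟨⟨j, hJX hj⟩, Subgroup.mem_subgroupOf.mpr hj, rfl⟩
    have hx : x ∈ ((F ⊔ Jb : Subgroup ↥β.range) : Set ↥β.range) := by rw [htop]; trivial
    rw [Subgroup.coe_mul_of_right_le_normalizer_left F Jb (by rw [Subgroup.normalizer_eq_top]; exact le_top)] at hx
    obtain ⟨f, hf, j, hj, rfl⟩ := hx
    exact ⟨f, hf, j, hj, rfl⟩
  set W' := W.subgroupOf P with hW'
  have hW'c : Nat.card W' = 4 := by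
    rw [Nat.card_congr (Subgroup.subgroupOfEquivOfLe hWP).toEquiv, hWdef, hK.2.2.2.2.1]
  have hσapp : ∀ p : ↥P, ((φ σ p : ↥P) : G) = ρ * p * ρ⁻¹ := fun p => hβ _ p
  have hsh' : ∀ p : ↥P, p⁻¹ * φ σ p ∈ W' := fun p => by
    rw [hW', Subgroup.mem_subgroupOf, Subgroup.coe_mul, Subgroup.coe_inv, hσapp]
    exact hshift p p.2
  have hfpf' : ∀ w ∈ W', φ σ w = w → w = 1 := fun w hw e =>
    Subtype.ext (hWfix w hw (by rw [← hσapp]; exact congrArg Subtype.val e))
  have hsurj : ∀ w ∈ W', ∃ u ∈ W', w = u⁻¹ * φ σ u := by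
    haveI : Finite ↥W' := inferInstance
    let f : ↥W' → ↥W' := fun u => ⟨(u : ↥P)⁻¹ * φ σ u, hsh' _⟩
    have hinj : Function.Injective f := by
      intro a b hab
      have h : (a : ↥P)⁻¹ * φ σ a = (b : ↥P)⁻¹ * φ σ b := congrArg Subtype.val hab
      have h2 : φ σ ((a : ↥P) * (b : ↥P)⁻¹) = (a : ↥P) * (b : ↥P)⁻¹ := by
        rw [inv_mul_eq_iff_eq_mul] at h
        rw [map_mul, map_inv, h, mul_assoc, mul_inv_cancel_right]
      exact Subtype.ext (mul_inv_eq_one.mp (hfpf' _ (mul_mem a.2 (inv_mem b.2)) h2))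
    intro w hw
    obtain ⟨u, hu⟩ := (Finite.injective_iff_surjective.mp hinj) ⟨w, hw⟩
    exact ⟨u, u.2, (congrArg Subtype.val hu).symm⟩
  -- `C(F) ≤ F`
  have hFc : Subgroup.centralizer (F : Set ↥β.range) ≤ F := by
    haveI hCn : (Subgroup.centralizer (F : Set ↥β.range)).Normal := inferInstance
    have h2triv : ∀ d ∈ Subgroup.centralizer (F : Set ↥β.range), ∀ a : ℕ, d ^ 2 ^ a = 1 → d = 1 := by
      intro d₀ hd₀ a ha₀
      -- a 2-element commuting with `σ` fixes `W`
      have hfix : ∀ d, d ∈ Subgroup.centralizer (F : Set ↥β.range) → d ^ 2 ^ a = 1 → ∀ w ∈ W', φ d w = w := by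
        intro d hd ha w hw
        have hdσ : d * σ = σ * d := (Subgroup.mem_centralizer_iff.mp hd σ hσF).symm
        have hdW : ∀ u ∈ W', φ d u ∈ W' := by
          intro u hu
          obtain ⟨z, -, rfl⟩ := hsurj u hu
          rw [map_mul, map_inv, ← FF.mulAut_mul_apply, hdσ, FF.mulAut_mul_apply]
          exact hsh' _
        by_cases hw1 : w = 1
        · rw [hw1, map_one]
        have horb : ∃ i : ℕ, φ d w = φ (σ ^ i) w := by
          by_contra hall
          push Not at hall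
          haveI := Fintype.ofFinite ↥W'
          have hσW : ∀ (i : ℕ), φ (σ ^ i) w ∈ W' := by
            intro i
            induction i with
            | zero => simpa using hw
            | succ i ih =>
              rw [pow_succ', FF.mulAut_mul_apply]
              have := mul_mem ih (hsh' (φ (σ ^ i) w))
              rwa [mul_inv_cancel_left] at this
          have hs1 : φ σ w ≠ w := fun e => hw1 (hfpf' w hw e)
          have hs2 : φ (σ ^ 2) w ≠ w := fun e => hs1 (by
            have h := congrArg (φ σ) e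
            rwa [← FF.mulAut_mul_apply, ← pow_succ', hσ3, map_one, MulAut.one_apply, eq_comm] at h)
          have hs3 : φ (σ ^ 2) w ≠ φ σ w := fun e => hs1 (by
            rw [pow_two, FF.mulAut_mul_apply] at e
            exact (φ σ).injective e)
          have hn1 : φ d w ≠ 1 := fun e => hw1 ((MulEquiv.map_eq_one_iff _).mp e)
          have hσn : ∀ i : ℕ, φ (σ ^ i) w ≠ 1 := fun i e => hw1 ((MulEquiv.map_eq_one_iff _).mp e)
          have hcard : ({1, ⟨φ d w, hdW w hw⟩, ⟨w, hw⟩, ⟨φ σ w, by simpa using hσW 1⟩, ⟨φ (σ ^ 2) w, hσW 2⟩}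
              : Finset ↥W').card = 5 := by
            have e0 : φ d w ≠ w := by simpa using hall 0
            have e1 : φ d w ≠ φ σ w := by simpa using hall 1
            have e2 : φ d w ≠ φ (σ ^ 2) w := hall 2
            have n0 : φ σ w ≠ 1 := by simpa using hσn 1
            have n2 := hσn 2
            rw [Finset.card_insert_of_notMem, Finset.card_insert_of_notMem, Finset.card_insert_of_notMem,
              Finset.card_insert_of_notMem, Finset.card_singleton]
            all_goals simp only [Finset.mem_insert, Finset.mem_singleton]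
            · exact fun h => hs3.symm (congrArg Subtype.val h)
            · exact fun h => h.elim (fun h => hs1.symm (congrArg Subtype.val h)) fun h => hs2.symm (congrArg Subtype.val h)
            · exact fun h => h.elim (fun h => e0 (congrArg Subtype.val h)) fun h =>
                h.elim (fun h => e1 (congrArg Subtype.val h)) fun h => e2 (congrArg Subtype.val h)
            · exact fun h => h.elim (fun h => hn1 (congrArg Subtype.val h).symm) fun h =>
                h.elim (fun h => hw1 (congrArg Subtype.val h).symm) fun h =>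
                h.elim (fun h => n0 (congrArg Subtype.val h).symm) fun h => n2 (congrArg Subtype.val h).symm
          have := Finset.card_le_univ ({1, ⟨φ d w, hdW w hw⟩, ⟨w, hw⟩, ⟨φ σ w, by simpa using hσW 1⟩,
            ⟨φ (σ ^ 2) w, hσW 2⟩} : Finset ↥W')
          rw [hcard, ← Nat.card_eq_fintype_card, hW'c] at this
          omega
        obtain ⟨i, hi⟩ := horb
        have hcomm : Commute d σ := hdσ
        have h3 : φ (d ^ 3) w = w := by
          have key : ∀ n : ℕ, φ (d ^ n) w = φ ((σ ^ i) ^ n) w := by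
            intro n
            induction n with
            | zero => simp
            | succ n ih =>
              rw [pow_succ, FF.mulAut_mul_apply, hi, ← FF.mulAut_mul_apply,
                ((hcomm.pow_left n).pow_right i).eq, FF.mulAut_mul_apply, ih, ← FF.mulAut_mul_apply, ← pow_succ']
          rw [key, ← pow_mul, mul_comm, pow_mul, hσ3, one_pow, map_one, MulAut.one_apply]
        obtain ⟨k, hk⟩ := exists_pow_eq_self_of_coprime (x := d) (n := 3)
          (Nat.Coprime.of_dvd_right (orderOf_dvd_of_pow_eq_one ha) (Nat.Coprime.pow_right _ (by norm_num)))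
        have hkey : ∀ m : ℕ, φ ((d ^ 3) ^ m) w = w := by
          intro m
          induction m with
          | zero => simp
          | succ m ih => rw [pow_succ, FF.mulAut_mul_apply, h3, ih]
        rw [← hk]
        exact hkey k
      refine hφinj (MulEquiv.ext fun p => ?_)
      rw [map_one, MulAut.one_apply]
      have hall : P ≤ (FF.fixedBy φ d₀).map P.subtype := by
        refine (Subgroup.closure_le _).mpr ?_
        rintro _ ⟨x, hx, w, hw, rfl⟩
        refine ⟨⟨x * w * x⁻¹, Subgroup.subset_closure ⟨x, hx, w, hw, rfl⟩⟩, ?_, rfl⟩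
        set g := π ⟨x, hx⟩
        have hd : g⁻¹ * d₀ * g ∈ Subgroup.centralizer (F : Set ↥β.range) := by
          simpa using hCn.conj_mem d₀ hd₀ g⁻¹
        have hda : (g⁻¹ * d₀ * g) ^ 2 ^ a = 1 := by
          have h := conj_pow (i := 2 ^ a) (a := g⁻¹) (b := d₀)
          rw [inv_inv] at h
          rw [h, ha₀, mul_one, inv_mul_cancel]
        have h := hfix _ hd hda ⟨w, hWP hw⟩ hw
        rw [SetLike.mem_coe, FF.mem_fixedBy]
        have he : (⟨x * w * x⁻¹, Subgroup.subset_closure ⟨x, hx, w, hw, rfl⟩⟩ : ↥P) = φ g ⟨w, hWP hw⟩ :=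
          Subtype.ext (hβ ⟨x, hx⟩ ⟨w, hWP hw⟩).symm
        rw [he, ← FF.mulAut_mul_apply]
        conv_rhs => rw [← h]
        rw [← FF.mulAut_mul_apply]
        congr 1
        group
      obtain ⟨p', hp', hpe⟩ := hall p.2
      obtain rfl : p' = p := Subtype.ext hpe
      exact hp'
    intro d hd
    obtain ⟨a, m, hm, he⟩ := Nat.exists_eq_two_pow_mul_odd (orderOf_pos d).ne'
    have h1 : d ^ m = 1 := h2triv _ (pow_mem hd m) a (by
      rw [← pow_mul, mul_comm, ← he, pow_orderOf_eq_one])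
    obtain ⟨f, hf, j, hj, rfl⟩ := hFJ d
    obtain ⟨e, hje⟩ := hJb2 ⟨j, hj⟩
    have hq1 : ((f * j : ↥β.range) : ↥β.range ⧸ F) = (j : ↥β.range ⧸ F) := by
      rw [QuotientGroup.mk_mul, (QuotientGroup.eq_one_iff f).mpr hf, one_mul]
    have hq2 : (j : ↥β.range ⧸ F) ^ 2 ^ e = 1 := by
      rw [← QuotientGroup.mk_pow, show j ^ 2 ^ e = 1 from by simpa using congrArg Subtype.val hje,
        QuotientGroup.mk_one]
    have hq3 : ((f * j : ↥β.range) : ↥β.range ⧸ F) ^ m = 1 := by
      rw [← QuotientGroup.mk_pow, h1, QuotientGroup.mk_one]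
    rw [hq1] at hq3
    have hj1 : (j : ↥β.range ⧸ F) = 1 := by
      rw [← orderOf_eq_one_iff]
      exact Nat.eq_one_of_dvd_coprimes (Nat.Coprime.pow_right _ hm.coprime_two_right)
        (orderOf_dvd_of_pow_eq_one hq3) (orderOf_dvd_of_pow_eq_one hq2)
    exact mul_mem hf ((QuotientGroup.eq_one_iff j).mp hj1)
  have hFodd : Odd (Nat.card F) := by
    obtain ⟨k, hk⟩ := IsPGroup.iff_card.mp hF3
    rw [hk]; exact Odd.pow (by decide)
  -- the offenders
  have hPe : IsElementaryAbelian 2 P :=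
    ⟨⟨⟨fun a b => mul_comm a b⟩⟩, fun p hp => (mem_omegaCenterOf.mp (hPE hp)).2.2⟩
  have hgenJ : Jb ≤ Subgroup.closure {t | t ∈ Jb ∧ ∃ v, FF.IsTransvection φ t v} := by
    rw [hJb, Subgroup.map_le_iff_le_comap]
    intro j hj
    have hj' : (j : G) ∈ sSup (maxEAIn 2 T) := by
      rw [← thompsonSubgroupOf_eq]; exact hj
    have main : ∀ A ∈ maxEAIn 2 T, A ≤
        ((Subgroup.closure {t | t ∈ Jb ∧ ∃ v, FF.IsTransvection φ t v}).comap π).map X.subtype := by
      rintro A ⟨hAT, hAe, hAmax⟩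
      have hAJ : A ≤ J := by rw [hJdef, thompsonSubgroupOf_eq]; exact le_sSup ⟨hAT, hAe, hAmax⟩
      have hAX : A ≤ X := hAJ.trans hJX
      set Ab := (A.subgroupOf X).map π with hAb
      have hAbe : IsElementaryAbelian 2 Ab := by
        refine CfsgLib.PLocal.isEA_map (CfsgLib.PLocal.isEA_of_map X.subtype_injective ?_) _
        rw [Subgroup.map_subgroupOf_eq_of_le hAX]; exact hAe
      have hAbJ : Ab ≤ Jb := Subgroup.map_mono fun a ha => Subgroup.mem_subgroupOf.mpr (hAJ (Subgroup.mem_subgroupOf.mp ha))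
      have hoff : Nat.card ↥P ≤ Nat.card Ab * Nat.card ↥(FF.fixedSub φ Ab) := by
        let ψ : ↥A →* ↥β.range := π.comp (Subgroup.inclusion hAX)
        set B := A ⊓ Subgroup.centralizer (P : Set G) with hB
        have hker : Nat.card ψ.ker = Nat.card B := by
          refine Nat.card_congr
            { toFun := fun a => ⟨(a : ↥A), a.1.2, Subgroup.mem_centralizer_iff.mpr fun p hp => ?_⟩
              invFun := fun a => ⟨⟨a, a.2.1⟩, hφinj (MulEquiv.ext fun p => Subtype.ext ?_)⟩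
              left_inv := fun a => rfl
              right_inv := fun a => rfl }
          · have h : ((a : ↥A) : G) * p * ((a : ↥A) : G)⁻¹ = p := congrArg Subtype.val
              (DFunLike.congr_fun (congrArg φ (MonoidHom.mem_ker.mp a.2)) (⟨p, hp⟩ : ↥P))
            exact (mul_inv_eq_iff_eq_mul.mp h).symm
          · show (a : G) * p * (a : G)⁻¹ = p
            rw [← Subgroup.mem_centralizer_iff.mp a.2.2 p p.2, mul_inv_cancel_right]
        have hrange : ψ.range = Ab := by
          ext y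
          constructor
          · rintro ⟨a, rfl⟩
            exact ⟨⟨a, hAX a.2⟩, a.2, rfl⟩
          · rintro ⟨a, ha, rfl⟩
            exact ⟨⟨a, ha⟩, rfl⟩
        have hcard : Nat.card A = Nat.card B * Nat.card Ab := by
          rw [← hker, ← hrange, ← Subgroup.index_ker, Subgroup.card_mul_index]
        have hBA : B ≤ A := inf_le_left
        have hsup := isEA_sup (isEA_le hAe hBA) hPe fun a ha p hp =>
          (Subgroup.mem_centralizer_iff.mp ha.2 p hp).symm
        have hBX : B ⊔ P ≤ L := sup_le ((hBA.trans hAX).trans hXL)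
          (fun p hp => hXL (pCoreOf_le X (mem_omegaCenterOf.mp (hPE hp)).1))
        have hBP2 : IsPGroup 2 ↥(B ⊔ P) := CfsgLib.PLocal.isEA_isPGroup hsup
        obtain ⟨x, -, hxT⟩ := c.exists_conj_le hBP2 hBX
        have h1 : Nat.card ↥(B ⊔ P) ≤ Nat.card A := by
          refine le_of_eq_of_le (Subgroup.card_map_of_injective (f := (MulAut.conj x).toMonoidHom) (MulAut.conj x).injective).symm ?_
          refine hAmax _ ?_ (CfsgLib.PLocal.isEA_map hsup (MulAut.conj x).toMonoidHom)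
          rintro _ ⟨b, hb, rfl⟩
          exact hxT b hb
        have h2 := CfsgLib.PLoc.card_sup_mul_card_inf (H := B) (N := P) ((hBA.trans hAX).trans hXP)
        have h3 : Nat.card ↥(B ⊓ P) ≤ Nat.card ↥(FF.fixedSub φ Ab) := by
          refine Nat.card_le_card_of_injective (fun v => ⟨⟨(v : G), v.2.2⟩, ?_⟩) ?_
          · rw [FF.mem_fixedSub]
            rintro _ ⟨a, ha, rfl⟩
            apply Subtype.ext
            show (a : G) * v * (a : G)⁻¹ = v
            rw [show (a : G) * v = v * a from congrArg Subtype.val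
              (hAe.1.is_comm.comm ⟨a, ha⟩ ⟨v, v.2.1.1⟩), mul_inv_cancel_right]
          · intro u v h
            exact Subtype.ext (congrArg (fun w => ((w : ↥P) : G)) (congrArg Subtype.val h))
        refine Nat.le_of_mul_le_mul_left ?_ (Nat.card_pos (α := ↥B))
        rw [← h2, ← mul_assoc, ← hcard]
        exact Nat.mul_le_mul h1 h3
      have hg := FF.offender_le_closure hφinj hP2 hFn hFodd hFc hAbe hoff
      intro a ha
      refine ⟨⟨a, hAX ha⟩, ?_, rfl⟩
      rw [SetLike.mem_coe, Subgroup.mem_comap]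
      refine Subgroup.closure_mono ?_ (hg ⟨⟨a, hAX ha⟩, Subgroup.mem_subgroupOf.mpr ha, rfl⟩)
      rintro t ⟨ht, hv⟩
      exact ⟨hAbJ ht, hv⟩
    obtain ⟨j', hj'', hje⟩ := sSup_le main hj'
    obtain rfl : j' = j := Subtype.ext hje
    exact hj''
  have hset : FF.Setup φ F Jb := ⟨hφinj, hP2, hFn, hFodd, hF3.isNilpotent, hFc, hJb2, hgenJ⟩
  -- every element of `J` fixes `W`
  have hstab : ∀ t ∈ Jb, ∀ w ∈ W', φ t w ∈ W' := by
    have hgens : ∀ s ∈ {t | t ∈ Jb ∧ ∃ v, FF.IsTransvection φ t v}, ∀ w ∈ W', φ s w ∈ W' := by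
      rintro s ⟨-, v, hv⟩
      obtain ⟨ρs, hp, hcom, hn⟩ := hset.plane hv
      refine shift_invariant hP2 hW'c hv hsh' hfpf' hsurj ?_
      obtain ⟨i, hi⟩ := Subgroup.mem_zpowers_iff.mp (hcom σ hσF)
      have hσρ : Commute σ ρs := by
        obtain ⟨e, he⟩ := Subgroup.mem_zpowers_iff.mp
          ((Subgroup.mem_normalizer_iff.mp (hn hσF) ρs).mp (Subgroup.mem_zpowers ρs))
        have hd : ρs ^ e = ρs ∨ ρs ^ e = ρs⁻¹ := by
          have he0 : ρs ^ e ≠ 1 := by
            rw [he]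
            intro h
            rw [conj_eq_one_iff] at h
            have := hp.order
            rw [h, orderOf_one] at this
            omega
          have hmod := zpow_mod_orderOf ρs e
          rw [hp.order] at hmod
          have h3 : e % ((3 : ℕ) : ℤ) = 0 ∨ e % ((3 : ℕ) : ℤ) = 1 ∨ e % ((3 : ℕ) : ℤ) = 2 := by omega
          rcases h3 with h | h | h <;> rw [h] at hmod
          · rw [zpow_zero] at hmod; exact absurd hmod.symm he0
          · left; rw [← hmod, zpow_one]
          · right; rw [← hmod, hp.inv_eq_sq, show (2 : ℤ) = ((2 : ℕ) : ℤ) from rfl, zpow_natCast, pow_two]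
        rcases hd with h | h
        · rw [h] at he
          exact (mul_inv_eq_iff_eq_mul.mp he.symm)
        · -- inversion is impossible by an element of order 3
          rw [h] at he
          have h2 : σ * (σ * ρs * σ⁻¹) * σ⁻¹ = ρs := by
            rw [← he]
            calc σ * ρs⁻¹ * σ⁻¹ = (σ * ρs * σ⁻¹)⁻¹ := by group
              _ = _ := by rw [← he, inv_inv]
          have h4 : σ * ρs * σ⁻¹ = ρs := by
            calc σ * ρs * σ⁻¹ = σ * (σ * (σ * ρs * σ⁻¹) * σ⁻¹) * σ⁻¹ := by rw [h2]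
              _ = (σ ^ 3) * ρs * (σ ^ 3)⁻¹ := by rw [pow_succ, pow_two]; group
              _ = ρs := by rw [hσ3]; group
          exact mul_inv_eq_iff_eq_mul.mp h4
      have hσ' : s * σ * s⁻¹ = ρs ^ i * σ := by
        rw [hi, commutatorElement_def, inv_mul_cancel_right]
      rw [hσ']
      exact (((hσρ.zpow_right i).symm).mul_left (Commute.refl σ)).eq
    intro t ht
    have ht' := hgenJ ht
    clear ht
    induction ht' using Subgroup.closure_induction'' with
    | mem s hs => exact hgens s hs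
    | inv_mem s hs =>
      obtain ⟨hs1, v, hv⟩ := hs
      rw [hv.inv_eq]
      exact hgens s ⟨hs1, v, hv⟩
    | one => intro w hw; rw [map_one]; exact hw
    | mul a b _ _ ha hb =>
      intro w hw
      rw [FF.mulAut_mul_apply]
      exact ha _ (hb w hw)
  refine le_normalizer_of_conj fun j hj w hw => ?_
  have h := hstab (π ⟨j, hJX hj⟩) ⟨⟨j, hJX hj⟩, Subgroup.mem_subgroupOf.mpr hj, rfl⟩ ⟨w, hWP hw⟩ hw
  exact h

end Ctx

end CfsgLib.JComp
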