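import Cfsg.Agent.Lib.JComp.Setting

/-!
Lifting the planes to `L ⧸ O₂(L)`.
-/

set_option autoImplicit false
set_option maxHeartbeats 800000
open Cfsg CfsgLib.PLocal
open scoped commutatorElement

attribute [local instance] CfsgLib.CharP.pCore_normal'

namespace CfsgLib.JComp

variable {G : Type*} [Group G]

/-- `L → L ⧸ O₂(L)`. -/
noncomputable def modCore (L : Subgroup G) : ↥L →* ↥L ⧸ Cfsg.pCore 2 ↥L := QuotientGroup.mk' _

theorem modCore_surjective (L : Subgroup G) : Function.Surjective (modCore L) :=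
  QuotientGroup.mk'_surjective _

theorem modCore_eq_one {L : Subgroup G} {x : ↥L} : modCore L x = 1 ↔ (x : G) ∈ pCoreOf 2 L := by
  rw [modCore, QuotientGroup.mk'_apply, QuotientGroup.eq_one_iff, pCoreOf]
  exact (Subgroup.mem_map_iff_mem L.subtype_injective).symm

/-- The image of `C_L(V)` in `L ⧸ O₂(L)`. -/
noncomputable def imC (T L : Subgroup G) : Subgroup (↥L ⧸ Cfsg.pCore 2 ↥L) :=
  ((modC T L).subgroupOf L).map (modCore L)

/-- The image of `J(T)` in `L ⧸ O₂(L)`. -/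
noncomputable def imA (T L : Subgroup G) : Subgroup (↥L ⧸ Cfsg.pCore 2 ↥L) :=
  ((thompsonSubgroupOf 2 T).subgroupOf L).map (modCore L)

namespace Ctx

variable [Finite G] {T L : Subgroup G} (c : Ctx T L)

include c

/-- `r` is the lift of the plane element `ρ` attached to the transvection `t`. -/
structure IsLift (t : ↥c.act.range) (ρ : ↥c.act.range) (r : ↥L ⧸ Cfsg.pCore 2 ↥L) : Prop where
  order : orderOf r = 3
  proj : ∀ x : ↥L, modCore L x = r → c.pi x = ρ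
  central : ∀ z ∈ imC T L, z * r = r * z
  act : ∀ a ∈ imA T L, a * r * a⁻¹ = r ∨ a * r * a⁻¹ = r⁻¹
  inverted : ∀ j : ↥L, (j : G) ∈ thompsonSubgroupOf 2 T → c.pi j = t → modCore L j * r * (modCore L j)⁻¹ = r⁻¹

theorem pi_factor {x y : ↥L} (h : modCore L x = modCore L y) : c.pi x = c.pi y := by
  have h1 : modCore L (x⁻¹ * y) = 1 := by rw [map_mul, map_inv, h, inv_mul_cancel]
  rw [modCore_eq_one] at h1
  have h2 := c.pi_eq_one.mpr (c.core_le_modC h1)
  rw [map_mul, map_inv, inv_mul_eq_one] at h2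
  exact h2

theorem mem_imC_of_pi_eq_one {x : ↥L} (h : c.pi x = 1) : modCore L x ∈ imC T L :=
  ⟨x, c.pi_eq_one.mp h, rfl⟩

theorem imC_normal : (imC T L).Normal :=
  Subgroup.Normal.map (Subgroup.normal_subgroupOf_of_le_normalizer c.L_le_normalizer_modC) _
    (modCore_surjective L)

theorem imC_comm_imA {z a : ↥L ⧸ Cfsg.pCore 2 ↥L} (hz : z ∈ imC T L) (ha : a ∈ imA T L) :
    z * a = a * z := by
  obtain ⟨z', hz', rfl⟩ := hz
  obtain ⟨a', ha', rfl⟩ := ha
  rw [← commutatorElement_eq_one_iff_mul_comm, ← map_commutatorElement, modCore_eq_one]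
  exact c.comm_T_mem hz' (thompsonSubgroupOf_le 2 T ha')

theorem imA_two {a : ↥L ⧸ Cfsg.pCore 2 ↥L} (ha : a ∈ imA T L) : a * a = 1 ∧ ∀ b ∈ imA T L, a * b = b * a := by
  obtain ⟨a', ha', rfl⟩ := ha
  have h := c.setup.sq_eq_one (j := c.pi a') ⟨a', ha', rfl⟩
  have key : ∀ u : ↥L, c.pi u = 1 → (u : G) ∈ T → modCore L u = 1 := fun u hu huT => by
    rw [modCore_eq_one]
    exact c.two_le_core (c.two.to_le inf_le_left) inf_le_right
      (show (u : G) ∈ T ⊓ modC T L from ⟨huT, c.pi_eq_one.mp hu⟩)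
  refine ⟨?_, ?_⟩
  · rw [← map_mul]
    exact key _ (by rw [map_mul]; exact h.1) (mul_mem (thompsonSubgroupOf_le 2 T ha') (thompsonSubgroupOf_le 2 T ha'))
  · rintro _ ⟨b', hb', rfl⟩
    rw [← commutatorElement_eq_one_iff_mul_comm, ← map_commutatorElement]
    refine key _ ?_ ?_
    · rw [map_commutatorElement, commutatorElement_eq_one_iff_mul_comm]
      exact h.2 _ ⟨b', hb', rfl⟩
    · rw [commutatorElement_def]
      simp only [Subgroup.coe_mul, Subgroup.coe_inv]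
      have ha'' := thompsonSubgroupOf_le 2 T ha'
      have hb'' := thompsonSubgroupOf_le 2 T hb'
      exact T.mul_mem (T.mul_mem (T.mul_mem ha'' hb'') (T.inv_mem ha'')) (T.inv_mem hb'')

theorem exists_lift {t ρ : ↥c.act.range} {v : ↥(modV T L)} (ht : t ∈ c.imJ)
    (hp : FF.IsPlane c.act.range.subtype (Cfsg.fittingSubgroup ↥c.act.range) t v ρ)
    (hn : Cfsg.fittingSubgroup ↥c.act.range ≤ Subgroup.normalizer (Subgroup.zpowers ρ : Set ↥c.act.range)) :
    ∃ r, c.IsLift t ρ r := by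
  haveI : Fact (Nat.Prime 3) := ⟨Nat.prime_three⟩
  have hset := c.setup
  obtain ⟨j, hjJ, hjt⟩ := ht
  obtain ⟨r₁, hr₁⟩ := c.pi_surjective ρ
  set a := modCore L j with ha
  have haA : a ∈ imA T L := ⟨j, hjJ, rfl⟩
  have hCn := c.imC_normal
  -- a lift centralising `C`
  set r₀ : ↥L := ⁅j, r₁⁆ with hr₀
  have hpi₀ : c.pi r₀ = ρ := by
    rw [hr₀, map_commutatorElement, hjt, hr₁, ← hset.rho_eq_commutator hp]
  set b := modCore L r₀ with hb
  have hbC : ∀ z ∈ imC T L, z * b = b * z := by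
    intro z hz
    rw [hb, hr₀, map_commutatorElement, commutatorElement_def, ← ha]
    set u := modCore L r₁
    have h1 : Commute z a := c.imC_comm_imA hz haA
    have h2 : Commute z (u * a⁻¹ * u⁻¹) := by
      have hz' : u⁻¹ * z * u ∈ imC T L := by simpa using hCn.conj_mem z hz u⁻¹
      have h3 : Commute (u⁻¹ * z * u) a⁻¹ :=
        (show Commute (u⁻¹ * z * u) a from c.imC_comm_imA hz' haA).inv_right
      show z * (u * a⁻¹ * u⁻¹) = u * a⁻¹ * u⁻¹ * z
      calc z * (u * a⁻¹ * u⁻¹) = u * ((u⁻¹ * z * u) * a⁻¹) * u⁻¹ := by group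
        _ = u * (a⁻¹ * (u⁻¹ * z * u)) * u⁻¹ := by rw [h3.eq]
        _ = u * a⁻¹ * u⁻¹ * z := by group
    calc z * (a * u * a⁻¹ * u⁻¹) = z * (a * (u * a⁻¹ * u⁻¹)) := by group
      _ = a * (u * a⁻¹ * u⁻¹) * z := (h1.mul_right h2).eq
      _ = a * u * a⁻¹ * u⁻¹ * z := by group
  -- how `a` acts on `b`
  obtain ⟨z₀, hz₀, hz₀'⟩ : ∃ z ∈ imC T L, a * b * a⁻¹ = b⁻¹ * z := by
    refine ⟨b * (a * b * a⁻¹), ?_, by group⟩
    rw [ha, hb, ← map_inv, ← map_mul, ← map_mul, ← map_mul]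
    refine c.mem_imC_of_pi_eq_one ?_
    rw [map_mul, map_mul, map_mul, map_inv, hpi₀, hjt, hp.inverts, mul_inv_cancel]
  set r := a * b * a⁻¹ * b⁻¹ with hr
  have hzb : Commute z₀ b := hbC z₀ hz₀
  have hza : Commute z₀ a := c.imC_comm_imA hz₀ haA
  have hab : Commute (a * b * a⁻¹) b := by
    rw [hz₀']; exact ((Commute.refl b).inv_left).mul_left hzb
  have haa : a * a = 1 := (c.imA_two haA).1
  have hainv : a * r * a⁻¹ = r⁻¹ := by
    rw [hr]
    calc a * (a * b * a⁻¹ * b⁻¹) * a⁻¹ = (a * a) * b * (a * a)⁻¹ * (a * b * a⁻¹)⁻¹ := by group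
      _ = b * (a * b * a⁻¹)⁻¹ := by rw [haa]; group
      _ = (a * b * a⁻¹ * b⁻¹)⁻¹ := by group
  have hpi : ∀ x : ↥L, modCore L x = r → c.pi x = ρ := by
    intro x hx
    rw [c.pi_factor (x := x) (y := ⁅j, r₀⁆) (by rw [hx, hr, map_commutatorElement, commutatorElement_def])]
    rw [map_commutatorElement, hjt, hpi₀, ← hset.rho_eq_commutator hp]
  have hrC : ∀ z ∈ imC T L, z * r = r * z := by
    intro z hz
    have h1 : Commute z a := c.imC_comm_imA hz haA
    have h2 : Commute z b := hbC z hz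
    exact (((h1.mul_right h2).mul_right h1.inv_right).mul_right h2.inv_right).eq
  have hr3 : r ^ 3 = 1 := by
    obtain ⟨x, hx⟩ := modCore_surjective L r
    have hmem : r ^ 3 ∈ imC T L := by
      rw [← hx, ← map_pow]
      exact c.mem_imC_of_pi_eq_one (by rw [map_pow, hpi x hx, hp.cube])
    have h1 : a * r ^ 3 * a⁻¹ = (r ^ 3)⁻¹ := by rw [← conj_pow, hainv, inv_pow]
    have h2 : a * r ^ 3 * a⁻¹ = r ^ 3 := by rw [← c.imC_comm_imA hmem haA, mul_inv_cancel_right]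
    have h3 : r ^ 3 * r ^ 3 = 1 := by
      have := h2.symm.trans h1
      conv_lhs => arg 2; rw [this]
      exact mul_inv_cancel _
    -- an element of `C` of two-power order modulo `O₂(L)` lies in `O₂(L)`
    have hx6 : modCore L (x ^ 6) = 1 := by rw [map_pow, hx, show (6 : ℕ) = 3 + 3 from rfl, pow_add, h3]
    rw [modCore_eq_one] at hx6
    obtain ⟨e, he⟩ := pCoreOf_isPGroup L ⟨_, hx6⟩
    have hC : ((x ^ 3 : ↥L) : G) ∈ modC T L := c.pi_eq_one.mp (by rw [map_pow, hpi x hx, hp.cube])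
    have hP : ((x ^ 3 : ↥L) : G) ∈ pCoreOf 2 L := by
      refine c.two_le_core (X := Subgroup.zpowers ((x ^ 3 : ↥L) : G)) ?_ (Subgroup.zpowers_le.mpr hC) (Subgroup.mem_zpowers _)
      intro g
      obtain ⟨k, hk⟩ := Subgroup.mem_zpowers_iff.mp g.2
      refine ⟨e + 1, Subtype.ext ?_⟩
      have he' : (((x ^ 6 : ↥L)) : G) ^ 2 ^ e = 1 := congrArg Subtype.val he
      have h33 : ((x ^ 3 : ↥L) : G) ^ 2 ^ (e + 1) = 1 := by
        rw [SubmonoidClass.coe_pow] at he' ⊢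
        rw [← pow_mul] at he' ⊢
        rw [show 3 * 2 ^ (e + 1) = 6 * 2 ^ e by ring]
        exact he'
      rw [SubmonoidClass.coe_pow, OneMemClass.coe_one, ← hk, ← zpow_natCast, ← zpow_mul, mul_comm,
        zpow_mul, zpow_natCast, h33, one_zpow]
    rw [← hx, ← map_pow]
    exact modCore_eq_one.mpr hP
  have hr1 : r ≠ 1 := by
    intro h
    have := hpi 1 (by rw [map_one, h])
    rw [map_one] at this
    have h2 := hp.order
    rw [← this, orderOf_one] at h2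
    omega
  refine ⟨r, orderOf_eq_prime hr3 hr1, hpi, hrC, ?_, ?_⟩
  · rintro a' ha'A
    obtain ⟨j', hj', rfl⟩ := id ha'A
    set a' := modCore L j'
    have hcc : Commute a' a := (c.imA_two ha'A).2 _ haA
    have hmemC : ∀ e : ↥c.act.range, ∀ y : ↥L, c.pi j' * ρ * (c.pi j')⁻¹ = e → c.pi y = e →
        (modCore L y)⁻¹ * (a' * b * a'⁻¹) ∈ imC T L := fun e y he hy => by
      rw [hb, ← map_inv, ← map_inv, ← map_mul, ← map_mul, ← map_mul]
      exact c.mem_imC_of_pi_eq_one (by rw [map_mul, map_mul, map_mul, map_inv, map_inv, hy, hpi₀, he, inv_mul_cancel])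
    have hconj : a' * r * a'⁻¹ = a * (a' * b * a'⁻¹) * a⁻¹ * (a' * b * a'⁻¹)⁻¹ := by
      rw [hr]
      calc a' * (a * b * a⁻¹ * b⁻¹) * a'⁻¹
          = (a' * a) * b * (a' * a)⁻¹ * (a' * b * a'⁻¹)⁻¹ := by group
        _ = (a * a') * b * (a * a')⁻¹ * (a' * b * a'⁻¹)⁻¹ := by rw [hcc.eq]
        _ = _ := by group
    rcases hset.act_rho ⟨j, hjJ, hjt⟩ hp hn (j := c.pi j') ⟨j', hj', rfl⟩ with h | h
    · left
      have hm := hmemC ρ r₀ h hpi₀
      rw [← hb] at hm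
      set z := b⁻¹ * (a' * b * a'⁻¹) with hz
      have he : a' * b * a'⁻¹ = b * z := by rw [hz]; group
      have hza' : Commute z a := c.imC_comm_imA hm haA
      rw [hconj, he, hr]
      calc a * (b * z) * a⁻¹ * (b * z)⁻¹ = a * b * (z * a⁻¹) * z⁻¹ * b⁻¹ := by group
        _ = a * b * (a⁻¹ * z) * z⁻¹ * b⁻¹ := by rw [(hza'.inv_right).eq]
        _ = a * b * a⁻¹ * b⁻¹ := by group
    · right
      have hm := hmemC ρ⁻¹ r₀⁻¹ h (by rw [map_inv, hpi₀])
      rw [map_inv, inv_inv, ← hb] at hm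
      set z := b * (a' * b * a'⁻¹) with hz
      have he : a' * b * a'⁻¹ = b⁻¹ * z := by rw [hz]; group
      have hza' : Commute z a := c.imC_comm_imA hm haA
      rw [hconj, he, hr]
      calc a * (b⁻¹ * z) * a⁻¹ * (b⁻¹ * z)⁻¹ = a * b⁻¹ * (z * a⁻¹) * z⁻¹ * b := by group
        _ = a * b⁻¹ * (a⁻¹ * z) * z⁻¹ * b := by rw [(hza'.inv_right).eq]
        _ = (a * b * a⁻¹)⁻¹ * b := by group
        _ = b * (a * b * a⁻¹)⁻¹ := (hab.inv_left).eq
        _ = (a * b * a⁻¹ * b⁻¹)⁻¹ := by group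
  · intro j' hj' hj't
    have hd : modCore L j' = a := by
      have h1 : modCore L j' * a⁻¹ = 1 := by
        rw [ha, ← map_inv, ← map_mul, modCore_eq_one]
        refine c.two_le_core (c.two.to_le inf_le_left) inf_le_right
          (show ((j' * j⁻¹ : ↥L) : G) ∈ T ⊓ modC T L from ⟨?_, ?_⟩)
        · simp only [Subgroup.coe_mul, Subgroup.coe_inv]
          exact T.mul_mem (thompsonSubgroupOf_le 2 T hj') (T.inv_mem (thompsonSubgroupOf_le 2 T hjJ))
        · exact c.pi_eq_one.mp (by rw [map_mul, map_inv, hj't, hjt, mul_inv_cancel])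
      exact mul_inv_eq_one.mp h1
    rw [hd]
    exact hainv

theorem IsLift.pow_eq {t ρ : ↥c.act.range} {r : ↥L ⧸ Cfsg.pCore 2 ↥L} (h : c.IsLift t ρ r) : r ^ 3 = 1 := by
  rw [← h.order, pow_orderOf_eq_one]

/-- Lifts of different planes commute. -/
theorem lift_comm {t t' ρ ρ' : ↥c.act.range} {v v' : ↥(modV T L)} {r r' : ↥L ⧸ Cfsg.pCore 2 ↥L}
    (ht : t ∈ c.imJ) (ht' : t' ∈ c.imJ)
    (hp : FF.IsPlane c.act.range.subtype (Cfsg.fittingSubgroup ↥c.act.range) t v ρ)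
    (hn : Cfsg.fittingSubgroup ↥c.act.range ≤ Subgroup.normalizer (Subgroup.zpowers ρ : Set ↥c.act.range))
    (hp' : FF.IsPlane c.act.range.subtype (Cfsg.fittingSubgroup ↥c.act.range) t' v' ρ')
    (hn' : Cfsg.fittingSubgroup ↥c.act.range ≤ Subgroup.normalizer (Subgroup.zpowers ρ' : Set ↥c.act.range))
    (hr : c.IsLift t ρ r) (hr' : c.IsLift t' ρ' r') : r * r' = r' * r := by
  have hset := c.setup
  obtain ⟨j, hjJ, hjt⟩ := ht
  set a := modCore L j
  have haA : a ∈ imA T L := ⟨j, hjJ, rfl⟩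
  obtain ⟨x, hx⟩ := modCore_surjective L r
  obtain ⟨x', hx'⟩ := modCore_surjective L r'
  by_cases heq : Subgroup.zpowers ρ = Subgroup.zpowers ρ'
  · -- then the lift of `ρ'` is a power of `r` modulo `C`
    obtain ⟨k, hk⟩ := Subgroup.mem_zpowers_iff.mp (heq.ge (Subgroup.mem_zpowers ρ'))
    have hz : (r ^ k)⁻¹ * r' ∈ imC T L := by
      rw [← hx, ← hx', ← map_zpow, ← map_inv, ← map_mul]
      exact c.mem_imC_of_pi_eq_one (by rw [map_mul, map_inv, map_zpow, hr.proj x hx, hr'.proj x' hx', hk, inv_mul_cancel])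
    have h1 : Commute r ((r ^ k)⁻¹ * r') := (hr.central _ hz).symm
    have h2 := (((Commute.refl r).zpow_right k).mul_right h1)
    rwa [mul_inv_cancel_left] at h2
  obtain ⟨hρc, htρ, -, -⟩ := FF.IsPlane.independent hset.inj hset.exp2 hset.odd hp hp' hn hn' heq
  set z := r * r' * r⁻¹ * r'⁻¹ with hz
  have hzC : z ∈ imC T L := by
    rw [hz, ← hx, ← hx', ← map_inv, ← map_inv, ← map_mul, ← map_mul, ← map_mul]
    refine c.mem_imC_of_pi_eq_one ?_
    rw [map_mul, map_mul, map_mul, map_inv, map_inv, hr.proj x hx, hr'.proj x' hx', hρc]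
    group
  have har : a * r * a⁻¹ = r⁻¹ := hr.inverted j hjJ hjt
  have har' : a * r' * a⁻¹ = r' := by
    refine (hr'.act a haA).resolve_right fun h => ?_
    have h1 : c.pi (j * x' * j⁻¹) = c.pi x'⁻¹ := c.pi_factor (by
      rw [map_mul, map_mul, map_inv, map_inv, hx']; exact h)
    rw [map_mul, map_mul, map_inv, map_inv, hr'.proj x' hx', hjt, htρ, mul_inv_cancel_right, eq_inv_iff_mul_eq_one,
      ← pow_two, ← orderOf_dvd_iff_pow_eq_one, hp'.order] at h1
    omega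
  have hzr : Commute z r := hr.central z hzC
  have hza : a * z * a⁻¹ = z := by rw [← c.imC_comm_imA hzC haA, mul_inv_cancel_right]
  have e1 : r⁻¹ * r' * r * r'⁻¹ = z := by
    calc r⁻¹ * r' * r * r'⁻¹ = (a * r * a⁻¹) * (a * r' * a⁻¹) * (a * r * a⁻¹)⁻¹ * (a * r' * a⁻¹)⁻¹ := by
          rw [har, har', inv_inv]
      _ = a * (r * r' * r⁻¹ * r'⁻¹) * a⁻¹ := by group
      _ = z := by rw [← hz, hza]
  have e2 : r⁻¹ * r' * r * r'⁻¹ = z⁻¹ := by
    have h2 : r⁻¹ * z * r = z := by rw [mul_assoc, hzr.eq, inv_mul_cancel_left]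
    have h3 : z * (r⁻¹ * r' * r * r'⁻¹) = 1 := by
      nth_rewrite 1 [← h2]
      rw [hz]; group
    exact (inv_eq_of_mul_eq_one_right h3).symm
  have hzz : z * z = 1 := by
    have h4 : z = z⁻¹ := e1.symm.trans e2
    nth_rewrite 2 [h4]
    exact mul_inv_cancel z
  have h5 : z = 1 := by
    obtain ⟨w, hw, hwe⟩ := hzC
    have hw2 : ((w * w : ↥L) : G) ∈ pCoreOf 2 L := by rw [← modCore_eq_one, map_mul, hwe, hzz]
    rw [← hwe, modCore_eq_one]
    refine c.two_le_core (X := Subgroup.zpowers (w : G)) ?_ (Subgroup.zpowers_le.mpr hw) (Subgroup.mem_zpowers _)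
    obtain ⟨e, he⟩ := pCoreOf_isPGroup L ⟨_, hw2⟩
    have he' : (((w * w : ↥L)) : G) ^ 2 ^ e = 1 := congrArg Subtype.val he
    intro g
    obtain ⟨k, hk⟩ := Subgroup.mem_zpowers_iff.mp g.2
    refine ⟨e + 1, Subtype.ext ?_⟩
    rw [Subgroup.coe_mul, ← pow_two, ← pow_mul, ← pow_succ'] at he'
    rw [SubmonoidClass.coe_pow, OneMemClass.coe_one, ← hk, ← zpow_natCast, ← zpow_mul, mul_comm,
      zpow_mul, zpow_natCast, he', one_zpow]
  calc r * r' = z * (r' * r) := by rw [hz]; group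
    _ = r' * r := by rw [h5, one_mul]

/-- The preimage of the plane group centralises every lift modulo `O₂(L)`. -/
theorem preN_commutes {t ρ : ↥c.act.range} {v : ↥(modV T L)} {r : ↥L ⧸ Cfsg.pCore 2 ↥L}
    (ht : t ∈ c.imJ) (hp : FF.IsPlane c.act.range.subtype (Cfsg.fittingSubgroup ↥c.act.range) t v ρ)
    (hn : Cfsg.fittingSubgroup ↥c.act.range ≤ Subgroup.normalizer (Subgroup.zpowers ρ : Set ↥c.act.range))
    (hr : c.IsLift t ρ r) {x : ↥L} (hx : c.pi x ∈ c.planeN) : modCore L x * r = r * modCore L x := by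
  have hset := c.setup
  -- it suffices to treat the planes of transvections in the image of `J`
  set S : Subgroup ↥L := (Subgroup.centralizer ({r} : Set (↥L ⧸ Cfsg.pCore 2 ↥L))).comap (modCore L) with hS
  have hker : c.pi.ker ≤ S := fun y hy => by
    rw [MonoidHom.mem_ker] at hy
    exact Subgroup.mem_centralizer_singleton_iff.mpr (hr.central _ (c.mem_imC_of_pi_eq_one hy))
  suffices h : c.planeN ≤ S.map c.pi by
    obtain ⟨y, hy, hyx⟩ := h hx
    have h1 : y⁻¹ * x ∈ S := hker (by rw [MonoidHom.mem_ker, map_mul, map_inv, hyx, inv_mul_cancel])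
    have h2 := mul_mem hy h1
    rw [mul_inv_cancel_left] at h2
    exact Subgroup.mem_centralizer_singleton_iff.mp h2
  rw [planeN, FF.planeGroup, Subgroup.closure_le]
  rintro _ ⟨s, ⟨⟨w, hw⟩, g, hg⟩, q, hq, rfl⟩
  obtain ⟨g', hg'⟩ := c.pi_surjective g⁻¹
  obtain ⟨n, hnN, y, hyL, hyJ, hny⟩ := c.frattini g'.2
  obtain ⟨n', hn', rfl⟩ := hnN
  set y' : ↥L := ⟨y, hyL⟩
  have hgy : g' = n' * y' := Subtype.ext hny
  set s' := c.pi y' * (g * s * g⁻¹) * (c.pi y')⁻¹ with hs'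
  have hs'J : s' ∈ c.imJ := by
    obtain ⟨j, hj, hje⟩ := hg
    refine ⟨y' * j * y'⁻¹, ?_, by rw [map_mul, map_mul, map_inv, hje]⟩
    exact (Subgroup.mem_normalizer_iff.mp hyJ (j : G)).mp hj
  have hsT : ∃ w', FF.IsTransvection c.act.range.subtype s' w' := ⟨_, (hw.conj g).conj (c.pi y')⟩
  obtain ⟨w', hw'⟩ := hsT
  obtain ⟨ρ', hp', hcy', hn''⟩ := hset.plane hw'
  obtain ⟨r', hr'⟩ := c.exists_lift hs'J hp' hn''
  have hs : s = c.pi n' * s' * (c.pi n')⁻¹ := by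
    rw [hs', ← inv_inv g, ← hg', hgy, map_mul, inv_inv]; group
  set n₀ := c.pi n'
  have hn₀ : n₀ ∈ c.planeN := hn'
  have hq' : n₀⁻¹ * q * n₀ ∈ Cfsg.fittingSubgroup ↥c.act.range := by
    simpa using hset.normal.conj_mem q hq n₀⁻¹
  have hmem : ⁅s', n₀⁻¹ * q * n₀⁆ ∈ c.planeN :=
    Subgroup.subset_closure ⟨s', ⟨⟨w', hw'⟩, 1, by simpa using hs'J⟩, _, hq', rfl⟩
  have he : ⁅s, q⁆ = ⁅s', n₀⁻¹ * q * n₀⁆ := by
    have h1 : ⁅s, q⁆ = n₀ * ⁅s', n₀⁻¹ * q * n₀⁆ * n₀⁻¹ := by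
      rw [hs]; simp only [commutatorElement_def]; group
    rw [h1, hset.planeGroup_comm n₀ hn₀ _ hmem, mul_inv_cancel_right]
  obtain ⟨k, hk⟩ := Subgroup.mem_zpowers_iff.mp (hcy' _ hq')
  rw [SetLike.mem_coe, he, ← hk]
  refine zpow_mem ?_ k
  obtain ⟨x', hx'⟩ := modCore_surjective L r'
  refine ⟨x', Subgroup.mem_centralizer_singleton_iff.mpr ?_, hr'.proj x' hx'⟩
  rw [hx']
  exact (c.lift_comm ht hs'J hp hn hp' hn'' hr hr').symm

end Ctx

end CfsgLib.JComp
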