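import Cfsg.Agent.Lib.JComp.Hyper

/-!
With a component outside `L`: `T` normalises `K` and centralises `Ω₁(Z(J(T)))`, of order at most 4.
-/

set_option autoImplicit false
set_option maxHeartbeats 800000
open Cfsg CfsgLib.PLocal
open scoped commutatorElement

namespace CfsgLib.JComp

variable {G : Type*} [Group G] [Finite G]

theorem conj_mem_omega_thompson {T : Subgroup G} {g z : G} (hg : g ∈ Subgroup.normalizer (T : Set G))
    (hz : z ∈ omegaCenterOf (thompsonSubgroupOf 2 T)) :
    g * z * g⁻¹ ∈ omegaCenterOf (thompsonSubgroupOf 2 T) :=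
  conj_mem_omegaCenterOf (normalizer_le_normalizer_thompsonSubgroupOf T hg) hz

theorem wOf_conj_mem {K : Subgroup G} {g x : G} (hx : x ∈ wOf K) :
    g * x * g⁻¹ ∈ wOf (K.map (MulAut.conj g).toMonoidHom) := by
  rw [← wOf_map]; exact ⟨x, hx, rfl⟩

theorem hyp_conj_mem {T K : Subgroup G} {g x : G} (hg : g ∈ Subgroup.normalizer (T : Set G))
    (hx : x ∈ hyp T K) : g * x * g⁻¹ ∈ hyp T (K.map (MulAut.conj g).toMonoidHom) := by
  obtain ⟨hx1, hx2⟩ := Subgroup.mem_inf.mp hx
  refine Subgroup.mem_inf.mpr ⟨conj_mem_omega_thompson hg hx1, Subgroup.mem_centralizer_iff.mpr ?_⟩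
  rintro _ ⟨k, hk, rfl⟩
  simp only [MulEquiv.coe_toMonoidHom, MulAut.conj_apply]
  calc g * k * g⁻¹ * (g * x * g⁻¹) = g * (k * x) * g⁻¹ := by group
    _ = g * (x * k) * g⁻¹ := by rw [Subgroup.mem_centralizer_iff.mp hx2 k hk]
    _ = _ := by group

theorem exists_ne_of_card_two {U : Subgroup G} (h : Nat.card U = 2) :
    ∃ x ∈ U, x ≠ 1 ∧ ∀ y ∈ U, y = 1 ∨ y = x := by
  have hne : U ≠ ⊥ := fun e => by rw [e, Subgroup.card_bot] at h; omega
  obtain ⟨x, hx, hx1⟩ := (Subgroup.bot_or_exists_ne_one U).resolve_left hne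
  refine ⟨x, hx, hx1, fun y hy => ?_⟩
  by_contra hn
  push Not at hn
  classical
  have hsub : ({1, x, y} : Finset G) ⊆ (U : Set G).toFinite.toFinset := by
    intro z hz
    simp only [Finset.mem_insert, Finset.mem_singleton] at hz
    rw [Set.Finite.mem_toFinset]
    rcases hz with rfl | rfl | rfl
    · exact one_mem _
    · exact hx
    · exact hy
  have hc := Finset.card_le_card hsub
  rw [← Set.ncard_eq_toFinset_card _ (U : Set G).toFinite, ← Nat.card_coe_set_eq] at hc
  have h3 : ({1, x, y} : Finset G).card = 3 := by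
    simp [Finset.card_insert_of_notMem, Ne.symm hx1, Ne.symm hn.1, Ne.symm hn.2]
  rw [h3] at hc
  have hc' : 3 ≤ Nat.card U := hc
  omega

/-- The members of `Ω₁(Z(J(T)))` when there is at most one nontrivial element centralised by `K`. -/
theorem omega_cases {T K : Subgroup G} (hT : IsPGroup 2 T) (hK : IsJComponent T K)
    (hle : Nat.card ↥(omegaCenterOf (thompsonSubgroupOf 2 T)) ≤ 4) :
    ∃ h w, h ∈ hyp T K ∧ w ∈ omegaCenterOf (thompsonSubgroupOf 2 T) ∧ w ∈ wOf K ∧ w ≠ 1 ∧
      (∀ x ∈ hyp T K, x = 1 ∨ x = h) ∧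
      (∀ x ∈ omegaCenterOf (thompsonSubgroupOf 2 T) ⊓ wOf K, x = 1 ∨ x = w) ∧
      (h = 1 ↔ Nat.card ↥(omegaCenterOf (thompsonSubgroupOf 2 T)) = 2) ∧
      ∀ z ∈ omegaCenterOf (thompsonSubgroupOf 2 T), z = 1 ∨ z = h ∨ z = w ∨ z = h * w := by
  obtain ⟨w, hwZ, hwW, hw1, -, hwu⟩ := exists_fixW hT hK
  have hcard := card_omega_eq hT hK
  have hpos : 0 < Nat.card ↥(hyp T K) := Nat.card_pos
  obtain ⟨h, hh, hhu, hh2⟩ : ∃ h, h ∈ hyp T K ∧ (∀ x ∈ hyp T K, x = 1 ∨ x = h) ∧
      (h = 1 ↔ Nat.card ↥(hyp T K) = 1) := by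
    by_cases h1 : Nat.card ↥(hyp T K) = 1
    · refine ⟨1, one_mem _, fun x hx => ?_, iff_of_true rfl h1⟩
      rw [Subgroup.card_eq_one.mp h1, Subgroup.mem_bot] at hx
      exact Or.inl hx
    · obtain ⟨x, hx, hx1, hxu⟩ := exists_ne_of_card_two (U := hyp T K) (by omega)
      exact ⟨x, hx, hxu, iff_of_false hx1 h1⟩
  refine ⟨h, w, hh, hwZ, hwW, hw1, hhu, hwu, hh2.trans ⟨fun e => by omega, fun e => by omega⟩, ?_⟩
  intro z hz
  obtain ⟨c, hc, v, hv, rfl⟩ := omega_decomp hT hK hz
  rcases hhu c hc with rfl | rfl <;> rcases hwu v hv with rfl | rfl <;> simp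

namespace Pos

variable {M T K L : Subgroup G} (q : Pos M T K L)

include q

/-- `T` normalises `K` if some component lies outside `L`. -/
theorem T_le_normalizer (S : Sylow 2 G) (hTS : T ≤ (S : Subgroup G)) {K' : Subgroup G}
    (hK' : IsJComponent T K') (hK'L : ¬ K' ≤ L) : T ≤ Subgroup.normalizer (K : Set G) := by
  intro t ht
  by_contra htK
  have hTL := q.sylow.1
  have q₂ := q.map (q.T_le_M ht)
  set e := (MulAut.conj t).toMonoidHom with he
  rw [map_conj_eq_of_mem_normalizer (Subgroup.le_normalizer ht),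
    map_conj_eq_of_mem_normalizer (Subgroup.le_normalizer (hTL ht))] at q₂
  set K₂ := K.map e with hK₂
  have c := q.ctx
  have hne : K₂ ≠ K := fun h => htK (mem_normalizer_of_map_conj_eq h)
  have hWW : wOf K ⊓ wOf K₂ = ⊥ := by
    by_contra h
    exact hne (c.component_unique q.comp q.K_le q₂.comp q₂.K_le h).symm
  have hn1 : K₂ ≤ Subgroup.normalizer (wOf K : Set G) :=
    ((c.component_preN q₂.comp q₂.K_le).1.trans (c.component_preN q.comp q.K_le).2).trans
      (normalizer_le_normalizer_wOf K)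
  have hn2 : K ≤ Subgroup.normalizer (wOf K₂ : Set G) :=
    ((c.component_preN q.comp q.K_le).1.trans (c.component_preN q₂.comp q₂.K_le).2).trans
      (normalizer_le_normalizer_wOf K₂)
  -- the fixed point of each component is centralised by the other
  have key : ∀ {A B : Subgroup G}, IsJComponent T B → B ≤ Subgroup.normalizer (wOf A : Set G) →
      wOf A ⊓ wOf B = ⊥ → ∀ x ∈ omegaCenterOf (thompsonSubgroupOf 2 T), x ∈ wOf A →
      x ∈ Subgroup.centralizer (B : Set G) := by
    intro A B hB hn hmeet x hx hxA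
    rw [Subgroup.mem_centralizer_iff]
    intro k hk
    obtain ⟨cc, hcc, v, hv, hxe⟩ := omega_decomp q.two hB hx
    have hc' := Subgroup.mem_centralizer_iff.mp (Subgroup.mem_inf.mp hcc).2
    have hd1 : k * x * k⁻¹ * x⁻¹ ∈ wOf A :=
      mul_mem ((Subgroup.mem_normalizer_iff.mp (hn hk) x).mp hxA) (inv_mem hxA)
    have hvB := (Subgroup.mem_inf.mp hv).2
    have hkB : k * v * k⁻¹ ∈ wOf B :=
      (Subgroup.mem_normalizer_iff.mp (normalizer_le_normalizer_wOf B (Subgroup.le_normalizer hk)) v).mp hvB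
    have hd2 : k * x * k⁻¹ * x⁻¹ ∈ wOf B := by
      have h1 : k * x * k⁻¹ * x⁻¹ = cc * (k * v * k⁻¹ * v⁻¹) * cc⁻¹ := by
        rw [hxe]
        calc k * (cc * v) * k⁻¹ * (cc * v)⁻¹ = (k * cc) * v * k⁻¹ * v⁻¹ * cc⁻¹ := by group
          _ = _ := by rw [hc' k hk]; group
      have hwK : wOf B ≤ B := (wOf_le_pCoreOf B).trans (pCoreOf_le B)
      have hmem := mul_mem hkB (inv_mem hvB)
      rw [h1, ← hc' _ (hwK hmem), mul_inv_cancel_right]
      exact hmem
    have h2 : k * x * k⁻¹ * x⁻¹ = 1 := by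
      rw [← Subgroup.mem_bot, ← hmeet]; exact Subgroup.mem_inf.mpr ⟨hd1, hd2⟩
    rw [mul_inv_eq_one] at h2
    calc k * x = k * x * k⁻¹ * k := by group
      _ = x * k := by rw [h2]
  obtain ⟨w₁, hw1Z, hw1W, hw11, -, -⟩ := exists_fixW q.two q.comp
  set w₂ := t * w₁ * t⁻¹ with hw₂
  have hw2Z : w₂ ∈ omegaCenterOf (thompsonSubgroupOf 2 T) :=
    conj_mem_omega_thompson (Subgroup.le_normalizer ht) hw1Z
  have hw2W : w₂ ∈ wOf K₂ := wOf_conj_mem hw1W
  have hw21 : w₂ ≠ 1 := fun h => hw11 ((MulAut.conj t).injective (by simpa [hw₂] using h))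
  have hc1 : w₁ ∈ Subgroup.centralizer (K₂ : Set G) := key q₂.comp hn1 hWW w₁ hw1Z hw1W
  have hc2 : w₂ ∈ Subgroup.centralizer (K : Set G) :=
    key q.comp hn2 (by rwa [inf_comm]) w₂ hw2Z hw2W
  have hw12 : w₁ ≠ w₂ := fun h => hw11 (eq_one_of_mem_wOf_of_centralizes q.comp hw1W (h ▸ hc2))
  have hle4 := q.card_omega_le hK' hK'L
  obtain ⟨h, w, hh, -, -, -, hhu, hwu, h12, hall⟩ := omega_cases q.two q.comp hle4
  have ew : w = w₁ := ((hwu w₁ ⟨hw1Z, hw1W⟩).resolve_left hw11).symm
  have eh : h = w₂ := ((hhu w₂ ⟨hw2Z, hc2⟩).resolve_left hw21).symm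
  simp only [ew, eh] at hall h12
  -- the nontrivial element centralised by `K'`
  have hcard := card_omega_eq q.two hK'
  have h4 : Nat.card ↥(omegaCenterOf (thompsonSubgroupOf 2 T)) ≠ 2 := fun e => hw21 (h12.mpr e)
  have hne' : hyp T K' ≠ ⊥ := fun e => by rw [e, Subgroup.card_bot] at hcard; omega
  obtain ⟨x, hx, hx1⟩ := (Subgroup.bot_or_exists_ne_one _).resolve_left hne'
  obtain ⟨hxZ, hxK'⟩ := Subgroup.mem_inf.mp hx
  have hout : ∀ {A : Subgroup G}, Pos M T A L → x ∉ Subgroup.centralizer (A : Set G) := fun qA hxA =>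
    hK'L (fun k hk => qA.centralizer_le hxZ hxA hx1 (Subgroup.mem_centralizer_singleton_iff.mpr
      (Subgroup.mem_centralizer_iff.mp hxK' k hk)))
  have hxe : x = w₂ * w₁ := by
    rcases hall x hxZ with e | e | e | e
    · exact absurd e hx1
    · exact absurd (e ▸ hc2) (hout q)
    · exact absurd (e ▸ hc1) (hout q₂)
    · exact e
  -- `Ω₁(Z(S))` is generated by that element
  apply q.not_centralizes_sylow S ((thompsonSubgroupOf_le 2 T).trans hTS) hK'
  intro k hk
  rw [Subgroup.mem_centralizer_iff]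
  intro z hz
  have hzT := q.omega_over hTS hz
  have hzc := (mem_omegaCenterOf.mp hzT).2.1 t ht
  rcases hall z (omega_le_omega_thompson hzT) with e | e | e | e
  · rw [e, one_mul, mul_one]
  · exfalso
    apply hw12
    rw [e] at hzc
    have : t * w₂ * t⁻¹ = t * w₁ * t⁻¹ := by rw [hzc, mul_inv_cancel_right]
    exact ((MulAut.conj t).injective this).symm
  · exfalso
    apply hw12
    rw [e] at hzc
    rw [hw₂, hzc, mul_inv_cancel_right]
  · rw [e, ← hxe]
    exact (Subgroup.mem_centralizer_iff.mp hxK' k hk).symm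

/-- `T` centralises `Ω₁(Z(J(T)))`. -/
theorem omega_central (hTK : T ≤ Subgroup.normalizer (K : Set G))
    (hle : Nat.card ↥(omegaCenterOf (thompsonSubgroupOf 2 T)) ≤ 4)
    {z : G} (hz : z ∈ omegaCenterOf (thompsonSubgroupOf 2 T)) {t : G} (ht : t ∈ T) : t * z = z * t := by
  obtain ⟨h, w, hh, hwZ, hwW, hw1, hhu, hwu, -, hall⟩ := omega_cases q.two q.comp hle
  have hKt := map_conj_eq_of_mem_normalizer (hTK ht)
  have hw' : t * w * t⁻¹ = w := by
    refine (hwu _ ⟨conj_mem_omega_thompson (Subgroup.le_normalizer ht) hwZ, ?_⟩).resolve_left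
      fun e => hw1 ((MulAut.conj t).injective (by simpa using e))
    have := wOf_conj_mem (g := t) hwW
    rwa [hKt] at this
  have hh' : t * h * t⁻¹ = h := by
    by_cases h1 : h = 1
    · subst h1; simp
    · refine (hhu _ ?_).resolve_left fun e => h1 ((MulAut.conj t).injective (by simpa using e))
      have := hyp_conj_mem (g := t) (Subgroup.le_normalizer ht) hh
      rwa [hKt] at this
  have hfix : t * z * t⁻¹ = z := by
    rcases hall z hz with rfl | rfl | rfl | rfl
    · simp
    · exact hh'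
    · exact hw'
    · calc t * (h * w) * t⁻¹ = (t * h * t⁻¹) * (t * w * t⁻¹) := by group
        _ = h * w := by rw [hh', hw']
  calc t * z = t * z * t⁻¹ * t := by group
    _ = z * t := by rw [hfix]

theorem omega_eq (hTK : T ≤ Subgroup.normalizer (K : Set G))
    (hle : Nat.card ↥(omegaCenterOf (thompsonSubgroupOf 2 T)) ≤ 4) :
    omegaCenterOf T = omegaCenterOf (thompsonSubgroupOf 2 T) := by
  refine le_antisymm (fun z => omega_le_omega_thompson) fun z hz => ?_
  obtain ⟨hzJ, -, hz2⟩ := mem_omegaCenterOf.mp hz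
  exact mem_omegaCenterOf.mpr ⟨thompsonSubgroupOf_le 2 T hzJ,
    fun t ht => q.omega_central hTK hle hz ht, hz2⟩

/-- The case division for `Ω₁(Z(J(T)))`. -/
theorem cases (S : Sylow 2 G) (hTS : T ≤ (S : Subgroup G)) {K' : Subgroup G}
    (hK' : IsJComponent T K') (hK'L : ¬ K' ≤ L) :
    (omegaCenterOf (S : Subgroup G) = omegaCenterOf (thompsonSubgroupOf 2 T) ∧
        Nat.card ↥(omegaCenterOf (thompsonSubgroupOf 2 T)) = 2) ∨
      (omegaCenterOf (S : Subgroup G) = omegaCenterOf (thompsonSubgroupOf 2 T) ∧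
        Nat.card ↥(omegaCenterOf (thompsonSubgroupOf 2 T)) = 4 ∧ T = (S : Subgroup G)) ∨
      (omegaCenterOf T = omegaCenterOf (thompsonSubgroupOf 2 T) ∧
        Nat.card ↥(omegaCenterOf (thompsonSubgroupOf 2 T)) = 4 ∧
        (L ⊓ Subgroup.centralizer (omegaCenterOf (thompsonSubgroupOf 2 T) : Set G)).relIndex
          (Subgroup.normalizer (omegaCenterOf (thompsonSubgroupOf 2 T) : Set G)) = 2) := by
  haveI : Fact (Nat.Prime 2) := ⟨Nat.prime_two⟩
  set Z₀ := omegaCenterOf (thompsonSubgroupOf 2 T) with hZ₀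
  have hle := q.card_omega_le hK' hK'L
  have hTK := q.T_le_normalizer S hTS hK' hK'L
  have hT0 : omegaCenterOf T = Z₀ := q.omega_eq hTK hle
  have hZle : omegaCenterOf (S : Subgroup G) ≤ Z₀ := fun z hz =>
    omega_le_omega_thompson (q.omega_over hTS hz)
  have hS1 : (S : Subgroup G) ≠ ⊥ := ne_bot_of_le_ne_bot q.ne_bot hTS
  have hZ1 := omegaCenterOf_ne_bot S.isPGroup' hS1
  have hcard := card_omega_eq q.two q.comp
  rw [← hZ₀] at hcard hle
  have hpos : 0 < Nat.card ↥(hyp T K) := Nat.card_pos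
  rcases (show Nat.card ↥(hyp T K) = 1 ∨ Nat.card ↥(hyp T K) = 2 by omega) with h1 | h1
  · left
    have h2 : Nat.card Z₀ = 2 := by omega
    refine ⟨eq_of_le_card_le hZle ?_, h2⟩
    rw [h2]
    by_contra hc
    have : 0 < Nat.card ↥(omegaCenterOf (S : Subgroup G)) := Nat.card_pos
    exact hZ1 (Subgroup.card_eq_one.mp (by omega))
  have h4 : Nat.card Z₀ = 4 := by omega
  by_cases hTS' : T = (S : Subgroup G)
  · exact Or.inr (Or.inl ⟨by rw [← hTS', hT0], h4, hTS'⟩)
  refine Or.inr (Or.inr ⟨hT0, h4, ?_⟩)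
  obtain ⟨y, hyS, hyn, hyL, -, q', -⟩ := q.exists_not_le_of_lt S.isPGroup' hTS hTS'
  obtain ⟨h, hh, hh1, -⟩ := exists_ne_of_card_two h1
  obtain ⟨hhZ, hhK⟩ := Subgroup.mem_inf.mp hh
  set h' := y * h * y⁻¹ with hh'
  have hh'K := hyp_conj_mem hyn hh
  obtain ⟨hh'Z, hh'K'⟩ := Subgroup.mem_inf.mp hh'K
  have hh'1 : h' ≠ 1 := fun e => hh1 ((MulAut.conj y).injective (by simpa [hh'] using e))
  have hne : h' ≠ h := by
    intro e
    refine hyL (q.centralizer_le hhZ hhK hh1 (Subgroup.mem_centralizer_singleton_iff.mpr ?_))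
    calc y * h = y * h * y⁻¹ * y := by group
      _ = h * y := by rw [← hh', e]
  obtain ⟨z, hz, hz1⟩ := (Subgroup.bot_or_exists_ne_one _).resolve_left hZ1
  have hzZ : z ∈ Z₀ := hZle hz
  have hzy : y * z * y⁻¹ = z := by rw [(mem_omegaCenterOf.mp hz).2.1 y hyS, mul_inv_cancel_right]
  have hzh : z ≠ h := fun e => hne (by rw [hh', ← e, hzy])
  have hzh' : z ≠ h' := fun e => hzh ((MulAut.conj y).injective (by
    simp only [MulAut.conj_apply]
    rw [hzy, ← hh', ← e]))
  -- the four elements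
  have hfour : ∀ x ∈ Z₀, x = 1 ∨ x = z ∨ x = h ∨ x = h' := by
    intro x hx
    by_contra hn
    push Not at hn
    obtain ⟨e1, e2, e3, e4⟩ := hn
    classical
    have hsub : ({1, z, h, h', x} : Finset G) ⊆ (Z₀ : Set G).toFinite.toFinset := by
      intro u hu
      simp only [Finset.mem_insert, Finset.mem_singleton] at hu
      rw [Set.Finite.mem_toFinset]
      rcases hu with rfl | rfl | rfl | rfl | rfl
      · exact one_mem _
      · exact hzZ
      · exact hhZ
      · exact hh'Z
      · exact hx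
    have hc := Finset.card_le_card hsub
    rw [← Set.ncard_eq_toFinset_card _ (Z₀ : Set G).toFinite, ← Nat.card_coe_set_eq] at hc
    have h5 : ({1, z, h, h', x} : Finset G).card = 5 := by
      simp [Finset.card_insert_of_notMem, Ne.symm hz1, Ne.symm hh1, Ne.symm hh'1, hzh, hzh',
        Ne.symm hne, Ne.symm e1, Ne.symm e2, Ne.symm e3, Ne.symm e4]
    rw [h5] at hc
    have hc' : 5 ≤ Nat.card Z₀ := hc
    omega
  -- every element of `N(Z₀)` fixes `z`
  have hfix : ∀ g ∈ Subgroup.normalizer (Z₀ : Set G), g * z * g⁻¹ = z := by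
    intro g hg
    have hgz := (Subgroup.mem_normalizer_iff.mp hg z).mp hzZ
    have hbad : ∀ {A : Subgroup G}, IsJComponent T A → g * z * g⁻¹ ∈ Subgroup.centralizer (A : Set G) →
        False := by
      intro A hA hc
      have hJg : thompsonSubgroupOf 2 T ≤ Subgroup.centralizer ({g * z * g⁻¹} : Set G) := fun j hj =>
        Subgroup.mem_centralizer_singleton_iff.mpr ((mem_omegaCenterOf.mp hgz).2.1 j hj)
      -- centralising `Ω₁(Z(S))`, hence normalising the conjugate Sylow subgroup
      have hZz : ∀ u ∈ omegaCenterOf (S : Subgroup G), u = 1 ∨ u = z := by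
        intro u hu
        have huy : y * u * y⁻¹ = u := by rw [(mem_omegaCenterOf.mp hu).2.1 y hyS, mul_inv_cancel_right]
        rcases hfour u (hZle hu) with e | e | e | e
        · exact Or.inl e
        · exact Or.inr e
        · subst e; exact absurd huy hne
        · exfalso; apply hne
          subst e
          exact (MulAut.conj y).injective (by simpa [hh'] using huy)
      have hsub : ∀ u, u ∈ Subgroup.centralizer ({g * z * g⁻¹} : Set G) →
          u ∈ Subgroup.normalizer (((S : Subgroup G).map (MulAut.conj g).toMonoidHom : Subgroup G) : Set G) := by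
        intro u hu
        rw [Subgroup.mem_centralizer_singleton_iff] at hu
        have h1 : g⁻¹ * u * g ∈ Subgroup.normalizer ((S : Subgroup G) : Set G) := by
          refine q.centralZ S (Subgroup.mem_centralizer_iff.mpr fun v hv => ?_)
          rcases hZz v hv with rfl | rfl
          · simp
          · calc v * (g⁻¹ * u * g) = g⁻¹ * (g * v * g⁻¹ * u) * g := by group
              _ = g⁻¹ * (u * (g * v * g⁻¹)) * g := by rw [hu]
              _ = _ := by group
        apply mem_normalizer_of_map_conj_eq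
        conv_rhs => rw [← map_conj_eq_of_mem_normalizer h1, Subgroup.map_map]
        rw [Subgroup.map_map]
        congr 1
        ext v; simp [mul_assoc]
      obtain ⟨S', hS'⟩ : ∃ S' : Sylow 2 G, (S' : Subgroup G) = (S : Subgroup G).map (MulAut.conj g).toMonoidHom :=
        ⟨g • S, by rw [Sylow.coe_subgroup_smul]; rfl⟩
      rw [← hS'] at hsub
      have hJS' : thompsonSubgroupOf 2 T ≤ (S' : Subgroup G) := by
        intro j hj
        have hJp : IsPGroup 2 (thompsonSubgroupOf 2 T) := thompson_isPGroup q.two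
        have : j ∈ thompsonSubgroupOf 2 T ⊓ (S' : Subgroup G) :=
          hJp.inf_normalizer_sylow S' ▸ ⟨hj, hsub j (hJg hj)⟩
        exact this.2
      refine q.not_le_normalizer S'.isPGroup' hJS' hA fun k hk => hsub k ?_
      exact Subgroup.mem_centralizer_singleton_iff.mpr (Subgroup.mem_centralizer_iff.mp hc k hk)
    rcases hfour _ hgz with e | e | e | e
    · exact absurd ((MulAut.conj g).injective (by simpa using e)) hz1
    · exact e
    · exact (hbad q.comp (e.symm ▸ hhK)).elim
    · exact (hbad q'.comp (e.symm ▸ hh'K')).elim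
  have hyN : y ∈ Subgroup.normalizer (Z₀ : Set G) := le_normalizer_of_conj
    (fun x hx v hv => conj_mem_omega_thompson hx hv) hyn
  have hC : ∀ u, u ∈ L ⊓ Subgroup.centralizer (Z₀ : Set G) ↔
      u ∈ Subgroup.normalizer (Z₀ : Set G) ∧ u * h * u⁻¹ = h := by
    intro u
    constructor
    · intro hu
      have hc := (Subgroup.mem_inf.mp hu).2
      refine ⟨Subgroup.centralizer_le_normalizer _ hc, ?_⟩
      rw [← Subgroup.mem_centralizer_iff.mp hc h hhZ, mul_inv_cancel_right]
    · rintro ⟨hu, hfx⟩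
      have huh : u * h = h * u := by
        calc u * h = u * h * u⁻¹ * u := by group
          _ = h * u := by rw [hfx]
      refine Subgroup.mem_inf.mpr ⟨q.centralizer_le hhZ hhK hh1
        (Subgroup.mem_centralizer_singleton_iff.mpr huh), Subgroup.mem_centralizer_iff.mpr fun v hv => ?_⟩
      have hfv : u * v * u⁻¹ = v := by
        rcases hfour v hv with e | e | e | e
        · rw [e]; group
        · rw [e]; exact hfix u hu
        · rw [e]; exact hfx
        · have hp := (Subgroup.mem_normalizer_iff.mp hu h').mp hh'Z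
          rcases hfour _ hp with e' | e' | e' | e'
          · exact absurd ((MulAut.conj u).injective (by simpa using e')) hh'1
          · exact absurd ((MulAut.conj u).injective (by simpa [hfix u hu] using e' : _) : h' = z) hzh'.symm
          · exact absurd ((MulAut.conj u).injective (by simpa [hfx] using e' : _) : h' = h) hne
          · rw [e]; exact e'
      calc v * u = u * v * u⁻¹ * u := by rw [hfv]
        _ = u * v := by group
  have hswap : ∀ u ∈ Subgroup.normalizer (Z₀ : Set G), u * h * u⁻¹ = h ∨ u * h * u⁻¹ = h' := by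
    intro u hu
    rcases hfour _ ((Subgroup.mem_normalizer_iff.mp hu h).mp hhZ) with e | e | e | e
    · exact absurd ((MulAut.conj u).injective (by simpa using e)) hh1
    · exact absurd ((MulAut.conj u).injective (by simpa [hfix u hu] using e : _) : h = z) hzh.symm
    · exact Or.inl e
    · exact Or.inr e
  rw [Subgroup.relIndex, Subgroup.index_eq_two_iff]
  refine ⟨⟨y, hyN⟩, fun b => ?_⟩
  rw [Subgroup.mem_subgroupOf, Subgroup.mem_subgroupOf, hC, hC]
  simp only [Subgroup.coe_mul]
  have hiff : (b : G) * y * h * ((b : G) * y)⁻¹ = (b : G) * h' * (b : G)⁻¹ := by rw [hh']; group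
  have hb := b.2
  rcases hswap _ hb with e | e
  · refine Or.inr ⟨⟨hb, e⟩, ?_⟩
    rintro ⟨-, e2⟩
    rw [hiff] at e2
    exact hne ((MulAut.conj (b : G)).injective (by simpa using e2.trans e.symm))
  · refine Or.inl ⟨⟨Subgroup.mul_mem _ hb hyN, ?_⟩, fun h2 => hne (e.symm.trans h2.2)⟩
    rw [hiff]
    rcases hfour _ ((Subgroup.mem_normalizer_iff.mp hb h').mp hh'Z) with e' | e' | e' | e'
    · exact absurd ((MulAut.conj (b : G)).injective (by simpa using e')) hh'1
    · exact absurd ((MulAut.conj (b : G)).injective (by simpa [hfix _ hb] using e' : _) : h' = z) hzh'.symm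
    · exact e'
    · exact absurd ((MulAut.conj (b : G)).injective (by simpa [e] using e' : _) : h' = h) hne

end Pos

end CfsgLib.JComp
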