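import Mathlib.GroupTheory.PGroup
import Mathlib.GroupTheory.QuotientGroup.Basic
import Mathlib.Algebra.Group.Subgroup.Pointwise
import Mathlib.Tactic.Group
import Cfsg.Prelude.Def_Transfer
import Cfsg.Agent.Lib.Solvable.CoprimeGeneration

/-!
Offenders for `p = 2`: a group `H` acting faithfully on a group `V` of exponent 2, with a normal
subgroup `F` of odd order containing its centraliser.  An elementary abelian 2-subgroup `A` with
`|V| ≤ |A| |C_V(A)|` is generated by transvections, and a transvection `t` determines `[F, t]`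
of order 3.
-/

set_option autoImplicit false
open scoped commutatorElement

namespace CfsgLib.JComp.FF

variable {H V : Type*} [Group H] [CommGroup V] (φ : H →* MulAut V)

/-- `t` is an involution moving every element by at most the fixed element `v`. -/
def IsTransvection (t : H) (v : V) : Prop :=
  orderOf t = 2 ∧ v ≠ 1 ∧ ∀ x, φ t x = x ∨ φ t x = x * v

/-- Fixed points of an element. -/
def fixedBy (h : H) : Subgroup V where
  carrier := {x | φ h x = x}
  one_mem' := map_one _
  mul_mem' := fun {a b} (ha : φ h a = a) (hb : φ h b = b) => show φ h (a * b) = a * b by rw [map_mul, ha, hb]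
  inv_mem' := fun {a} (ha : φ h a = a) => show φ h a⁻¹ = a⁻¹ by rw [map_inv, ha]

@[simp] theorem mem_fixedBy {h : H} {x : V} : x ∈ fixedBy φ h ↔ φ h x = x := Iff.rfl

/-- Common fixed points of a subgroup. -/
def fixedSub (A : Subgroup H) : Subgroup V := ⨅ a : A, fixedBy φ (a : H)

@[simp] theorem mem_fixedSub {A : Subgroup H} {x : V} : x ∈ fixedSub φ A ↔ ∀ a ∈ A, φ a x = x := by
  simp [fixedSub, Subgroup.mem_iInf]

variable {φ}

theorem mulAut_mul_apply (a b : H) (x : V) : φ (a * b) x = φ a (φ b x) := by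
  rw [map_mul]; rfl

theorem apply_pow {h : H} {x d : V} (hx : φ h x = x * d) (hd : φ h d = d) (k : ℕ) :
    φ (h ^ k) x = x * d ^ k := by
  induction k with
  | zero => simp
  | succ k ih => rw [pow_succ', mulAut_mul_apply, ih, map_mul, map_pow, hd, hx, pow_succ', mul_assoc]

/-- An element of odd order moving `x` by a fixed `d` fixes `x`. -/
theorem eq_one_of_shift (hV : ∀ v : V, v * v = 1) {c : H} (hc : Odd (orderOf c)) {x d : V}
    (hx : φ c x = x * d) (hd : φ c d = d) : d = 1 := by
  have h := apply_pow hx hd (orderOf c)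
  rw [pow_orderOf_eq_one, map_one, MulAut.one_apply] at h
  obtain ⟨m, hm⟩ := hc
  rw [hm, pow_succ, pow_mul, pow_two, hV, one_pow, one_mul] at h
  exact (mul_eq_left.mp h.symm)

/-- Thompson's `P × Q` lemma for an exponent two module. -/
theorem fixed_all_of_commuting [Finite V] (hV : ∀ v : V, v * v = 1) {c : H} (hc : Odd (orderOf c))
    {B : Subgroup H} (hB : IsPGroup 2 B) (hcB : ∀ b ∈ B, b * c = c * b)
    (hfix : ∀ x ∈ fixedSub φ B, φ c x = x) (x : V) : φ c x = x := by
  classical
  haveI : Fact (Nat.Prime 2) := ⟨Nat.prime_two⟩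
  set M := fixedBy φ c with hM
  suffices h : M = ⊤ by
    have := h.symm ▸ Subgroup.mem_top x
    exact this
  by_contra hne
  have hMB : ∀ b ∈ B, ∀ y ∈ M, φ b y ∈ M := by
    intro b hb y hy
    rw [hM, mem_fixedBy] at hy ⊢
    rw [← mulAut_mul_apply, ← hcB b hb, mulAut_mul_apply, hy]
  let act : B →* MulAut (V ⧸ M) :=
    { toFun := fun b => QuotientGroup.congr M M (φ (b : H)) (by
        refine le_antisymm (fun y hy => ?_) fun y hy => ?_
        · obtain ⟨z, hz, rfl⟩ := hy
          exact hMB b b.2 z hz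
        · refine ⟨φ (b : H)⁻¹ y, hMB _ (inv_mem b.2) y hy, ?_⟩
          show φ (b : H) (φ (b : H)⁻¹ y) = y
          rw [← mulAut_mul_apply, mul_inv_cancel, map_one, MulAut.one_apply])
      map_one' := by
        refine MulEquiv.ext fun q => ?_
        obtain ⟨y, rfl⟩ := QuotientGroup.mk_surjective q
        simp
      map_mul' := fun a b => by
        refine MulEquiv.ext fun q => ?_
        obtain ⟨y, rfl⟩ := QuotientGroup.mk_surjective q
        simp }
  letI : MulAction B (V ⧸ M) := MulAction.compHom _ act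
  have h1 : (1 : V ⧸ M) ∈ MulAction.fixedPoints B (V ⧸ M) := fun b => map_one (act b)
  have hd : 2 ∣ Nat.card (V ⧸ M) := by
    obtain ⟨q, hq⟩ : ∃ q : V, q ∉ M := by
      by_contra hall
      push Not at hall
      exact hne ((Subgroup.eq_top_iff' M).mpr hall)
    have ho : orderOf (q : V ⧸ M) = 2 := orderOf_eq_prime
      (by rw [pow_two, ← QuotientGroup.mk_mul, hV]; rfl)
      (by rwa [Ne, QuotientGroup.eq_one_iff])
    rw [← ho]
    exact orderOf_dvd_natCard _
  obtain ⟨q, hq, hq1⟩ := hB.exists_fixed_point_of_prime_dvd_card_of_fixed_point (V ⧸ M) hd h1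
  obtain ⟨y, rfl⟩ := QuotientGroup.mk_surjective q
  apply hq1
  refine (Eq.symm ?_)
  rw [QuotientGroup.eq_one_iff, hM, mem_fixedBy]
  set d := y⁻¹ * φ c y with hd'
  have hcy : φ c y = y * d := by rw [hd', mul_inv_cancel_left]
  have hdB : d ∈ fixedSub φ B := by
    rw [mem_fixedSub]
    intro b hb
    have hm : y⁻¹ * φ b y ∈ M := by
      have h := hq ⟨b, hb⟩
      exact QuotientGroup.eq.mp h.symm
    rw [hM, mem_fixedBy, map_mul, map_inv, ← mulAut_mul_apply, ← hcB b hb, mulAut_mul_apply] at hm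
    -- hm : (φ c y)⁻¹ * φ b (φ c y) = y⁻¹ * φ b y
    rw [hcy, map_mul, mul_inv_rev] at hm
    have : d⁻¹ * φ b d * (y⁻¹ * φ b y) = y⁻¹ * φ b y := by
      calc d⁻¹ * φ b d * (y⁻¹ * φ b y) = d⁻¹ * y⁻¹ * (φ b y * φ b d) := by ac_rfl
        _ = y⁻¹ * φ b y := hm
    exact (inv_mul_eq_one.mp (mul_eq_right.mp this)).symm
  rw [hcy, eq_one_of_shift hV hc hcy (hfix d hdB), mul_one]

/-- **Offenders are generated by transvections.** -/
theorem offender_le_closure [Finite H] [Finite V] (hφ : Function.Injective φ)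
    (hV : ∀ v : V, v * v = 1) {F : Subgroup H} (hFn : F.Normal) (hF : Odd (Nat.card F))
    (hFc : Subgroup.centralizer (F : Set H) ≤ F) {A : Subgroup H}
    (hA : Cfsg.IsElementaryAbelian 2 A) (hoff : Nat.card V ≤ Nat.card A * Nat.card ↥(fixedSub φ A)) :
    A ≤ Subgroup.closure {t | t ∈ A ∧ ∃ v, IsTransvection φ t v} := by
  classical
  obtain ⟨hAc, hA2⟩ := hA
  have cA : ∀ a ∈ A, ∀ b ∈ A, a * b = b * a := fun a ha b hb =>
    congrArg Subtype.val (hAc.is_comm.comm ⟨a, ha⟩ ⟨b, hb⟩)
  have sq : ∀ a ∈ A, a * a = 1 := fun a ha => by rw [← pow_two]; exact hA2 a ha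
  have hodd : ∀ x ∈ F, Odd (orderOf x) := fun x hx =>
    hF.of_dvd_nat (Subgroup.orderOf_dvd_natCard _ hx)
  have hAp : IsPGroup 2 A := fun a => ⟨1, Subtype.ext (by simpa using hA2 a a.2)⟩
  -- the hyperplanes with centraliser in `F` not centralised by `A`
  set 𝓑 : Finset (Subgroup H) := (Set.toFinite {B : Subgroup H | B ≤ A ∧ (∃ a ∈ A, A ≤ B ⊔ Subgroup.zpowers a) ∧
    ¬ F ⊓ Subgroup.centralizer (B : Set H) ≤ Subgroup.centralizer (A : Set H)}).toFinset with h𝓑
  have htriv : ∀ a ∈ A, (∀ B ∈ 𝓑, a ∈ B) → a = 1 := by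
    intro a ha hall
    have hle : F ≤ Subgroup.centralizer ({a} : Set H) := by
      haveI := hAc
      haveI := hFn
      refine CfsgLib.Solvable.le_of_cyclic_quotient_centralizer_le (A := A)
        (by rw [Subgroup.normalizer_eq_top]; exact le_top) ?_ fun B hB hcyc => ?_
      · obtain ⟨k, hk⟩ := IsPGroup.iff_card.mp hAp
        rw [hk]
        exact Nat.Coprime.pow_left _ (Nat.coprime_two_left.mpr hF)
      · by_cases hB' : F ⊓ Subgroup.centralizer (B : Set H) ≤ Subgroup.centralizer (A : Set H)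
        · intro x hx
          exact Subgroup.mem_centralizer_singleton_iff.mpr
            (Subgroup.mem_centralizer_iff.mp (hB' hx) a ha).symm
        · intro x hx
          have haB : a ∈ B := hall B (by rw [h𝓑, Set.Finite.mem_toFinset]; exact ⟨hB, hcyc, hB'⟩)
          exact Subgroup.mem_centralizer_singleton_iff.mpr
            (Subgroup.mem_centralizer_iff.mp hx.2 a haB).symm
    have haF : a ∈ F := hFc (Subgroup.mem_centralizer_iff.mpr fun x hx =>
      (Subgroup.mem_centralizer_singleton_iff.mp (hle hx)))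
    have h1 := hodd a haF
    have h2 : orderOf a ∣ 2 := orderOf_dvd_of_pow_eq_one (hA2 a ha)
    rcases (Nat.dvd_prime Nat.prime_two).mp h2 with h | h
    · exact orderOf_eq_one_iff.mp h
    · rw [h] at h1; exact absurd h1 (by decide)
  -- a minimal family
  obtain ⟨ℬ, hℬsub, hℬ, hmin⟩ : ∃ ℬ ⊆ 𝓑, (∀ a ∈ A, (∀ B ∈ ℬ, a ∈ B) → a = 1) ∧
      ∀ B ∈ ℬ, ∃ a ∈ A, a ∉ B ∧ ∀ B' ∈ ℬ, B' ≠ B → a ∈ B' := by
    have hex : ∃ n, ∃ ℬ ⊆ 𝓑, ℬ.card = n ∧ ∀ a ∈ A, (∀ B ∈ ℬ, a ∈ B) → a = 1 :=
      ⟨_, 𝓑, subset_rfl, rfl, htriv⟩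
    obtain ⟨ℬ, hsub, hcard, hℬ⟩ := Nat.find_spec hex
    refine ⟨ℬ, hsub, hℬ, fun B hB => ?_⟩
    by_contra hnone
    push Not at hnone
    refine Nat.find_min hex (m := (ℬ.erase B).card) (by rw [← hcard]; exact Finset.card_erase_lt_of_mem hB)
      ⟨ℬ.erase B, (Finset.erase_subset _ _).trans hsub, rfl, fun a ha hall => ?_⟩
    refine hℬ a ha fun B' hB' => ?_
    by_cases h : B' = B
    · subst h
      by_contra haB
      obtain ⟨B'', h1, h2, h3⟩ := hnone a ha haB
      exact h3 (hall B'' (Finset.mem_erase.mpr ⟨h2, h1⟩))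
    · exact hall B' (Finset.mem_erase.mpr ⟨h, hB'⟩)
  choose! e heA heB he using hmin
  have h𝓑mem : ∀ B ∈ ℬ, B ≤ A ∧ (∃ a ∈ A, A ≤ B ⊔ Subgroup.zpowers a) ∧
      ¬ F ⊓ Subgroup.centralizer (B : Set H) ≤ Subgroup.centralizer (A : Set H) := fun B hB => by
    have h := hℬsub hB
    rw [h𝓑, Set.Finite.mem_toFinset] at h
    exact h
  -- index two
  have hhyp : ∀ B ∈ ℬ, ∀ a ∈ A, a ∉ B → ∀ b ∈ A, b ∉ B → a * b ∈ B := by
    intro B hB a ha haB b hb hbB
    obtain ⟨hBA, ⟨c, hc, hle⟩, -⟩ := h𝓑mem B hB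
    have hdec : ∀ x ∈ A, x ∈ B ∨ x * c ∈ B := by
      intro x hx
      have hn : Subgroup.zpowers c ≤ Subgroup.normalizer (B : Set H) := by
        rw [Subgroup.zpowers_le, Subgroup.mem_normalizer_iff]
        intro y
        constructor
        · intro hy; rwa [cA c hc y (hBA hy), mul_inv_cancel_right]
        · intro hy
          have h1 := cA c hc _ (hBA hy)
          have h2 : y = c * y * c⁻¹ := by
            calc y = c⁻¹ * (c * y * c⁻¹ * c) := by group
              _ = c⁻¹ * (c * (c * y * c⁻¹)) := by rw [h1]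
              _ = c * y * c⁻¹ := by group
          rwa [h2]
      have hx' := hle hx
      rw [← SetLike.mem_coe, Subgroup.coe_mul_of_right_le_normalizer_left B _ hn] at hx'
      obtain ⟨y, hy, z, hz, rfl⟩ := hx'
      obtain ⟨k, rfl⟩ := Subgroup.mem_zpowers_iff.mp hz
      simp only
      rcases Int.even_or_odd' k with ⟨m, rfl | rfl⟩
      · left
        rw [zpow_mul, zpow_two, sq c hc, one_zpow, mul_one]; exact hy
      · right
        rw [zpow_add_one, zpow_mul, zpow_two, sq c hc, one_zpow, one_mul, mul_assoc, sq c hc, mul_one]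
        exact hy
    have h1 : a * c ∈ B := (hdec a ha).resolve_left haB
    have h2 : b * c ∈ B := (hdec b hb).resolve_left hbB
    have h3 : a * b = (a * c) * (b * c) := by
      calc a * b = a * b * (c * c) := by rw [sq c hc, mul_one]
        _ = a * (b * c) * c := by group
        _ = a * (c * b) * c := by rw [cA b hb c hc]
        _ = (a * c) * (b * c) := by group
    rw [h3]; exact mul_mem h1 h2
  have hgen : ∀ a ∈ A, a ∈ Subgroup.closure (e '' (ℬ : Set (Subgroup H))) := by
    intro a ha
    induction hn : (ℬ.filter (fun B => a ∉ B)).card using Nat.strong_induction_on generalizing a with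
    | _ n ih =>
      by_cases h0 : ∃ B ∈ ℬ, a ∉ B
      · obtain ⟨B, hB, haB⟩ := h0
        have hmem : a * e B ∈ A := mul_mem ha (heA B hB)
        have hlt : (ℬ.filter (fun B' => a * e B ∉ B')).card < n := by
          rw [← hn]
          refine Finset.card_lt_card ⟨fun B' hB' => ?_, fun hsub => ?_⟩
          · rw [Finset.mem_filter] at hB' ⊢
            refine ⟨hB'.1, fun haB' => ?_⟩
            by_cases h : B' = B
            · exact haB (h ▸ haB')
            · exact hB'.2 (mul_mem haB' (he B hB B' hB'.1 h))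
          · have := hsub (Finset.mem_filter.mpr ⟨hB, haB⟩)
            rw [Finset.mem_filter] at this
            exact this.2 (hhyp B hB a ha haB _ (heA B hB) (heB B hB))
        have h1 := ih _ hlt _ hmem rfl
        have h2 : a = a * e B * e B := by rw [mul_assoc, sq _ (heA B hB), mul_one]
        rw [h2]
        exact mul_mem h1 (Subgroup.subset_closure ⟨B, hB, rfl⟩)
      · push Not at h0
        rw [hℬ a ha h0]
        exact one_mem _
  -- moved points
  have hmove : ∀ B ∈ ℬ, ∃ u ∈ fixedSub φ B, φ (e B) u ≠ u := by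
    intro B hB
    by_contra hall
    push Not at hall
    obtain ⟨hBA, -, hB'⟩ := h𝓑mem B hB
    obtain ⟨q, hq, hqA⟩ := SetLike.not_le_iff_exists.mp hB'
    obtain ⟨hqF, hqB⟩ := hq
    apply hqA
    rw [Subgroup.mem_centralizer_iff]
    have hBc : ∀ b ∈ B, b * q = q * b := fun b hb => Subgroup.mem_centralizer_iff.mp hqB b hb
    have hinv : ∀ h : H, (∀ b ∈ B, b * h = h * b) → ∀ u ∈ fixedSub φ B, φ h u ∈ fixedSub φ B := by
      intro h hh u hu
      rw [mem_fixedSub] at hu ⊢
      intro b hb
      rw [← mulAut_mul_apply, hh b hb, mulAut_mul_apply, hu b hb]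
    intro a ha
    -- `a` fixes `C_V(B)` pointwise
    have hafix : ∀ u ∈ fixedSub φ B, φ a u = u := by
      intro u hu
      by_cases haB : a ∈ B
      · exact mem_fixedSub φ |>.mp hu a haB
      · have h1 := hhyp B hB a ha haB _ (heA B hB) (heB B hB)
        have h2 : a = a * e B * e B := by rw [mul_assoc, sq _ (heA B hB), mul_one]
        rw [h2, mulAut_mul_apply, hall u hu]
        exact (mem_fixedSub φ).mp hu _ h1
    set ρ := q⁻¹ * (a * q * a⁻¹) with hρ
    have hρF : ρ ∈ F := mul_mem (inv_mem hqF) (hFn.conj_mem q hqF a)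
    have hρB : ∀ b ∈ B, b * ρ = ρ * b := by
      intro b hb
      have c1 : Commute b q := hBc b hb
      have c2 : Commute b a := cA b (hBA hb) a ha
      exact (c1.inv_right.mul_right ((c2.mul_right c1).mul_right c2.inv_right)).eq
    have hρfix : ∀ x, φ ρ x = x := fixed_all_of_commuting hV (hodd ρ hρF) (hAp.to_le hBA) hρB
      fun u hu => by
        rw [hρ, mulAut_mul_apply, mulAut_mul_apply, mulAut_mul_apply]
        have hau : φ a⁻¹ u = u := by
          conv_lhs => rw [← hafix u hu]
          rw [← mulAut_mul_apply, inv_mul_cancel, map_one, MulAut.one_apply]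
        rw [hau, hafix _ (hinv q hBc u hu), ← mulAut_mul_apply, inv_mul_cancel, map_one, MulAut.one_apply]
    have hρ1 : ρ = 1 := hφ (by
      rw [map_one]
      exact MulEquiv.ext hρfix)
    calc a * q = q * ρ * a := by rw [hρ]; group
      _ = q * a := by rw [hρ1, mul_one]
  choose! u hu humove using hmove
  -- counting
  set X := fixedSub φ A with hX
  have hXfix : ∀ B ∈ ℬ, ∀ x ∈ X, φ (e B) x = x := fun B hB x hx => (mem_fixedSub φ).mp hx _ (heA B hB)
  have hufix : ∀ B ∈ ℬ, ∀ B' ∈ ℬ, B' ≠ B → φ (e B) (u B') = u B' := fun B hB B' hB' hne =>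
    (mem_fixedSub φ).mp (hu B' hB') _ (he B hB B' hB' hne)
  let Y : Finset (Subgroup H) → Subgroup V := fun S => X ⊔ Subgroup.closure (u '' (S : Set (Subgroup H)))
  have hYcard : ∀ S ⊆ ℬ, 2 ^ S.card * Nat.card X ≤ Nat.card (Y S) := by
    intro S hS
    induction S using Finset.induction_on with
    | empty =>
      simp only [Finset.card_empty, pow_zero, one_mul]
      exact Nat.le_of_dvd Nat.card_pos (Subgroup.card_dvd_of_le le_sup_left)
    | insert B S hBS ih =>
      have hB : B ∈ ℬ := hS (Finset.mem_insert_self B S)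
      have hS' : S ⊆ ℬ := (Finset.subset_insert B S).trans hS
      have hfixY : Y S ≤ fixedBy φ (e B) := by
        refine sup_le (fun x hx => hXfix B hB x hx) ((Subgroup.closure_le _).mpr ?_)
        rintro _ ⟨B', hB', rfl⟩
        exact hufix B hB B' (hS' hB') fun h => hBS (h ▸ hB')
      have hle : Y S ≤ Y (insert B S) :=
        sup_le_sup_left (Subgroup.closure_mono (Set.image_mono (by simp))) _
      have hnot : ¬ Y (insert B S) ≤ Y S := fun h =>
        humove B hB (hfixY (h (Subgroup.mem_sup_right (Subgroup.subset_closure ⟨B, by simp, rfl⟩))))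
      rw [Finset.card_insert_of_notMem hBS, pow_succ, mul_right_comm]
      refine le_trans (Nat.mul_le_mul_right 2 (ih hS')) ?_
      have h2 : 2 ≤ (Y S).relIndex (Y (insert B S)) := by
        by_contra hc
        have h0 : (Y S).relIndex (Y (insert B S)) ≠ 0 := Subgroup.index_ne_zero_of_finite
        exact hnot (Subgroup.relIndex_eq_one.mp (by omega))
      refine le_trans (Nat.mul_le_mul_left _ h2) (le_of_eq ?_)
      rw [← Subgroup.relIndex_bot_left, ← Subgroup.relIndex_bot_left,
        Subgroup.relIndex_mul_relIndex _ _ _ bot_le hle]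
  have hAcard : Nat.card A ≤ 2 ^ ℬ.card := by
    have h : Nat.card (ℬ → Bool) = 2 ^ ℬ.card := by simp
    rw [← h]
    refine Nat.card_le_card_of_injective (fun a B => decide ((a : H) ∈ (B : Subgroup H))) ?_
    intro a b hab
    have h1 : (a : H) * b = 1 := by
      refine hℬ _ (mul_mem a.2 b.2) fun B hB => ?_
      have h2 : ((a : H) ∈ B ↔ (b : H) ∈ B) := by
        have := congrFun hab ⟨B, hB⟩
        simpa using this
      by_cases haB : (a : H) ∈ B
      · exact mul_mem haB (h2.mp haB)
      · exact hhyp B hB a a.2 haB b b.2 fun hb => haB (h2.mpr hb)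
    refine Subtype.ext ?_
    calc (a : H) = a * (b * b) := by rw [sq _ b.2, mul_one]
      _ = a * b * b := by group
      _ = b := by rw [h1, one_mul]
  have htop : Y ℬ = ⊤ := by
    refine Subgroup.eq_top_of_le_card _ ?_
    calc Nat.card V ≤ Nat.card A * Nat.card X := hoff
      _ ≤ 2 ^ ℬ.card * Nat.card X := Nat.mul_le_mul_right _ hAcard
      _ ≤ Nat.card (Y ℬ) := hYcard ℬ subset_rfl
  intro a ha
  refine (Subgroup.closure_le _).mpr ?_ (hgen a ha)
  rintro _ ⟨B, hB, rfl⟩
  refine Subgroup.subset_closure ⟨heA B hB, (u B)⁻¹ * φ (e B) (u B), ?_, ?_, fun x => ?_⟩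
  · refine orderOf_eq_prime (hA2 _ (heA B hB)) fun h => ?_
    exact heB B hB (h ▸ one_mem B)
  · exact fun h => humove B hB (inv_mul_eq_one.mp h).symm
  · set v := (u B)⁻¹ * φ (e B) (u B) with hv
    have hev : φ (e B) v = v := by
      rw [hv, map_mul, map_inv, ← mulAut_mul_apply, sq _ (heA B hB), map_one, MulAut.one_apply]
      have h1 : ∀ y : V, y⁻¹ = y := fun y => inv_eq_of_mul_eq_one_right (hV y)
      rw [h1, h1, mul_comm]
    let Z : Subgroup V :=
      { carrier := {x | φ (e B) x = x ∨ φ (e B) x = x * v}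
        one_mem' := Or.inl (map_one _)
        mul_mem' := by
          intro p q hp hq
          simp only [Set.mem_setOf_eq] at hp hq ⊢
          rcases hp with hp | hp <;> rcases hq with hq | hq <;> rw [map_mul, hp, hq]
          · exact Or.inl rfl
          · exact Or.inr (by rw [mul_assoc])
          · exact Or.inr (by rw [mul_right_comm])
          · exact Or.inl (by rw [mul_mul_mul_comm, hV v, mul_one])
        inv_mem' := by
          intro p hp
          simp only [Set.mem_setOf_eq] at hp ⊢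
          have h1 : p⁻¹ = p := inv_eq_of_mul_eq_one_right (hV p)
          rwa [h1] }
    have hYZ : Y ℬ ≤ Z := by
      refine sup_le (fun x hx => Or.inl (hXfix B hB x hx)) ((Subgroup.closure_le _).mpr ?_)
      rintro _ ⟨B', hB', rfl⟩
      by_cases h : B' = B
      · subst h
        exact Or.inr (by rw [hv, mul_inv_cancel_left])
      · exact Or.inl (hufix B hB B' hB' h)
    exact hYZ (htop ▸ Subgroup.mem_top x)

end CfsgLib.JComp.FF
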