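import Cfsg.Agent.Lib.JComp.Exists

/-!
Position of the `J(T)`-components inside an overgroup: normalised by the preimage of the plane group,
determined by their four-groups.
-/

set_option autoImplicit false
set_option maxHeartbeats 800000
open Cfsg CfsgLib.PLocal
open scoped commutatorElement

attribute [local instance] CfsgLib.CharP.pCore_normal'

namespace CfsgLib.JComp

namespace FF

variable {H V : Type*} [Group H] [CommGroup V] {φ : H →* MulAut V} {F : Subgroup H}

theorem IsPlane.conjugate [F.Normal] {t ρ : H} {v : V} (h : IsPlane φ F t v ρ) (g : H) :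
    IsPlane φ F (g * t * g⁻¹) (φ g v) (g * ρ * g⁻¹) := by
  have hρ : ∀ x, φ (g * ρ * g⁻¹) (φ g x) = φ g (φ ρ x) := fun x => by
    simp only [map_mul, map_inv, MulAut.mul_apply, MulAut.inv_apply, MulEquiv.symm_apply_apply]
  have ht : ∀ x, φ (g * t * g⁻¹) (φ g x) = φ g (φ t x) := fun x => by
    simp only [map_mul, map_inv, MulAut.mul_apply, MulAut.inv_apply, MulEquiv.symm_apply_apply]
  refine ⟨h.trans.conj g, ‹F.Normal›.conj_mem _ h.memF g, ?_, ?_, ?_, ?_, ?_, ?_⟩
  · have := (MulAut.conj g).orderOf_eq ρ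
    rw [MulAut.conj_apply] at this
    rw [this, h.order]
  · calc g * t * g⁻¹ * (g * ρ * g⁻¹) * (g * t * g⁻¹)⁻¹ = g * (t * ρ * t⁻¹) * g⁻¹ := by group
      _ = _ := by rw [h.inverts]; group
  · rw [hρ]
    exact fun e => h.move_v ((φ g).injective e)
  · rw [hρ, hρ, h.axis_img, map_mul]
  · rw [hρ, ht, h.t_img, map_mul]
  · intro x
    obtain ⟨y, rfl⟩ := (φ g).surjective x
    have hmem : φ g (y⁻¹ * φ ρ y) ∈ (Subgroup.closure {v, φ ρ v}).map (φ g : V ≃* V).toMonoidHom :=
      Subgroup.mem_map_of_mem _ (h.shift y)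
    rw [MonoidHom.map_closure, Set.image_pair] at hmem
    rw [hρ, hρ, ← map_inv, ← map_mul]
    exact hmem

end FF

variable {G : Type*} [Group G]

theorem liftComp_congr (L : Subgroup G) {r r' : ↥L ⧸ Cfsg.pCore 2 ↥L}
    (h : Subgroup.zpowers r = Subgroup.zpowers r') : liftComp L r = liftComp L r' := by
  rw [liftComp, liftComp, h]

namespace Ctx

variable [Finite G] {T L : Subgroup G} (c : Ctx T L) {t ρ t' ρ' : ↥c.act.range} {v v' : ↥(modV T L)}
  {r r' : ↥L ⧸ Cfsg.pCore 2 ↥L}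

include c

theorem liftComp_le_preN (ht : t ∈ c.imJ)
    (hp : FF.IsPlane c.act.range.subtype (Cfsg.fittingSubgroup ↥c.act.range) t v ρ)
    (hr : c.IsLift t ρ r) : liftComp L r ≤ c.preN := by
  intro k hk
  refine ⟨⟨k, liftComp_le L r hk⟩, ?_, rfl⟩
  obtain ⟨i, hi⟩ := Subgroup.mem_zpowers_iff.mp (modCore_mem_of_liftComp (k := ⟨k, liftComp_le L r hk⟩) hk)
  obtain ⟨y, hy⟩ := modCore_surjective L r
  rw [SetLike.mem_coe, Subgroup.mem_comap, c.pi_factor (y := y ^ i) (by rw [map_zpow, hy, hi]), map_zpow,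
    hr.proj y hy]
  exact zpow_mem (c.setup.rho_mem ht hp) i

/-- A component of `L` lies in the preimage of the plane group and is normalised by it. -/
theorem component_preN {K : Subgroup G} (hK : IsJComponent T K) (hKL : K ≤ L) :
    K ≤ c.preN ∧ c.preN ≤ Subgroup.normalizer (K : Set G) := by
  obtain ⟨t, ρ, v, r, ht, hp, hn, hr, rfl⟩ := c.component_eq hK hKL
  exact ⟨c.liftComp_le_preN ht hp hr, c.preN_le_normalizer_liftComp ht hp hn hr⟩

theorem component_subnormal {K : Subgroup G} (hK : IsJComponent T K) (hKL : K ≤ L) :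
    (K.subgroupOf L).IsSubnormal := by
  obtain ⟨hle, hn⟩ := c.component_preN hK hKL
  have h1 : (c.preN.subgroupOf L).Normal :=
    Subgroup.normal_subgroupOf_of_le_normalizer c.L_le_normalizer_preN
  refine Subgroup.IsSubnormal.step _ (c.preN.subgroupOf L) (Subgroup.comap_mono hle) h1.isSubnormal ?_
  refine Subgroup.normal_subgroupOf_of_le_normalizer fun x hx => ?_
  rw [Subgroup.mem_normalizer_iff]
  intro y
  simp only [SetLike.mem_coe, Subgroup.mem_subgroupOf, Subgroup.coe_mul, Subgroup.coe_inv]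
  exact Subgroup.mem_normalizer_iff.mp (hn (Subgroup.mem_subgroupOf.mp hx)) y

theorem same_zpowers (hp : FF.IsPlane c.act.range.subtype (Cfsg.fittingSubgroup ↥c.act.range) t v ρ)
    (hn : Cfsg.fittingSubgroup ↥c.act.range ≤ Subgroup.normalizer (Subgroup.zpowers ρ : Set ↥c.act.range))
    (hp' : FF.IsPlane c.act.range.subtype (Cfsg.fittingSubgroup ↥c.act.range) t' v' ρ')
    (hn' : Cfsg.fittingSubgroup ↥c.act.range ≤ Subgroup.normalizer (Subgroup.zpowers ρ' : Set ↥c.act.range))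
    {z : ↥(modV T L)} (hz : z ∈ Subgroup.closure {v, c.act.range.subtype ρ v})
    (hz' : z ∈ Subgroup.closure {v', c.act.range.subtype ρ' v'}) (hz1 : z ≠ 1) :
    Subgroup.zpowers ρ = Subgroup.zpowers ρ' := by
  by_contra hne
  have h := FF.IsPlane.independent c.setup.inj c.setup.exp2 c.setup.odd hp hp' hn hn' hne
  exact hz1 (hp.fpf c.setup.exp2 hz (h.2.2.2 z hz'))

theorem same_transvection (ht : t ∈ c.imJ) (ht' : t' ∈ c.imJ)
    (hp : FF.IsPlane c.act.range.subtype (Cfsg.fittingSubgroup ↥c.act.range) t v ρ)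
    (hp' : FF.IsPlane c.act.range.subtype (Cfsg.fittingSubgroup ↥c.act.range) t' v' ρ')
    (he : Subgroup.zpowers ρ = Subgroup.zpowers ρ') : t' = t := by
  refine c.setup.transvection_unique ht ht' hp hp'.trans ?_
  obtain ⟨i, hi⟩ := Subgroup.mem_zpowers_iff.mp (he.le (Subgroup.mem_zpowers ρ))
  rw [← hi, ← conj_zpow, hp'.inverts, inv_zpow]

theorem lift_zpowers (ht : t ∈ c.imJ) (hr : c.IsLift t ρ r) (hr' : c.IsLift t ρ' r')
    (he : Subgroup.zpowers ρ = Subgroup.zpowers ρ') : Subgroup.zpowers r = Subgroup.zpowers r' := by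
  obtain ⟨j, hj, hjt⟩ := ht
  obtain ⟨y, hy⟩ := modCore_surjective L r
  obtain ⟨y', hy'⟩ := modCore_surjective L r'
  obtain ⟨i, hi⟩ := Subgroup.mem_zpowers_iff.mp (he.ge (Subgroup.mem_zpowers ρ'))
  set z := modCore L (y' * (y ^ i)⁻¹) with hz
  have hzC : z ∈ imC T L := c.mem_imC_of_pi_eq_one (by
    rw [map_mul, map_inv, map_zpow, hr.proj y hy, hr'.proj y' hy', hi, mul_inv_cancel])
  have hzr : r' = z * r ^ i := by
    rw [hz, map_mul, map_inv, map_zpow, hy, hy', inv_mul_cancel_right]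
  have hcomm : Commute z (r ^ i) := (show Commute z r from hr.central z hzC).zpow_right i
  set a := modCore L j with ha
  have haA : a ∈ imA T L := ⟨j, hj, rfl⟩
  have hza : a * z * a⁻¹ = z := by
    rw [← c.imC_comm_imA hzC haA, mul_inv_cancel_right]
  have h1 : a * r' * a⁻¹ = r'⁻¹ := hr'.inverted j hj hjt
  have h2 : a * (r ^ i) * a⁻¹ = (r ^ i)⁻¹ := by
    rw [← conj_zpow, hr.inverted j hj hjt, inv_zpow]
  have h3 : z * (r ^ i)⁻¹ = (r ^ i)⁻¹ * z⁻¹ := by
    rw [hzr, mul_inv_rev] at h1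
    rw [← h1]
    calc z * (r ^ i)⁻¹ = (a * z * a⁻¹) * (a * r ^ i * a⁻¹) := by rw [hza, h2]
      _ = _ := by group
  have hz2 : z * z = 1 := by
    have h4 : z * z = z * (r ^ i)⁻¹ * (r ^ i) * z := by group
    rw [h4, h3]
    calc (r ^ i)⁻¹ * z⁻¹ * r ^ i * z = (r ^ i)⁻¹ * z⁻¹ * (r ^ i * z) := by group
      _ = (r ^ i)⁻¹ * z⁻¹ * (z * r ^ i) := by rw [hcomm.eq]
      _ = 1 := by group
  have hz3 : z ^ 3 = 1 := by
    have e : z = r' * (r ^ i)⁻¹ := by rw [hzr, mul_inv_cancel_right]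
    have hc' : Commute r' (r ^ i)⁻¹ := by rw [hzr]; exact ((hcomm.mul_left (Commute.refl _))).inv_right
    rw [e, hc'.mul_pow, hr'.pow_eq, inv_pow, ← zpow_natCast, ← zpow_mul, mul_comm, zpow_mul, zpow_natCast,
      hr.pow_eq, one_zpow, inv_one, one_mul]
  have hz1 : z = 1 := by
    rw [pow_succ, pow_two, hz2, one_mul] at hz3
    exact hz3
  rw [hz1, one_mul] at hzr
  refine (Subgroup.eq_of_le_of_card_ge (Subgroup.zpowers_le.mpr ?_) ?_).symm
  · rw [hzr]; exact zpow_mem (Subgroup.mem_zpowers r) i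
  · rw [Nat.card_zpowers, Nat.card_zpowers, hr.order, hr'.order]

/-- Components of `L` whose four-groups meet coincide. -/
theorem component_unique {K K' : Subgroup G} (hK : IsJComponent T K) (hKL : K ≤ L)
    (hK' : IsJComponent T K') (hKL' : K' ≤ L) (hmeet : wOf K ⊓ wOf K' ≠ ⊥) : K = K' := by
  obtain ⟨t, ρ, v, r, ht, hp, hn, hr, rfl⟩ := c.component_eq hK hKL
  obtain ⟨t', ρ', v', r', ht', hp', hn', hr', rfl⟩ := c.component_eq hK' hKL'
  obtain ⟨z, hz, hz1⟩ := (Subgroup.bot_or_exists_ne_one _).resolve_left hmeet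
  obtain ⟨hzw, hzw'⟩ := Subgroup.mem_inf.mp hz
  rw [c.wOf_liftComp ht hp hr] at hzw
  rw [c.wOf_liftComp ht' hp' hr'] at hzw'
  obtain ⟨u, hu, hue⟩ := hzw
  obtain ⟨u', hu', hue'⟩ := hzw'
  obtain rfl : u' = u := Subtype.ext (hue'.trans hue.symm)
  have hu1 : u' ≠ 1 := fun e => hz1 (by rw [← hue, e]; rfl)
  have he := c.same_zpowers hp hn hp' hn' hu hu' hu1
  obtain rfl := c.same_transvection ht ht' hp hp' he
  exact liftComp_congr L (c.lift_zpowers ht hr hr' he)

/-- The Sylow group normalises every component whose four-group meets its centre. -/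
theorem T_le_normalizer {K : Subgroup G} (hK : IsJComponent T K) (hKL : K ≤ L)
    (hZW : T ⊓ Subgroup.centralizer (T : Set G) ⊓ wOf K ≠ ⊥) : T ≤ Subgroup.normalizer (K : Set G) := by
  obtain ⟨t, ρ, v, r, ht, hp, hn, hr, rfl⟩ := c.component_eq hK hKL
  obtain ⟨z, hz, hz1⟩ := (Subgroup.bot_or_exists_ne_one _).resolve_left hZW
  obtain ⟨hzT, hzw⟩ := Subgroup.mem_inf.mp hz
  obtain ⟨-, hzc⟩ := Subgroup.mem_inf.mp hzT
  rw [c.wOf_liftComp ht hp hr] at hzw
  obtain ⟨u, hu, hue⟩ := hzw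
  have hu1 : u ≠ 1 := fun e => hz1 (by rw [← hue, e]; rfl)
  haveI : (Cfsg.fittingSubgroup ↥c.act.range).Normal := Subgroup.sSup_normal _ fun _ hN => hN.1
  refine mem_normalizer_liftComp fun x hxT k hk => ?_
  set X : ↥L := ⟨x, c.T_le hxT⟩ with hX
  refine c.liftComp_conj_mem (g := X) ?_ hk
  set g := c.pi X with hg
  have hp' := hp.conjugate g
  have hn' : Cfsg.fittingSubgroup ↥c.act.range ≤
      Subgroup.normalizer (Subgroup.zpowers (g * ρ * g⁻¹) : Set ↥c.act.range) := by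
    refine le_normalizer_of_conj fun q hq y hy => ?_
    obtain ⟨i, rfl⟩ := Subgroup.mem_zpowers_iff.mp hy
    have hq' : g⁻¹ * q * g ∈ Cfsg.fittingSubgroup ↥c.act.range := by
      simpa using (inferInstance : (Cfsg.fittingSubgroup ↥c.act.range).Normal).conj_mem _ hq g⁻¹
    obtain ⟨e, he⟩ := Subgroup.mem_zpowers_iff.mp
      ((Subgroup.mem_normalizer_iff.mp (hn hq') _).mp (zpow_mem (Subgroup.mem_zpowers ρ) i))
    refine Subgroup.mem_zpowers_iff.mpr ⟨e, ?_⟩
    rw [conj_zpow, conj_zpow, he]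
    group
  have hgu : c.act.range.subtype g u = u := Subtype.ext (by
    show (x : G) * u * x⁻¹ = u
    rw [show (u : G) = z from hue, Subgroup.mem_centralizer_iff.mp hzc x hxT, mul_inv_cancel_right])
  have hu' : u ∈ Subgroup.closure {c.act.range.subtype g v,
      c.act.range.subtype (g * ρ * g⁻¹) (c.act.range.subtype g v)} := by
    have hmem := Subgroup.mem_map_of_mem (c.act.range.subtype g : ↥(modV T L) ≃* ↥(modV T L)).toMonoidHom hu
    rw [MonoidHom.map_closure, Set.image_pair] at hmem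
    have h2 : c.act.range.subtype (g * ρ * g⁻¹) (c.act.range.subtype g v) =
        c.act.range.subtype g (c.act.range.subtype ρ v) := by
      simp only [map_mul, map_inv, MulAut.mul_apply, MulAut.inv_apply, MulEquiv.symm_apply_apply]
    rw [h2]
    rw [show ((c.act.range.subtype g : ↥(modV T L) ≃* ↥(modV T L)).toMonoidHom u) = u from hgu] at hmem
    exact hmem
  have he := c.same_zpowers hp hn hp' hn' hu hu' hu1
  have hJn : ∀ j ∈ thompsonSubgroupOf 2 T, ∀ y ∈ T, y * j * y⁻¹ ∈ thompsonSubgroupOf 2 T := fun j hj y hy =>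
    (Subgroup.mem_normalizer_iff.mp
      (normalizer_le_normalizer_thompsonSubgroupOf T (Subgroup.le_normalizer hy)) j).mp hj
  have ht' : g * t * g⁻¹ ∈ c.imJ := by
    obtain ⟨j, hj, rfl⟩ := ht
    exact ⟨X * j * X⁻¹, hJn j hj x hxT, by rw [map_mul, map_mul, map_inv]⟩
  have htt : g * t * g⁻¹ = t := c.same_transvection ht ht' hp hp' he
  have hAn : ∀ a ∈ imA T L, (modCore L X)⁻¹ * a * modCore L X ∈ imA T L := by
    rintro _ ⟨j, hj, rfl⟩
    refine ⟨X⁻¹ * j * X, ?_, by rw [map_mul, map_mul, map_inv]⟩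
    have := hJn j hj x⁻¹ (inv_mem hxT)
    rwa [inv_inv] at this
  have hr' : c.IsLift t (g * ρ * g⁻¹) (modCore L X * r * (modCore L X)⁻¹) := by
    set R := modCore L X with hR
    refine ⟨?_, ?_, ?_, ?_, ?_⟩
    · have := (MulAut.conj R).orderOf_eq r
      rw [MulAut.conj_apply] at this
      rw [this, hr.order]
    · intro w hw
      have h := hr.proj (X⁻¹ * w * X) (by rw [map_mul, map_mul, map_inv, hw, ← hR]; group)
      rw [map_mul, map_mul, map_inv, ← hg] at h
      rw [← h]; group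
    · intro w hw
      have h := hr.central (R⁻¹ * w * R) (by simpa using c.imC_normal.conj_mem w hw R⁻¹)
      calc w * (R * r * R⁻¹) = R * ((R⁻¹ * w * R) * r) * R⁻¹ := by group
        _ = R * (r * (R⁻¹ * w * R)) * R⁻¹ := by rw [h]
        _ = R * r * R⁻¹ * w := by group
    · intro a ha
      rcases hr.act _ (hAn a ha) with h | h
      · left
        calc a * (R * r * R⁻¹) * a⁻¹ = R * ((R⁻¹ * a * R) * r * (R⁻¹ * a * R)⁻¹) * R⁻¹ := by group
          _ = _ := by rw [h]
      · right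
        calc a * (R * r * R⁻¹) * a⁻¹ = R * ((R⁻¹ * a * R) * r * (R⁻¹ * a * R)⁻¹) * R⁻¹ := by group
          _ = _ := by rw [h]; group
    · intro j hj hjt
      have hj' : ((X⁻¹ * j * X : ↥L) : G) ∈ thompsonSubgroupOf 2 T := by
        have := hJn j hj x⁻¹ (inv_mem hxT)
        rwa [inv_inv] at this
      have hpi : c.pi (X⁻¹ * j * X) = t := by
        rw [map_mul, map_mul, map_inv, hjt, ← hg]
        conv_lhs => rw [← htt]
        group
      have h := hr.inverted _ hj' hpi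
      rw [map_mul, map_mul, map_inv] at h
      calc modCore L j * (R * r * R⁻¹) * (modCore L j)⁻¹
          = R * ((R⁻¹ * modCore L j * R) * r * (R⁻¹ * modCore L j * R)⁻¹) * R⁻¹ := by group
        _ = _ := by rw [h]; group
  exact (c.lift_zpowers ht hr hr' he).ge (Subgroup.mem_zpowers _)

end Ctx

end CfsgLib.JComp
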