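import Cfsg.Agent.Lib.JComp.Second

/-!
The subgroup `K ⊔ T` of a position: its 2-core is `T ∩ C(W_K)`, of index 6.
-/

set_option autoImplicit false
set_option maxHeartbeats 800000
open Cfsg CfsgLib.PLocal
open scoped commutatorElement

namespace CfsgLib.JComp

variable {G : Type*} [Group G] [Finite G]

/-- The centraliser of `W_K` in `T`. -/
def qGrp (T K : Subgroup G) : Subgroup G := T ⊓ Subgroup.centralizer (wOf K : Set G)

omit [Finite G] in
theorem qGrp_le (T K : Subgroup G) : qGrp T K ≤ T := inf_le_left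

section single

variable {M T K L : Subgroup G} (q : Pos M T K L)
  (hTK : T ≤ Subgroup.normalizer (K : Set G))
  (hle : Nat.card ↥(omegaCenterOf (thompsonSubgroupOf 2 T)) ≤ 4)

include q

theorem sup_le_L : K ⊔ T ≤ L := sup_le q.K_le q.sylow.1

theorem exists_wOf_ne (w : G) : ∃ a ∈ wOf K, a ≠ 1 ∧ a ≠ w := by
  by_contra hall
  push Not at hall
  classical
  have hsub : (wOf K : Set G) ⊆ ({1, w} : Finset G) := by
    intro v hv
    simp only [Finset.coe_insert, Finset.coe_singleton, Set.mem_insert_iff, Set.mem_singleton_iff]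
    exact or_iff_not_imp_left.mpr (hall v hv)
  have h5 := Set.ncard_le_ncard hsub (Finset.finite_toSet _)
  rw [Set.ncard_coe_finset, ← Nat.card_coe_set_eq] at h5
  have h4 : Nat.card ↥(wOf K) = 4 := q.comp.2.2.2.2.1
  have : Nat.card ↥(wOf K) ≤ 2 := h5.trans Finset.card_le_two
  omega

include hTK

theorem T_inf_K : T ⊓ K = pCoreOf 2 K :=
  le_antisymm (mem_pCoreOf_of_two_group q.comp (q.two.to_le inf_le_left) inf_le_right)
    (le_inf (core_le_T q hTK) (pCoreOf_le K))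

theorem card_sup : Nat.card ↥(K ⊔ T) = 3 * Nat.card T := by
  have h1 := CfsgLib.PLoc.card_sup_mul_card_inf hTK
  rw [sup_comm, T_inf_K q hTK] at h1
  have h3 : Nat.card K = 3 * Nat.card ↥(pCoreOf 2 K) := by
    rw [← Subgroup.relIndex_bot_left, ← Subgroup.relIndex_bot_left,
      ← Subgroup.relIndex_mul_relIndex _ _ _ bot_le (pCoreOf_le K), q.comp.2.2.1, mul_comm]
  rw [h3, mul_left_comm, ← mul_assoc] at h1
  exact Nat.eq_of_mul_eq_mul_right Nat.card_pos h1

theorem relIndex_T_sup : T.relIndex (K ⊔ T) = 3 := by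
  have h := Subgroup.relIndex_mul_relIndex (⊥ : Subgroup G) T (K ⊔ T) bot_le le_sup_right
  rw [Subgroup.relIndex_bot_left, Subgroup.relIndex_bot_left, card_sup q hTK, mul_comm 3] at h
  exact Nat.eq_of_mul_eq_mul_left Nat.card_pos h

theorem isSylowTwoIn_sup : IsSylowTwoIn T (K ⊔ T) :=
  ⟨le_sup_right, q.two, by rw [relIndex_T_sup q hTK]; exact ⟨1, rfl⟩⟩

theorem sup_le_normalizer_wOf' : K ⊔ T ≤ Subgroup.normalizer (wOf K : Set G) :=
  sup_le (Subgroup.le_normalizer.trans (normalizer_le_normalizer_wOf K))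
    (hTK.trans (normalizer_le_normalizer_wOf K))

theorem wOf_le_qGrp : wOf K ≤ qGrp T K := fun _ hv => Subgroup.mem_inf.mpr
  ⟨wOf_le_T q hTK hv, Subgroup.mem_centralizer_iff.mpr fun _ hu => wOf_commute hu hv⟩

include hle

theorem qGrp_normal : K ⊔ T ≤ Subgroup.normalizer (qGrp T K : Set G) := by
  refine le_normalizer_of_conj fun k hk x hx => ?_
  obtain ⟨hx1, hx2⟩ := Subgroup.mem_inf.mp hx
  have hc : k * x * k⁻¹ ∈ Subgroup.centralizer (wOf K : Set G) :=
    (Subgroup.mem_normalizer_iff.mp (((sup_le_normalizer_wOf' q hTK).trans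
      (CfsgLib.CharP.normalizer_le_normalizer_centralizer (wOf K))) hk) x).mp hx2
  exact Subgroup.mem_inf.mpr ⟨centralizer_wOf_le_T q hTK hle (Subgroup.mem_inf.mpr
    ⟨mul_mem (mul_mem hk (Subgroup.mem_sup_right hx1)) (inv_mem hk), hc⟩), hc⟩

theorem mem_qGrp_of_commute {w : G} (hwZ : w ∈ omegaCenterOf (thompsonSubgroupOf 2 T)) (hwW : w ∈ wOf K)
    (hw1 : w ≠ 1) {a : G} (ha : a ∈ wOf K) (ha1 : a ≠ 1) (haw : a ≠ w) {x : G} (hx : x ∈ T)
    (hxa : Commute x a) : x ∈ qGrp T K := by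
  refine Subgroup.mem_inf.mpr ⟨hx, Subgroup.mem_centralizer_iff.mpr fun v hv => ?_⟩
  have hxw : Commute x w := q.omega_central hTK hle hwZ hx
  by_cases h1 : v = 1
  · rw [h1, one_mul, mul_one]
  by_cases h2 : v = w
  · rw [h2]; exact hxw.eq.symm
  rcases wOf_mul_mem q.comp hwW hw1 ha hv ha1 haw h1 h2 with e | e
  · have : v = a := by
      rw [← inv_eq_of_mul_eq_one_right (q.comp.2.2.2.2.2 a ha), inv_eq_of_mul_eq_one_right e]
    rw [this]; exact hxa.eq.symm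
  · have : v = a * w := by rw [← e, ← mul_assoc, q.comp.2.2.2.2.2 a ha, one_mul]
    rw [this]; exact (hxa.mul_right hxw).eq.symm

theorem comm_eq_of_not_mem {w : G} (hwZ : w ∈ omegaCenterOf (thompsonSubgroupOf 2 T)) (hwW : w ∈ wOf K)
    (hw1 : w ≠ 1) {a : G} (ha : a ∈ wOf K) (ha1 : a ≠ 1) (haw : a ≠ w) {x : G} (hx : x ∈ T)
    (hxQ : x ∉ qGrp T K) : ⁅a, x⁆ = w :=
  (comm_modZ q hTK hle hwZ hwW hw1 hx (Subgroup.mem_sup_right ha)).resolve_left fun e =>
    hxQ (mem_qGrp_of_commute q hTK hle hwZ hwW hw1 ha ha1 haw hx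
      (commutatorElement_eq_one_iff_mul_comm.mp e).symm)

theorem qGrp_split {x x' : G} (hx : x ∈ T) (hx' : x' ∈ T) (hxQ : x ∉ qGrp T K) (hx'Q : x' ∉ qGrp T K) :
    x * x' ∈ qGrp T K := by
  obtain ⟨w, hwZ, hwW, hw1, -, -⟩ := exists_fixW q.two q.comp
  obtain ⟨a, ha, ha1, haw⟩ := exists_wOf_ne q w
  refine mem_qGrp_of_commute q hTK hle hwZ hwW hw1 ha ha1 haw (T.mul_mem hx hx') ?_
  have h1 : ⁅a, x * x'⁆ = ⁅a, x⁆ * (x * ⁅a, x'⁆ * x⁻¹) := by
    simp only [commutatorElement_def]; group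
  rw [comm_eq_of_not_mem q hTK hle hwZ hwW hw1 ha ha1 haw hx hxQ,
    comm_eq_of_not_mem q hTK hle hwZ hwW hw1 ha ha1 haw hx' hx'Q, q.omega_central hTK hle hwZ hx,
    mul_inv_cancel_right, mul_self_of_mem_omega hwZ] at h1
  exact (commutatorElement_eq_one_iff_mul_comm.mp h1).symm

theorem exists_not_mem_qGrp : ∃ b ∈ T, b ∉ qGrp T K := by
  by_contra hall
  push Not at hall
  have he : qGrp T K = T := le_antisymm (qGrp_le T K) hall
  have h := qGrp_normal q hTK hle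
  rw [he] at h
  exact q.not_le_normalizer q.two (thompsonSubgroupOf_le 2 T) q.comp (le_sup_left.trans h)

theorem relIndex_qGrp : (qGrp T K).relIndex T = 2 := by
  obtain ⟨b, hb, hbQ⟩ := exists_not_mem_qGrp q hTK hle
  rw [Subgroup.relIndex, Subgroup.index_eq_two_iff]
  refine ⟨⟨b, hb⟩, fun x => ?_⟩
  rw [Subgroup.mem_subgroupOf, Subgroup.mem_subgroupOf, Subgroup.coe_mul]
  by_cases hx : (x : G) ∈ qGrp T K
  · exact Or.inr ⟨hx, fun h => hbQ (by simpa using (qGrp T K).mul_mem ((qGrp T K).inv_mem hx) h)⟩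
  · exact Or.inl ⟨qGrp_split q hTK hle x.2 hb hx hbQ, hx⟩

theorem pCoreOf_sup : pCoreOf 2 (K ⊔ T) = qGrp T K := by
  have h1 : qGrp T K ≤ pCoreOf 2 (K ⊔ T) :=
    two_le_pCoreOf (q.two.to_le (qGrp_le T K)) ((qGrp_le T K).trans le_sup_right) (qGrp_normal q hTK hle)
  have h2 : pCoreOf 2 (K ⊔ T) ≤ T := pCoreOf_le_sylowTwoIn (isSylowTwoIn_sup q hTK)
  refine le_antisymm (fun x hx => ?_) h1
  by_contra hxQ
  have hTc : pCoreOf 2 (K ⊔ T) = T := by
    refine le_antisymm h2 fun t ht => ?_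
    by_cases htQ : t ∈ qGrp T K
    · exact h1 htQ
    · simpa using mul_mem (h1 (qGrp_split q hTK hle ht (h2 hx) htQ hxQ)) (inv_mem hx)
  have h := Subgroup.le_normalizer.trans (normalizer_le_normalizer_pCoreOf (K ⊔ T))
  rw [hTc] at h
  exact q.not_le_normalizer q.two (thompsonSubgroupOf_le 2 T) q.comp (le_sup_left.trans h)

theorem relIndex_core_sup : (pCoreOf 2 (K ⊔ T)).relIndex (K ⊔ T) = 6 := by
  rw [pCoreOf_sup q hTK hle, ← Subgroup.relIndex_mul_relIndex _ T _ (qGrp_le T K) le_sup_right,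
    relIndex_qGrp q hTK hle, relIndex_T_sup q hTK]

omit hle

theorem centralizer_core_sup :
    Subgroup.centralizer (pCoreOf 2 (K ⊔ T) : Set G) ≤ pCoreOf 2 (K ⊔ T) := by
  have h : pCoreOf 2 L ≤ pCoreOf 2 (K ⊔ T) := two_le_pCoreOf (pCoreOf_isPGroup L)
    (q.ctx.core_le_T.trans le_sup_right) ((sup_le_L q).trans q.ctx.L_le_normalizer_core)
  exact ((Subgroup.centralizer_le (show (pCoreOf 2 L : Set G) ⊆ pCoreOf 2 (K ⊔ T) from h)).trans
    q.ctx.mem.2.2).trans h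

theorem not_commutator_le : ¬ ⁅K ⊔ T, K ⊔ T⁆ ≤ pCoreOf 2 (K ⊔ T) := by
  intro h
  have hK : K ≤ pCoreOf 2 (K ⊔ T) := by
    conv_lhs => rw [← q.comp.2.1]
    exact (Subgroup.commutator_mono le_sup_left ((thompsonSubgroupOf_le 2 T).trans le_sup_right)).trans h
  obtain ⟨ρ, hρK, -, hρP, -⟩ := exists_rho q.comp
  exact hρP (mem_pCoreOf_of_two_group q.comp ((pCoreOf_isPGroup _).to_le hK) le_rfl hρK)

include hle

theorem omega_comm_ne : ⁅omegaCenterOf T, K ⊔ T⁆ ≠ ⊥ := by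
  intro h
  obtain ⟨w, hwZ, -, -, hwc, -⟩ := exists_fixW q.two q.comp
  rw [← q.omega_eq hTK hle] at hwZ
  apply hwc
  rw [Subgroup.commutator_eq_bot_iff_le_centralizer] at h
  exact Subgroup.centralizer_le (show (K : Set G) ⊆ ↑(K ⊔ T) from fun x hx => Subgroup.mem_sup_left hx)
    (h hwZ)

end single

end CfsgLib.JComp
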