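import Cfsg.Agent.Lib.JComp.Offender
import Mathlib.GroupTheory.Nilpotent
import Mathlib.GroupTheory.Sylow
import Mathlib.GroupTheory.Perm.Cycle.Type

/-!
A transvection `t` normalising an odd nilpotent group `F ≥ C(F)` determines a subgroup `⟨ρ⟩ = [F, t]`
of order 3 and a plane `{1, v, ρ v, v ρ v}`; different planes are independent.
-/

set_option autoImplicit false
set_option maxHeartbeats 400000
open scoped commutatorElement

namespace CfsgLib.JComp.FF

variable {H V : Type*} [Group H] [CommGroup V] {φ : H →* MulAut V}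

/-- `ρ` is attached to the transvection `t` with axis `v`. -/
structure IsPlane (φ : H →* MulAut V) (F : Subgroup H) (t : H) (v : V) (ρ : H) : Prop where
  trans : IsTransvection φ t v
  memF : ρ ∈ F
  order : orderOf ρ = 3
  inverts : t * ρ * t⁻¹ = ρ⁻¹
  move_v : φ ρ v ≠ v
  axis_img : φ ρ (φ ρ v) = φ ρ v * v
  t_img : φ t (φ ρ v) = φ ρ v * v
  shift : ∀ x, x⁻¹ * φ ρ x ∈ Subgroup.closure {v, φ ρ v}

theorem inv_eq_self (hV : ∀ v : V, v * v = 1) (y : V) : y⁻¹ = y := inv_eq_of_mul_eq_one_right (hV y)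

theorem mul_mul_self (hV : ∀ v : V, v * v = 1) (y z : V) : y * z * z = y := by rw [mul_assoc, hV, mul_one]

theorem mem_pair (hV : ∀ v : V, v * v = 1) {v w m : V} (hm : m ∈ Subgroup.closure {v, w}) :
    m = 1 ∨ m = v ∨ m = w ∨ m = v * w := by
  induction hm using Subgroup.closure_induction with
  | mem x hx =>
    rcases hx with rfl | rfl
    · exact Or.inr (Or.inl rfl)
    · exact Or.inr (Or.inr (Or.inl rfl))
  | one => exact Or.inl rfl
  | mul x y _ _ hx hy =>
    have h1 : v * (v * w) = w := by rw [← mul_assoc, hV, one_mul]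
    have h2 : w * (v * w) = v := by rw [mul_left_comm, hV, mul_one]
    have h3 : w * v = v * w := mul_comm w v
    have h4 : v * w * v = w := by rw [mul_right_comm, hV, one_mul]
    have h5 : v * w * w = v := mul_mul_self hV v w
    rcases hx with e | e | e | e <;> rcases hy with f | f | f | f <;> rw [e, f] <;>
      simp only [one_mul, mul_one, hV, h1, h2, h3, h4, h5, true_or, or_true]
  | inv x _ hx => rw [inv_eq_self hV]; exact hx

/-- A plane is spanned by any two of its distinct nontrivial elements. -/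
theorem pair_eq [Finite V] (hV : ∀ v : V, v * v = 1) {v w a b : V} (ha : a ∈ Subgroup.closure {v, w})
    (hb : b ∈ Subgroup.closure {v, w}) (ha1 : a ≠ 1) (hb1 : b ≠ 1) (hab : a ≠ b) :
    Subgroup.closure {a, b} = Subgroup.closure {v, w} := by
  classical
  have hle : Subgroup.closure {a, b} ≤ Subgroup.closure {v, w} := by
    rw [Subgroup.closure_le]
    rintro y (rfl | rfl)
    · exact ha
    · exact hb
  refine Subgroup.eq_of_le_of_card_ge hle ?_
  have h1 : Nat.card ↥(Subgroup.closure {v, w}) ≤ 4 := by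
    have hsub : ((Subgroup.closure {v, w} : Subgroup V) : Set V).toFinite.toFinset ⊆ {1, v, w, v * w} := by
      intro y hy
      rw [Set.Finite.mem_toFinset] at hy
      simp only [Finset.mem_insert, Finset.mem_singleton]
      exact mem_pair hV hy
    have := (Finset.card_le_card hsub).trans Finset.card_le_four
    rwa [← Set.ncard_eq_toFinset_card _ (Set.toFinite _), ← Nat.card_coe_set_eq] at this
  have h2 : 4 ≤ Nat.card ↥(Subgroup.closure {a, b}) := by
    have hsub : ({1, a, b, a * b} : Finset V) ⊆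
        ((Subgroup.closure {a, b} : Subgroup V) : Set V).toFinite.toFinset := by
      intro y hy
      rw [Set.Finite.mem_toFinset]
      simp only [Finset.mem_insert, Finset.mem_singleton] at hy
      have h3 : a ∈ Subgroup.closure ({a, b} : Set V) := Subgroup.subset_closure (Or.inl rfl)
      have h4 : b ∈ Subgroup.closure ({a, b} : Set V) := Subgroup.subset_closure (Or.inr rfl)
      rcases hy with e | e | e | e <;> rw [e]
      · exact one_mem _
      · exact h3
      · exact h4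
      · exact mul_mem h3 h4
    have := Finset.card_le_card hsub
    rw [← Set.ncard_eq_toFinset_card _ (Set.toFinite _), ← Nat.card_coe_set_eq] at this
    refine le_trans (le_of_eq ?_) this
    have e1 : a * b ≠ 1 := fun h => hab (by rw [eq_inv_of_mul_eq_one_left h, inv_eq_self hV])
    have e2 : a * b ≠ a := fun h => hb1 (mul_eq_left.mp h)
    have e3 : a * b ≠ b := fun h => ha1 (mul_eq_right.mp h)
    simp [Finset.card_insert_of_notMem, Ne.symm ha1, Ne.symm hb1, hab, Ne.symm e1, Ne.symm e2, Ne.symm e3]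
  exact h1.trans h2

theorem IsTransvection.axis_fixed (hφ : Function.Injective φ) (hV : ∀ v : V, v * v = 1) {t : H} {v : V}
    (h : IsTransvection φ t v) : φ t v = v := by
  obtain ⟨ho, -, hx⟩ := h
  obtain ⟨x, hx'⟩ : ∃ x, φ t x ≠ x := by
    by_contra hall
    push Not at hall
    rw [hφ (a₁ := t) (a₂ := 1) (by rw [map_one]; exact MulEquiv.ext hall), orderOf_one] at ho
    omega
  have h1 := (hx x).resolve_left hx'
  have h2 : φ (t * t) x = x := by rw [← pow_two, ← ho, pow_orderOf_eq_one, map_one, MulAut.one_apply]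
  rw [mulAut_mul_apply, h1, map_mul, h1, mul_assoc, mul_eq_left] at h2
  rw [eq_inv_of_mul_eq_one_right h2, inv_eq_self hV]

theorem IsTransvection.inv_eq {t : H} {v : V} (h : IsTransvection φ t v) : t⁻¹ = t :=
  inv_eq_of_mul_eq_one_right (by rw [← pow_two, ← h.1, pow_orderOf_eq_one])

theorem IsTransvection.conj {t : H} {v : V} (h : IsTransvection φ t v) (g : H) :
    IsTransvection φ (g * t * g⁻¹) (φ g v) := by
  refine ⟨?_, fun hv => h.2.1 ((φ g).injective (hv.trans (map_one _).symm)), fun x => ?_⟩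
  · exact ((MulAut.conj g).orderOf_eq t).trans h.1
  · rw [mulAut_mul_apply, mulAut_mul_apply]
    have hgx : φ g (φ g⁻¹ x) = x := by rw [← mulAut_mul_apply, mul_inv_cancel, map_one, MulAut.one_apply]
    rcases h.2.2 (φ g⁻¹ x) with e | e
    · exact Or.inl (by rw [e, hgx])
    · exact Or.inr (by rw [e, map_mul, hgx])

/-- The product of two transvections. -/
theorem product_cases (hφ : Function.Injective φ) (hV : ∀ v : V, v * v = 1) {t s : H} {v w : V}
    (ht : IsTransvection φ t v) (hs : IsTransvection φ s w) :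
    (t * s) ^ 4 = 1 ∨
      ((t * s) ^ 3 = 1 ∧ φ (t * s) v = w ∧ φ (t * s) w = w * v ∧ φ t w = w * v ∧ w ≠ v ∧
        ∀ x, x⁻¹ * φ (t * s) x ∈ Subgroup.closure {v, w}) := by
  have htv := ht.axis_fixed hφ hV
  have hsw := hs.axis_fixed hφ hV
  have key : ∀ (t s : H) (v w : V), IsTransvection φ t v → IsTransvection φ s w → φ t v = v →
      φ s w = w → φ t w = w → (t * s) ^ 4 = 1 := by
    intro t s v w ht hs htv hsw htw
    apply hφ
    rw [map_one]
    refine MulEquiv.ext fun x => ?_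
    rw [MulAut.one_apply]
    have hρw : φ (t * s) w = w := by rw [mulAut_mul_apply, hsw, htw]
    have hρv : φ (t * s) v = v ∨ φ (t * s) v = v * w := by
      rw [mulAut_mul_apply]
      rcases hs.2.2 v with e | e <;> rw [e]
      · exact Or.inl htv
      · exact Or.inr (by rw [map_mul, htv, htw])
    set ρ := t * s with hρ
    have step : ∀ x, ∃ d, φ (ρ * ρ) x = x * d ∧ φ ρ d = d := by
      intro x
      obtain ⟨m, hm, hmv⟩ : ∃ m, φ ρ x = x * m ∧ (φ ρ m = m ∨ φ ρ m = m * w) := by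
        rw [hρ, mulAut_mul_apply]
        rcases hs.2.2 x with e | e <;> rw [e] <;> rcases ht.2.2 x with f | f
        · exact ⟨1, by rw [f, mul_one], Or.inl (map_one _)⟩
        · exact ⟨v, f, hρv⟩
        · exact ⟨w, by rw [map_mul, f, htw], Or.inl hρw⟩
        · refine ⟨v * w, by rw [map_mul, f, htw, mul_assoc], ?_⟩
          rw [← hρ]
          rcases hρv with e' | e'
          · exact Or.inl (by rw [map_mul, e', hρw])
          · exact Or.inr (by rw [map_mul, e', hρw])
      refine ⟨m * φ ρ m, by rw [mulAut_mul_apply, hm, map_mul, hm, mul_assoc], ?_⟩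
      rcases hmv with e | e
      · rw [e, hV, map_one]
      · rw [e, ← mul_assoc, hV, one_mul, hρw]
    obtain ⟨d, hd, hd'⟩ := step x
    have hd2 : φ (ρ * ρ) d = d := by rw [mulAut_mul_apply, hd', hd']
    rw [show ρ ^ 4 = (ρ * ρ) ^ 2 by rw [← pow_two ρ, ← pow_mul], apply_pow hd hd2, pow_two, hV, mul_one]
  rcases ht.2.2 w with htw | htw
  · exact Or.inl (key t s v w ht hs htv hsw htw)
  rcases hs.2.2 v with hsv | hsv
  · left
    have h4 := key s t w v hs ht hsw htv hsv
    have h : t * (s * t) ^ 4 * t⁻¹ = (t * s) ^ 4 := by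
      rw [← conj_pow]; congr 1; group
    rw [← h, h4, mul_one, mul_inv_cancel]
  right
  have hρv : φ (t * s) v = w := by
    rw [mulAut_mul_apply, hsv, map_mul, htv, htw, mul_left_comm, hV, mul_one]
  have hρw : φ (t * s) w = w * v := by rw [mulAut_mul_apply, hsw, htw]
  have hne : w ≠ v := fun h => by
    rw [h, htv] at htw
    exact ht.2.1 (mul_eq_left.mp htw.symm)
  have hmem : ∀ x, x⁻¹ * φ (t * s) x ∈ Subgroup.closure {v, w} := by
    intro x
    rw [mulAut_mul_apply]
    have hv' : v ∈ Subgroup.closure {v, w} := Subgroup.subset_closure (Or.inl rfl)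
    have hw' : w ∈ Subgroup.closure {v, w} := Subgroup.subset_closure (Or.inr rfl)
    rcases hs.2.2 x with e | e <;> rw [e] <;> rcases ht.2.2 x with f | f
    · rw [f, inv_mul_cancel]; exact one_mem _
    · rw [f, inv_mul_cancel_left]; exact hv'
    · rw [map_mul, f, htw, inv_mul_cancel_left]; exact mul_mem hw' hv'
    · rw [map_mul, f, htw, mul_assoc, inv_mul_cancel_left]; exact mul_mem hv' (mul_mem hw' hv')
  refine ⟨hφ ?_, hρv, hρw, htw, hne, hmem⟩
  rw [map_one]
  refine MulEquiv.ext fun x => ?_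
  rw [MulAut.one_apply]
  obtain ⟨m, hm, hmp⟩ : ∃ m, φ (t * s) x = x * m ∧ (m = 1 ∨ m = v ∨ m = w ∨ m = v * w) :=
    ⟨x⁻¹ * φ (t * s) x, (mul_inv_cancel_left _ _).symm, mem_pair hV (hmem x)⟩
  set ρ := t * s
  have h3 : φ (ρ ^ 3) x = x * (m * (φ ρ m * φ ρ (φ ρ m))) := by
    have h31 : ρ ^ 3 = ρ * (ρ * ρ) := by rw [pow_succ', pow_two]
    have e : ∀ y, φ ρ (x * y) = x * (m * φ ρ y) := fun y => by rw [map_mul (φ ρ), hm, mul_assoc]
    rw [h31, mulAut_mul_apply, mulAut_mul_apply ρ ρ, hm, e, e, map_mul (φ ρ)]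
  rw [h3]
  have e1 : φ ρ (w * v) = v := by rw [map_mul, hρw, hρv, mul_right_comm, hV, one_mul]
  have hwv : v * (w * (w * v)) = 1 := by rw [← mul_assoc w w, hV, one_mul, hV]
  rcases hmp with e | e | e | e <;> rw [e]
  · simp
  · rw [hρv, hρw, hwv, mul_one]
  · rw [hρw, e1, mul_mul_self hV, hV, mul_one]
  · rw [mul_comm v w, e1, hρv, mul_comm v w, hV, mul_one]

variable [Finite H] [Finite V]

theorem odd_orderOf {F : Subgroup H} (hF : Odd (Nat.card F)) {x : H} (hx : x ∈ F) : Odd (orderOf x) :=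
  hF.of_dvd_nat (Subgroup.orderOf_dvd_natCard _ hx)

/-- Two elements of odd order shifting into `P` and agreeing on `P` are equal. -/
theorem eq_of_agree (hφ : Function.Injective φ) (hV : ∀ v : V, v * v = 1) {F : Subgroup H}
    (hF : Odd (Nat.card F)) {a b : H} (ha : a ∈ F) (hb : b ∈ F) {P : Subgroup V}
    (hsa : ∀ x, x⁻¹ * φ a x ∈ P) (hsb : ∀ x, x⁻¹ * φ b x ∈ P) (hagree : ∀ m ∈ P, φ a m = φ b m) :
    a = b := by
  have h1 : a * b⁻¹ = 1 := by
    apply hφ
    rw [map_one]
    refine MulEquiv.ext fun x => ?_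
    rw [MulAut.one_apply]
    set y := φ b⁻¹ x with hy
    have hby : φ b y = x := by rw [hy, ← mulAut_mul_apply, mul_inv_cancel, map_one, MulAut.one_apply]
    have hd : x⁻¹ * φ a y ∈ P := by
      have h : x⁻¹ * φ a y = (y⁻¹ * φ b y)⁻¹ * (y⁻¹ * φ a y) := by
        rw [hby]; simp only [mul_inv_rev, inv_inv, mul_assoc, mul_inv_cancel_left]
      rw [h]
      exact mul_mem (inv_mem (hsb y)) (hsa y)
    have hfix : φ (a * b⁻¹) (x⁻¹ * φ a y) = x⁻¹ * φ a y := by
      set d := x⁻¹ * φ a y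
      have hz : φ b⁻¹ d ∈ P := by
        set z := φ b⁻¹ d with hz'
        have hbz : φ b z = d := by rw [hz', ← mulAut_mul_apply, mul_inv_cancel, map_one, MulAut.one_apply]
        have h := hsb z
        rw [hbz] at h
        have h2 := mul_mem hd (inv_mem h)
        rwa [mul_inv_rev, inv_inv, mul_inv_cancel_left] at h2
      rw [mulAut_mul_apply, hagree _ hz, ← mulAut_mul_apply, mul_inv_cancel, map_one, MulAut.one_apply]
    have hx : φ (a * b⁻¹) x = x * (x⁻¹ * φ a y) := by rw [mulAut_mul_apply, ← hy, mul_inv_cancel_left]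
    rw [hx, eq_one_of_shift hV (odd_orderOf hF (mul_mem ha (inv_mem hb))) hx hfix, mul_one]
  exact mul_inv_eq_one.mp h1

namespace IsPlane

variable {F : Subgroup H} {t ρ : H} {v : V}

theorem cube (h : IsPlane φ F t v ρ) : ρ ^ 3 = 1 := by rw [← h.order, pow_orderOf_eq_one]

theorem inv_eq_sq (h : IsPlane φ F t v ρ) : ρ⁻¹ = ρ * ρ :=
  inv_eq_of_mul_eq_one_right (by rw [← h.cube, pow_succ', pow_two])

theorem v_mem (ρ : H) (v : V) : v ∈ Subgroup.closure ({v, φ ρ v} : Set V) :=
  Subgroup.subset_closure (Or.inl rfl)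

theorem w_mem (ρ : H) (v : V) : φ ρ v ∈ Subgroup.closure ({v, φ ρ v} : Set V) :=
  Subgroup.subset_closure (Or.inr rfl)

theorem apply_mem (h : IsPlane φ F t v ρ) {m : V} (hm : m ∈ Subgroup.closure {v, φ ρ v}) :
    φ ρ m ∈ Subgroup.closure {v, φ ρ v} := by
  have := mul_mem hm (h.shift m)
  rwa [mul_inv_cancel_left] at this

theorem apply_inv_mem (h : IsPlane φ F t v ρ) {m : V} (hm : m ∈ Subgroup.closure {v, φ ρ v}) :
    φ ρ⁻¹ m ∈ Subgroup.closure {v, φ ρ v} := by
  rw [h.inv_eq_sq, mulAut_mul_apply]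
  exact h.apply_mem (h.apply_mem hm)

theorem shift_inv (h : IsPlane φ F t v ρ) (x : V) :
    x⁻¹ * φ ρ⁻¹ x ∈ Subgroup.closure {v, φ ρ v} := by
  rw [h.inv_eq_sq, mulAut_mul_apply]
  have := mul_mem (h.shift x) (h.shift (φ ρ x))
  rwa [mul_assoc, mul_inv_cancel_left] at this

theorem fpf (hV : ∀ v : V, v * v = 1) (h : IsPlane φ F t v ρ) {m : V}
    (hm : m ∈ Subgroup.closure {v, φ ρ v}) (hf : φ ρ m = m) : m = 1 := by
  rcases mem_pair hV hm with e | e | e | e
  · exact e
  · subst e; exact absurd hf h.move_v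
  · rw [e] at hf; exact absurd ((φ ρ).injective hf) h.move_v
  · rw [e] at hf; rw [map_mul, h.axis_img, ← mul_assoc, hV, one_mul, eq_comm, mul_eq_left] at hf
    exact absurd ((MulEquiv.map_eq_one_iff _).mp hf) h.trans.2.1

/-- Every element is a plane element times a fixed point. -/
theorem decompose (hV : ∀ v : V, v * v = 1) (h : IsPlane φ F t v ρ) (x : V) :
    ∃ u ∈ Subgroup.closure {v, φ ρ v}, φ ρ (x * u) = x * u := by
  have hm := h.shift x
  have hx : φ ρ x = x * (x⁻¹ * φ ρ x) := (mul_inv_cancel_left _ _).symm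
  set w := φ ρ v with hw
  have hρvw : φ ρ (v * w) = v := by
    rw [map_mul, hw, h.axis_img, ← mul_assoc, hV, one_mul]
  rcases mem_pair hV hm with e | e | e | e <;> rw [e] at hx
  · exact ⟨1, one_mem _, by rw [mul_one, hx, mul_one]⟩
  · refine ⟨w, w_mem ρ v, ?_⟩
    rw [map_mul, hx, hw, h.axis_img, mul_assoc, mul_left_comm v, hV, mul_one]
  · refine ⟨v * w, mul_mem (v_mem ρ v) (w_mem ρ v), ?_⟩
    rw [map_mul (φ ρ) x (v * w), hx, hρvw, mul_assoc, mul_comm v w]
  · refine ⟨v, v_mem ρ v, ?_⟩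
    rw [map_mul, hx, ← hw, mul_assoc, mul_assoc, hV, mul_one]

theorem t_fixes (hφ : Function.Injective φ) (hV : ∀ v : V, v * v = 1) (h : IsPlane φ F t v ρ) {c : V}
    (hc : φ ρ c = c) : φ t c = c := by
  rcases h.trans.2.2 c with e | e
  · exact e
  exfalso
  have hc' : φ ρ⁻¹ c = c := by rw [h.inv_eq_sq, mulAut_mul_apply, hc, hc]
  have h1 : φ (t * ρ) c = φ (ρ⁻¹ * t) c := by rw [← h.inverts, inv_mul_cancel_right]
  rw [mulAut_mul_apply, mulAut_mul_apply, hc, e, map_mul, hc', mul_right_inj] at h1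
  apply h.move_v
  conv_lhs => rw [h1]
  rw [← mulAut_mul_apply, mul_inv_cancel, map_one, MulAut.one_apply]

theorem ext_decompose (hφ : Function.Injective φ) (hV : ∀ v : V, v * v = 1) (h : IsPlane φ F t v ρ)
    {a b : H} (hP : ∀ m ∈ Subgroup.closure {v, φ ρ v}, φ a m = φ b m)
    (hC : ∀ c, φ ρ c = c → φ a c = φ b c) : a = b := by
  refine hφ (MulEquiv.ext fun x => ?_)
  obtain ⟨u, hu, hfix⟩ := h.decompose hV x
  have h1 := hC _ hfix
  rw [map_mul, map_mul, hP u hu] at h1
  exact mul_right_cancel h1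

/-- A transvection inverting `ρ` is conjugate to `t` under `⟨ρ⟩`. -/
theorem transvection_conj (hφ : Function.Injective φ) (hV : ∀ v : V, v * v = 1) (h : IsPlane φ F t v ρ)
    {s : H} {v' : V} (hs : IsTransvection φ s v') (hinv : s * ρ * s⁻¹ = ρ⁻¹) :
    ∃ k : ℕ, k < 3 ∧ s = ρ ^ k * t * (ρ ^ k)⁻¹ := by
  set P := Subgroup.closure ({v, φ ρ v} : Set V) with hP
  have hsv := hs.axis_fixed hφ hV
  have hsρ : ∀ x, φ s (φ ρ x) = φ ρ⁻¹ (φ s x) := fun x => by
    rw [← mulAut_mul_apply, ← mulAut_mul_apply, ← hinv, inv_mul_cancel_right]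
  -- `s` preserves the plane
  have hsP : ∀ m ∈ P, φ s m ∈ P := by
    intro m hm
    have key : ∀ y, φ s (y⁻¹ * φ ρ y) ∈ P := fun y => by
      rw [map_mul, map_inv, hsρ]
      exact h.shift_inv _
    have h1 : φ s v ∈ P := by
      have h1 := key (φ ρ v)
      rwa [h.axis_img, inv_mul_cancel_left] at h1
    have h2 : φ s (φ ρ v) ∈ P := by
      have h2 := key v
      rw [map_mul, map_inv] at h2
      have := mul_mem h1 h2
      rwa [mul_inv_cancel_left] at this
    have hle : P ≤ P.comap (φ s).toMonoidHom := by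
      rw [hP, Subgroup.closure_le]
      rintro y (rfl | rfl)
      · exact h1
      · exact h2
    exact hle hm
  obtain ⟨m₀, hm₀, hm₀'⟩ : ∃ m ∈ P, φ s m = m * v' ∧ φ s m ≠ m := by
    by_contra hall
    push Not at hall
    have hfix : ∀ m ∈ P, φ s m = m := by
      intro m hm
      rcases hs.2.2 m with e | e
      · exact e
      · exact hall m hm e
    have h1 := hsρ v
    rw [hfix v (v_mem ρ v), hfix _ (w_mem ρ v)] at h1
    have h2 : φ ρ (φ ρ v) = v := by rw [h1, ← mulAut_mul_apply, mul_inv_cancel, map_one, MulAut.one_apply]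
    rw [h.axis_img, mul_eq_right] at h2
    exact h.trans.2.1 ((MulEquiv.map_eq_one_iff _).mp h2)
  have hv'P : v' ∈ P := by
    have := mul_mem (inv_mem hm₀) (hsP m₀ hm₀)
    rwa [hm₀'.1, inv_mul_cancel_left] at this
  obtain ⟨k, hk, hk'⟩ : ∃ k < 3, φ (ρ ^ k) v = v' := by
    rcases mem_pair hV hv'P with e | e | e | e
    · exact absurd e hs.2.1
    · exact ⟨0, by omega, by simp [e]⟩
    · exact ⟨1, by omega, by rw [pow_one, e]⟩
    · exact ⟨2, by omega, by rw [pow_two, mulAut_mul_apply, h.axis_img, e, mul_comm]⟩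
  refine ⟨k, hk, ?_⟩
  set t' := ρ ^ k * t * (ρ ^ k)⁻¹ with ht'
  have ht'T : IsTransvection φ t' v' := hk' ▸ h.trans.conj (ρ ^ k)
  have ht'inv : t' * ρ * t'⁻¹ = ρ⁻¹ := by
    have hcomm : (ρ ^ k)⁻¹ * ρ * ρ ^ k = ρ := by
      rw [mul_assoc, ← pow_succ', pow_succ, inv_mul_cancel_left]
    calc t' * ρ * t'⁻¹ = ρ ^ k * (t * ((ρ ^ k)⁻¹ * ρ * ρ ^ k) * t⁻¹) * (ρ ^ k)⁻¹ := by rw [ht']; group
      _ = ρ ^ k * ρ⁻¹ * (ρ ^ k)⁻¹ := by rw [hcomm, h.inverts]
      _ = ρ⁻¹ := by group
  refine h.ext_decompose hφ hV (fun m hm => ?_) fun c hc => ?_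
  · have main : ∀ r : H, IsTransvection φ r v' → r * ρ * r⁻¹ = ρ⁻¹ → φ r v' = v' →
        ∀ m ∈ P, m ≠ 1 → m ≠ v' → φ r m = m * v' := by
      intro r hr hri hrv m hm hm1 hmv
      refine (hr.2.2 m).resolve_left fun e => ?_
      -- `r` would fix the plane
      have hfix : ∀ y ∈ P, φ r y = y := by
        intro y hy
        have hle : P ≤ fixedBy φ r := by
          rw [hP, ← pair_eq hV hm hv'P hm1 hs.2.1 hmv, Subgroup.closure_le]
          rintro z (rfl | rfl)
          · exact e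
          · exact hrv
        exact hle hy
      have h1 : φ r (φ ρ v) = φ ρ⁻¹ (φ r v) := by
        rw [← mulAut_mul_apply, ← mulAut_mul_apply, ← hri, inv_mul_cancel_right]
      rw [hfix v (v_mem ρ v), hfix _ (w_mem ρ v)] at h1
      have h2 : φ ρ (φ ρ v) = v := by rw [h1, ← mulAut_mul_apply, mul_inv_cancel, map_one, MulAut.one_apply]
      rw [h.axis_img, mul_eq_right] at h2
      exact h.trans.2.1 ((MulEquiv.map_eq_one_iff _).mp h2)
    by_cases hm1 : m = 1
    · simp [hm1]
    by_cases hmv : m = v'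
    · rw [hmv, hsv, ht'T.axis_fixed hφ hV]
    rw [main s hs hinv hsv m hm hm1 hmv, main t' ht'T ht'inv (ht'T.axis_fixed hφ hV) m hm hm1 hmv]
  · have hρc : φ (ρ ^ k) c = c := by
      have := apply_pow (φ := φ) (h := ρ) (x := c) (d := (1 : V)) (by rw [hc, mul_one]) (map_one _) k
      rwa [one_pow, mul_one] at this
    have hρc' : φ (ρ ^ k)⁻¹ c = c := by
      conv_lhs => rw [← hρc]
      rw [← mulAut_mul_apply, inv_mul_cancel, map_one, MulAut.one_apply]
    rw [ht', mulAut_mul_apply, mulAut_mul_apply, hρc', h.t_fixes hφ hV hc, hρc]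
    rcases hs.2.2 c with e | e
    · exact e
    exfalso
    have h1 := hsρ c
    rw [hc, e, map_mul, h.inv_eq_sq, mulAut_mul_apply, mulAut_mul_apply, hc, hc, mul_right_inj,
      ← mulAut_mul_apply, ← h.inv_eq_sq] at h1
    refine hs.2.1 (h.fpf hV hv'P ?_)
    conv_lhs => rw [h1]
    rw [← mulAut_mul_apply, mul_inv_cancel, map_one, MulAut.one_apply]

end IsPlane

/-- **The plane of a transvection.** -/
theorem exists_plane (hφ : Function.Injective φ) (hV : ∀ v : V, v * v = 1) {F : Subgroup H}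
    (hFn : F.Normal) (hF : Odd (Nat.card F)) (hFnil : Group.IsNilpotent F)
    (hFc : Subgroup.centralizer (F : Set H) ≤ F) {t : H} {v : V} (ht : IsTransvection φ t v) :
    ∃ ρ, IsPlane φ F t v ρ ∧ (∀ q ∈ F, ⁅t, q⁆ ∈ Subgroup.zpowers ρ) ∧
      F ≤ Subgroup.normalizer (Subgroup.zpowers ρ : Set H) := by
  classical
  haveI : Fact (Nat.Prime 3) := ⟨Nat.prime_three⟩
  have htv := ht.axis_fixed hφ hV
  have hodd := fun {x : H} (hx : x ∈ F) => odd_orderOf hF hx
  have hgenF : ∀ q ∈ F, ⁅t, q⁆ ∈ F := fun q hq => by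
    rw [commutatorElement_def]; exact mul_mem (hFn.conj_mem q hq t) (inv_mem hq)
  have hgen : ∀ q ∈ F, ⁅t, q⁆ ≠ 1 → IsPlane φ F t v ⁅t, q⁆ := by
    intro q hq hne
    set s := q * t * q⁻¹ with hs
    have hsT : IsTransvection φ s (φ q v) := ht.conj q
    have hts : ⁅t, q⁆ = t * s := by rw [commutatorElement_def, ht.inv_eq, hs]; group
    have hρF := hgenF q hq
    rcases product_cases hφ hV ht hsT with h4 | ⟨h3, hρv, hρw, htw, hne', hsh⟩
    · exfalso
      apply hne
      rw [hts] at hρF ⊢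
      have hd : orderOf (t * s) ∣ 4 := orderOf_dvd_of_pow_eq_one h4
      have hc : Nat.Coprime (orderOf (t * s)) 4 :=
        Nat.Coprime.pow_right 2 (hodd hρF).coprime_two_right
      exact orderOf_eq_one_iff.mp (Nat.eq_one_of_dvd_coprimes hc dvd_rfl hd)
    rw [hts] at hρF hne ⊢
    refine ⟨ht, hρF, orderOf_eq_prime h3 hne, ?_, ?_, ?_, ?_, ?_⟩
    · rw [mul_inv_rev, ht.inv_eq, hsT.inv_eq]
      have : t * t = 1 := by rw [← pow_two, ← ht.1, pow_orderOf_eq_one]
      calc t * (t * s) * t = t * t * s * t := by group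
        _ = s * t := by rw [this, one_mul]
    · rw [hρv]; exact hne'
    · rw [hρv, hρw]
    · rw [hρv]; exact htw
    · rw [hρv]; exact hsh
  set gens : Set H := {x | ∃ q ∈ F, x = ⁅t, q⁆}
  set R := Subgroup.closure gens with hR
  have hRF : R ≤ F := (Subgroup.closure_le _).mpr (by rintro _ ⟨q, hq, rfl⟩; exact hgenF q hq)
  -- some generator is nontrivial
  obtain ⟨q₀, hq₀, hq₀'⟩ : ∃ q ∈ F, ⁅t, q⁆ ≠ 1 := by
    by_contra hall
    push Not at hall
    have htF : t ∈ F := hFc (Subgroup.mem_centralizer_iff.mpr fun q hq =>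
      (commutatorElement_eq_one_iff_mul_comm.mp (hall q hq)).symm)
    have := hodd htF
    rw [ht.1] at this
    exact absurd this (by decide)
  -- `R` is a 3-group
  have hRp : IsPGroup 3 R := by
    haveI := hFnil
    obtain ⟨S⟩ : Nonempty (Sylow 3 F) := inferInstance
    have h4 : ∀ (p : ℕ) (_ : Fact p.Prime) (P : Sylow p F), (P : Subgroup F).Normal :=
      ((Group.isNilpotent_of_finite_tfae (G := F)).out 0 3).mp hFnil
    haveI : (S : Subgroup F).Normal := h4 3 inferInstance S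
    have hle : R ≤ (S : Subgroup F).map F.subtype := by
      rw [hR, Subgroup.closure_le]
      rintro _ ⟨q, hq, rfl⟩
      by_cases hne : ⁅t, q⁆ = 1
      · rw [hne]; exact one_mem _
      have hp := hgen q hq hne
      have hz : IsPGroup 3 (Subgroup.zpowers (⟨⁅t, q⁆, hgenF q hq⟩ : F)) := by
        refine IsPGroup.of_card (n := 1) ?_
        rw [Nat.card_zpowers, Subgroup.orderOf_mk, hp.order, pow_one]
      obtain ⟨S', hS'⟩ := hz.exists_le_sylow
      haveI := Sylow.unique_of_normal S (by infer_instance)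
      exact ⟨_, Subsingleton.elim S' S ▸ hS' (Subgroup.mem_zpowers _), rfl⟩
    exact (S.isPGroup'.map _).to_le hle
  have htR : ∀ r ∈ R, t * r * t⁻¹ ∈ R := by
    intro r hr
    induction hr using Subgroup.closure_induction with
    | mem x hx =>
      obtain ⟨q, hq, rfl⟩ := hx
      by_cases hne : ⁅t, q⁆ = 1
      · rw [hne]; simp
      rw [(hgen q hq hne).inverts]
      exact inv_mem (Subgroup.subset_closure ⟨q, hq, rfl⟩)
    | one => simp
    | mul x y _ _ hx hy =>
      have : t * (x * y) * t⁻¹ = (t * x * t⁻¹) * (t * y * t⁻¹) := by group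
      rw [this]; exact mul_mem hx hy
    | inv x _ hx =>
      have : t * x⁻¹ * t⁻¹ = (t * x * t⁻¹)⁻¹ := by group
      rw [this]; exact inv_mem hx
  have hR1 : Nontrivial R :=
    ⟨⟨⟨_, Subgroup.subset_closure ⟨q₀, hq₀, rfl⟩⟩, 1, fun h => hq₀' (congrArg Subtype.val h)⟩⟩
  haveI := hR1
  obtain ⟨⟨⟨z, hzR⟩, hzc⟩, hz1⟩ :=
    @exists_ne (Subgroup.center R) hRp.center_nontrivial 1
  have hzc' : ∀ r ∈ R, r * z = z * r := fun r hr =>
    congrArg Subtype.val (Subgroup.mem_center_iff.mp hzc ⟨r, hr⟩)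
  have hz1' : z ≠ 1 := fun h => hz1 (Subtype.ext (Subtype.ext h))
  -- `t` does not centralise `z`
  have htz : ⁅t, z⁆ ≠ 1 := by
    intro hcomm
    rw [commutatorElement_eq_one_iff_mul_comm] at hcomm
    apply hz1'
    apply hφ
    rw [map_one]
    refine MulEquiv.ext fun x => ?_
    rw [MulAut.one_apply]
    have hzv : φ z v = v := by
      obtain ⟨y, hy⟩ : ∃ y, φ t y ≠ y := by
        by_contra hall
        push Not at hall
        have h1 : t = 1 := hφ (by rw [map_one]; exact MulEquiv.ext hall)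
        have := ht.1
        rw [h1, orderOf_one] at this
        omega
      have e1 : φ t (φ z y) = φ z y * φ z v := by
        rw [← mulAut_mul_apply, hcomm, mulAut_mul_apply, (ht.2.2 y).resolve_left hy, map_mul]
      rcases ht.2.2 (φ z y) with e | e
      · rw [e, eq_comm, mul_eq_left, MulEquiv.map_eq_one_iff] at e1
        exact absurd e1 ht.2.1
      · rw [e, mul_right_inj] at e1
        exact e1.symm
    set d := x⁻¹ * φ z x with hd
    have hfixd : ∀ r ∈ R, φ r d = d := by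
      intro r hr
      induction hr using Subgroup.closure_induction with
      | mem r hr =>
        obtain ⟨q, hq, rfl⟩ := hr
        by_cases hne : ⁅t, q⁆ = 1
        · rw [hne, map_one, MulAut.one_apply]
        have hp := hgen q hq hne
        set r := ⁅t, q⁆
        have hrz : r * z = z * r := hzc' r (Subgroup.subset_closure ⟨q, hq, rfl⟩)
        have hzm : φ z (x⁻¹ * φ r x) = x⁻¹ * φ r x := by
          have hle : Subgroup.closure {v, φ r v} ≤ fixedBy φ z := by
            rw [Subgroup.closure_le]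
            rintro y (rfl | rfl)
            · exact hzv
            · show φ z (φ r v) = φ r v
              rw [← mulAut_mul_apply, ← hrz, mulAut_mul_apply, hzv]
          exact hle (hp.shift x)
        have hm : φ r x = x * (x⁻¹ * φ r x) := (mul_inv_cancel_left _ _).symm
        rw [hd, map_mul, map_inv, ← mulAut_mul_apply, hrz, mulAut_mul_apply, hm, map_mul, hzm, mul_inv]
        rw [mul_comm (φ z x)]
        rw [mul_assoc, inv_mul_cancel_left]
      | one => rw [map_one, MulAut.one_apply]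
      | mul a b _ _ ha hb => rw [mulAut_mul_apply, hb, ha]
      | inv a _ ha =>
        conv_lhs => rw [← ha]
        rw [← mulAut_mul_apply, inv_mul_cancel, map_one, MulAut.one_apply]
    have hx : φ z x = x * d := by rw [hd, mul_inv_cancel_left]
    rw [hx, eq_one_of_shift hV (hodd (hRF hzR)) hx (hfixd z hzR), mul_one]
  set z₁ := ⁅t, z⁆ with hz₁
  have hP := hgen z (hRF hzR) htz
  have hz₁R : z₁ ∈ R := Subgroup.subset_closure ⟨z, hRF hzR, rfl⟩
  have htt : t⁻¹ = t := ht.inv_eq
  have hz₁c : ∀ r ∈ R, r * z₁ = z₁ * r := by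
    intro r hr
    have h1 := hzc' (t⁻¹ * r * t) (by
      have := htR r hr
      rw [htt] at this ⊢; exact this)
    have h2 : r * (t * z * t⁻¹) = (t * z * t⁻¹) * r := by
      calc r * (t * z * t⁻¹) = t * ((t⁻¹ * r * t) * z) * t⁻¹ := by group
        _ = t * (z * (t⁻¹ * r * t)) * t⁻¹ := by rw [h1]
        _ = (t * z * t⁻¹) * r := by group
    rw [hz₁, commutatorElement_def]
    exact ((show Commute r (t * z * t⁻¹) from h2).mul_right (show Commute r z from hzc' r hr).inv_right).eq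
  -- every generator is a power of `z₁`
  have hcyc : ∀ q ∈ F, ⁅t, q⁆ ∈ Subgroup.zpowers z₁ := by
    intro q hq
    by_cases hne : ⁅t, q⁆ = 1
    · rw [hne]; exact one_mem _
    have hp := hgen q hq hne
    set r := ⁅t, q⁆
    set P := Subgroup.closure ({v, φ z₁ v} : Set V) with hPdef
    have hrz : r * z₁ = z₁ * r := hz₁c r (Subgroup.subset_closure ⟨q, hq, rfl⟩)
    have key : ∀ y, φ r (y⁻¹ * φ z₁ y) ∈ P := fun y => by
      rw [map_mul, map_inv, ← mulAut_mul_apply, hrz, mulAut_mul_apply]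
      exact hP.shift _
    have hrv : φ r v ∈ P := by
      have h1 := key (φ z₁ v)
      rwa [hP.axis_img, inv_mul_cancel_left] at h1
    obtain ⟨k, hk⟩ : ∃ k : ℕ, φ (z₁ ^ k) v = φ r v ∧ φ (z₁ ^ k) (φ r v) = φ r v * v := by
      rcases mem_pair hV hrv with e | e | e | e
      · exact absurd ((MulEquiv.map_eq_one_iff _).mp e) ht.2.1
      · exact absurd e hp.move_v
      · exact ⟨1, by rw [pow_one, e], by rw [pow_one, e, hP.axis_img]⟩
      · refine ⟨2, by rw [pow_two, mulAut_mul_apply, hP.axis_img, e, mul_comm], ?_⟩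
        rw [pow_two, mulAut_mul_apply, e, map_mul (φ z₁), hP.axis_img, ← mul_assoc, hV, one_mul,
          mul_right_comm, hV, one_mul]
    have hrP : Subgroup.closure ({v, φ r v} : Set V) ≤ P := by
      rw [Subgroup.closure_le]
      rintro y (rfl | rfl)
      · exact IsPlane.v_mem _ _
      · exact hrv
    have hzsh : ∀ x, x⁻¹ * φ (z₁ ^ k) x ∈ P := by
      intro x
      clear hk
      induction k with
      | zero => simp
      | succ j ih =>
        rw [pow_succ', mulAut_mul_apply]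
        have := mul_mem ih (hP.shift (φ (z₁ ^ j) x))
        rwa [mul_assoc, mul_inv_cancel_left] at this
    have heq : r = z₁ ^ k := eq_of_agree hφ hV hF hp.memF (pow_mem hP.memF k)
      (fun x => hrP (hp.shift x)) hzsh fun m hm => by
        have hsub : P ≤ Subgroup.closure {v, φ r v} := by
          rw [hPdef, Subgroup.closure_le]
          rintro y (rfl | rfl)
          · exact IsPlane.v_mem _ _
          · rcases mem_pair hV hrv with e | e | e | e
            · exact absurd ((MulEquiv.map_eq_one_iff _).mp e) ht.2.1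
            · exact absurd e hp.move_v
            · rw [SetLike.mem_coe, ← e]; exact IsPlane.w_mem r v
            · have h2 : φ z₁ v = v * φ r v := by rw [e, ← mul_assoc, hV, one_mul]
              rw [SetLike.mem_coe, h2]; exact mul_mem (IsPlane.v_mem r v) (IsPlane.w_mem r v)
        rcases mem_pair hV (hsub hm) with e | e | e | e <;> rw [e]
        · simp
        · exact hk.1.symm
        · rw [hp.axis_img, hk.2]
        · rw [map_mul, map_mul, hp.axis_img, hk.2, hk.1]
    rw [heq]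
    exact pow_mem (Subgroup.mem_zpowers _) k
  have hnorm : ∀ p ∈ F, ∀ r ∈ Subgroup.zpowers z₁, p * r * p⁻¹ ∈ Subgroup.zpowers z₁ := by
    intro p hp r hr
    obtain ⟨k, rfl⟩ := Subgroup.mem_zpowers_iff.mp hr
    rw [← conj_zpow]
    refine zpow_mem ?_ k
    have h1 : p * z₁ * p⁻¹ = ⁅t, p⁆⁻¹ * ⁅t, p * z⁆ := by
      rw [hz₁]; simp only [commutatorElement_def]; group
    rw [h1]
    exact mul_mem (inv_mem (hcyc p hp)) (hcyc _ (mul_mem hp (hRF hzR)))
  refine ⟨z₁, hP, hcyc, fun p hp => Subgroup.mem_normalizer_iff.mpr fun r => ⟨hnorm p hp r, fun hr => ?_⟩⟩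
  have := hnorm p⁻¹ (inv_mem hp) _ hr
  simpa [mul_assoc] using this

/-- **Distinct planes are independent.** -/
theorem IsPlane.independent (hφ : Function.Injective φ) (hV : ∀ v : V, v * v = 1) {F : Subgroup H}
    (hF : Odd (Nat.card F)) {t₁ t₂ ρ₁ ρ₂ : H} {v₁ v₂ : V} (h₁ : IsPlane φ F t₁ v₁ ρ₁)
    (h₂ : IsPlane φ F t₂ v₂ ρ₂) (hn₁ : F ≤ Subgroup.normalizer (Subgroup.zpowers ρ₁ : Set H))
    (hn₂ : F ≤ Subgroup.normalizer (Subgroup.zpowers ρ₂ : Set H))
    (hne : Subgroup.zpowers ρ₁ ≠ Subgroup.zpowers ρ₂) :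
    ρ₁ * ρ₂ = ρ₂ * ρ₁ ∧ t₁ * ρ₂ = ρ₂ * t₁ ∧ t₁ * t₂ = t₂ * t₁ ∧
      (∀ m ∈ Subgroup.closure {v₂, φ ρ₂ v₂}, φ ρ₁ m = m) := by
  have hnotmem : ∀ {a b ta : H} {va : V}, IsPlane φ F ta va a → orderOf b = 3 →
      Subgroup.zpowers a ≠ Subgroup.zpowers b → Subgroup.zpowers a ⊓ Subgroup.zpowers b = ⊥ := by
    intro a b ta va ha hb hab
    rw [← Subgroup.card_eq_one]
    have ca : Nat.card (Subgroup.zpowers a) = 3 := by rw [Nat.card_zpowers, ha.order]
    have cb : Nat.card (Subgroup.zpowers b) = 3 := by rw [Nat.card_zpowers, hb]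
    have hd := Subgroup.card_dvd_of_le (inf_le_left : Subgroup.zpowers a ⊓ Subgroup.zpowers b ≤ _)
    rw [ca] at hd
    rcases (Nat.dvd_prime Nat.prime_three).mp hd with h | h
    · exact h
    · exfalso
      apply hab
      have e1 : Subgroup.zpowers a ⊓ Subgroup.zpowers b = Subgroup.zpowers a :=
        Subgroup.eq_of_le_of_card_ge inf_le_left (by omega)
      have e2 : Subgroup.zpowers a ⊓ Subgroup.zpowers b = Subgroup.zpowers b :=
        Subgroup.eq_of_le_of_card_ge inf_le_right (by omega)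
      rw [← e1, e2]
  have hcomm : ρ₁ * ρ₂ = ρ₂ * ρ₁ := by
    rw [← commutatorElement_eq_one_iff_mul_comm, ← Subgroup.mem_bot, ← hnotmem h₁ h₂.order hne]
    refine ⟨?_, ?_⟩
    · show ρ₁ * ρ₂ * ρ₁⁻¹ * ρ₂⁻¹ ∈ Subgroup.zpowers ρ₁
      rw [mul_assoc ρ₁ ρ₂, mul_assoc ρ₁ (ρ₂ * ρ₁⁻¹)]
      exact mul_mem (Subgroup.mem_zpowers _)
        ((Subgroup.mem_normalizer_iff.mp (hn₁ h₂.memF) _).mp (inv_mem (Subgroup.mem_zpowers _)))
    · show ρ₁ * ρ₂ * ρ₁⁻¹ * ρ₂⁻¹ ∈ Subgroup.zpowers ρ₂
      exact mul_mem ((Subgroup.mem_normalizer_iff.mp (hn₂ h₁.memF) _).mp (Subgroup.mem_zpowers _))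
        (inv_mem (Subgroup.mem_zpowers _))
  -- a plane is fixed by the other element
  have hfix : ∀ {a b ta tb : H} {va vb : V}, IsPlane φ F ta va a → IsPlane φ F tb vb b →
      a * b = b * a → Subgroup.zpowers a ≠ Subgroup.zpowers b →
      ∀ m ∈ Subgroup.closure {vb, φ b vb}, φ a m = m := by
    intro a b ta tb va vb ha hb hab hne
    set P := Subgroup.closure ({va, φ a va} : Set V) with hPd
    set Q := Subgroup.closure ({vb, φ b vb} : Set V) with hQd
    have hQinv : ∀ m ∈ Q, φ a m ∈ Q := by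
      intro m hm
      obtain ⟨u, hu, hfix⟩ : ∃ y, y ∈ Q ∧ m = y⁻¹ * φ b y := by
        rcases mem_pair hV hm with e | e | e | e <;> rw [e]
        · exact ⟨1, one_mem _, by simp⟩
        · exact ⟨φ b vb, IsPlane.w_mem b vb, by rw [hb.axis_img, inv_mul_cancel_left]⟩
        · exact ⟨vb * φ b vb, mul_mem (IsPlane.v_mem b vb) (IsPlane.w_mem b vb), by
            rw [map_mul, hb.axis_img, inv_eq_self hV, mul_comm vb (φ b vb)]
            rw [← mul_assoc (φ b vb) (φ b vb), hV, one_mul, mul_mul_self hV]⟩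
        · exact ⟨vb, IsPlane.v_mem b vb, by rw [inv_eq_self hV]⟩
      rw [hfix, map_mul, map_inv, ← mulAut_mul_apply, hab, mulAut_mul_apply]
      exact hb.shift _
    intro m hm
    by_contra hmove
    apply hne
    set d := m⁻¹ * φ a m with hd
    have hd1 : d ≠ 1 := fun h => hmove (by rw [hd, inv_mul_eq_one] at h; exact h.symm)
    have hdP : d ∈ P := ha.shift m
    have hdQ : d ∈ Q := mul_mem (inv_mem hm) (hQinv m hm)
    have had : φ a d ≠ d := fun h => hd1 (ha.fpf hV hdP h)
    have hadP : φ a d ∈ P := ha.apply_mem hdP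
    have hadQ : φ a d ∈ Q := hQinv d hdQ
    have had1 : φ a d ≠ 1 := fun h => hd1 ((MulEquiv.map_eq_one_iff _).mp h)
    have hPQ : P = Q := by
      rw [hPd, hQd, ← pair_eq hV hdP hadP hd1 had1 (Ne.symm had), pair_eq hV hdQ hadQ hd1 had1 (Ne.symm had)]
    have hQP : Q ≤ P := hPQ.ge
    have hvaQ : va ∈ Q := hPQ ▸ IsPlane.v_mem a va
    -- `b` agrees with a power of `a`
    obtain ⟨k, hk1, hk2⟩ : ∃ k : ℕ, φ (a ^ k) va = φ b va ∧ φ (a ^ k) (φ a va) = φ b (φ a va) := by
      have hbP : φ b va ∈ P := hQP (hb.apply_mem hvaQ)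
      have hbw : φ b (φ a va) = φ a (φ b va) := by rw [← mulAut_mul_apply, ← hab, mulAut_mul_apply]
      rcases mem_pair hV hbP with e | e | e | e
      · exact absurd ((MulEquiv.map_eq_one_iff _).mp e) ha.trans.2.1
      · exact absurd (hb.fpf hV hvaQ e) ha.trans.2.1
      · exact ⟨1, by rw [pow_one, e], by rw [pow_one, hbw, e]⟩
      · refine ⟨2, by rw [pow_two, mulAut_mul_apply, ha.axis_img, e, mul_comm], ?_⟩
        rw [pow_two, mulAut_mul_apply, hbw, e]
        congr 1
        rw [ha.axis_img, mul_comm]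
    have hsh : ∀ x, x⁻¹ * φ (a ^ k) x ∈ P := by
      intro x
      clear hk1 hk2
      induction k with
      | zero => simp
      | succ j ih =>
        rw [pow_succ', mulAut_mul_apply]
        have := mul_mem ih (ha.shift (φ (a ^ j) x))
        rwa [mul_assoc, mul_inv_cancel_left] at this
    have heq : b = a ^ k := eq_of_agree hφ hV hF hb.memF (pow_mem ha.memF k)
      (fun x => hQP (hb.shift x)) hsh fun p hp => by
        rcases mem_pair hV hp with e | e | e | e <;> rw [e]
        · simp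
        · exact hk1.symm
        · exact hk2.symm
        · rw [map_mul, map_mul, hk1, hk2]
    refine (Subgroup.eq_of_le_of_card_ge ?_ ?_).symm
    · rw [Subgroup.zpowers_le, heq]; exact pow_mem (Subgroup.mem_zpowers _) k
    · rw [Nat.card_zpowers, Nat.card_zpowers, ha.order, hb.order]
  have f12 := hfix h₁ h₂ hcomm hne
  have f21 := hfix h₂ h₁ hcomm.symm (Ne.symm hne)
  have hC : ∀ c, φ ρ₁ c = c → φ ρ₁ (φ ρ₂ c) = φ ρ₂ c := fun c hc => by
    rw [← mulAut_mul_apply, hcomm, mulAut_mul_apply, hc]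
  have htρ : t₁ * ρ₂ = ρ₂ * t₁ := by
    refine h₁.ext_decompose hφ hV (fun m hm => ?_) fun c hc => ?_
    · have htm : φ t₁ m ∈ Subgroup.closure {v₁, φ ρ₁ v₁} := by
        rcases h₁.trans.2.2 m with e | e <;> rw [e]
        · exact hm
        · exact mul_mem hm (IsPlane.v_mem ρ₁ v₁)
      rw [mulAut_mul_apply, mulAut_mul_apply, f21 m hm, f21 _ htm]
    · rw [mulAut_mul_apply, mulAut_mul_apply, h₁.t_fixes hφ hV hc, h₁.t_fixes hφ hV (hC c hc)]
  refine ⟨hcomm, htρ, ?_, f12⟩
  have e1 : φ t₁ v₂ = v₂ := h₁.t_fixes hφ hV (f12 v₂ (IsPlane.v_mem ρ₂ v₂))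
  have e2 : φ t₂ v₁ = v₁ := h₂.t_fixes hφ hV (f21 v₁ (IsPlane.v_mem ρ₁ v₁))
  refine hφ (MulEquiv.ext fun x => ?_)
  rw [mulAut_mul_apply, mulAut_mul_apply]
  rcases h₁.trans.2.2 x with a | a <;> rcases h₂.trans.2.2 x with b | b <;>
    simp only [a, b, map_mul, e1, e2, mul_right_comm]

end CfsgLib.JComp.FF
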