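import Cfsg.Agent.Lib.JComp.Zero

/-!
Maximal straddling 2-subgroups of a 2-local subgroup `M ≥ N(J(S))`.
-/

set_option autoImplicit false
set_option maxHeartbeats 800000
open Cfsg CfsgLib.PLocal
open scoped commutatorElement

attribute [local instance] CfsgLib.CharP.pCore_normal'

namespace CfsgLib.JComp

variable {G : Type*} [Group G] [Finite G]

theorem thompsonOf_ne_bot {X : Subgroup G} (hX : IsPGroup 2 X) (h : X ≠ ⊥) :
    thompsonSubgroupOf 2 X ≠ ⊥ := by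
  haveI : Fact (Nat.Prime 2) := ⟨Nat.prime_two⟩
  rw [thompsonSubgroupOf, Ne, Subgroup.map_eq_bot_iff_of_injective _ X.subtype_injective]
  refine CfsgLib.PLocal.thompsonSubgroup_ne_bot ?_
  obtain ⟨n, hn⟩ := IsPGroup.iff_card.mp hX
  rcases n with _ | n
  · exact absurd (Subgroup.card_eq_one.mp (by simpa using hn)) h
  · exact hn ▸ dvd_pow_self 2 (Nat.succ_ne_zero n)

/-- A normal 2-subgroup lies in every Sylow subgroup. -/
theorem pCoreOf_le_sylowTwoIn {S L : Subgroup G} (hS : IsSylowTwoIn S L) : pCoreOf 2 L ≤ S := by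
  haveI : Fact (Nat.Prime 2) := ⟨Nat.prime_two⟩
  set U := pCoreOf 2 L ⊔ S with hU
  have hn : S ≤ Subgroup.normalizer (pCoreOf 2 L : Set G) :=
    hS.1.trans (Subgroup.le_normalizer.trans (normalizer_le_normalizer_pCoreOf L))
  have hUp : IsPGroup 2 U := IsPGroup.to_sup_of_normal_left' (pCoreOf_isPGroup L) hS.2.1 hn
  have hUL : U ≤ L := sup_le (pCoreOf_le L) hS.1
  have h1 : S.relIndex U ∣ S.relIndex L :=
    Dvd.intro _ (Subgroup.relIndex_mul_relIndex S U L le_sup_right hUL)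
  have h2 : Odd (S.relIndex U) := hS.2.2.of_dvd_nat h1
  obtain ⟨k, hk⟩ := IsPGroup.iff_card.mp hUp
  have h3 : S.relIndex U ∣ 2 ^ k := by
    rw [← hk]; exact Dvd.intro_left (Nat.card S) (by
      rw [← Subgroup.relIndex_bot_left, ← Subgroup.relIndex_bot_left]
      exact Subgroup.relIndex_mul_relIndex _ _ _ bot_le le_sup_right)
  have h4 : S.relIndex U = 1 :=
    Nat.eq_one_of_dvd_coprimes (Nat.Coprime.pow_right k h2.coprime_two_right) dvd_rfl h3
  exact le_sup_left.trans (Subgroup.relIndex_eq_one.mp h4)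

/-- The normaliser grows in a 2-group. -/
theorem exists_normalizer_gt {X Y : Subgroup G} (hY : IsPGroup 2 Y) (hXY : X ≤ Y) (hne : X ≠ Y) :
    ∃ y ∈ Y, y ∈ Subgroup.normalizer (X : Set G) ∧ y ∉ X := by
  haveI : Fact (Nat.Prime 2) := ⟨Nat.prime_two⟩
  haveI : Group.IsNilpotent ↥Y := hY.isNilpotent
  have hlt : X.subgroupOf Y < ⊤ := by
    refine lt_top_iff_ne_top.mpr fun h => hne (le_antisymm hXY ?_)
    intro y hy
    exact Subgroup.mem_subgroupOf.mp (h ▸ Subgroup.mem_top (⟨y, hy⟩ : ↥Y))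
  obtain ⟨y, hy, hy'⟩ := SetLike.exists_of_lt (Group.normalizerCondition_of_isNilpotent _ hlt)
  refine ⟨y, y.2, ?_, fun h => hy' (Subgroup.mem_subgroupOf.mpr h)⟩
  rw [Subgroup.mem_normalizer_iff] at hy ⊢
  intro x
  constructor
  · intro hx
    have := (hy ⟨x, hXY hx⟩).mp hx
    exact this
  · intro hx
    have hxY : x ∈ Y := by
      have := Y.mul_mem (Y.mul_mem (Y.inv_mem y.2) (hXY hx)) y.2
      simpa [mul_assoc] using this
    exact (hy ⟨x, hxY⟩).mpr hx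

/-- The order comparison: a straddling subgroup containing `J(T)` has the same Thompson subgroup. -/
theorem straddling_thompson_eq {M T X : Subgroup G} (hT : T ∈ maxStraddlingTwoSubgroups M)
    (hX : X ∈ straddlingTwoSubgroups M) (hJX : thompsonSubgroupOf 2 T ≤ X) :
    thompsonSubgroupOf 2 X = thompsonSubgroupOf 2 T ∧ Nat.card X ≤ Nat.card T := by
  obtain ⟨hle, hrest⟩ := hT.2 X hX
  obtain ⟨A, hA⟩ := exists_maxEAIn (G := G) 2 T
  obtain ⟨B, hB⟩ := exists_maxEAIn (G := G) 2 X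
  have hJin : ∀ C ∈ maxEAIn 2 T, C ≤ thompsonSubgroupOf 2 T := fun C hC => by
    rw [thompsonSubgroupOf_eq]; exact le_sSup hC
  have hAB : Nat.card A ≤ Nat.card B := hB.2.2 A ((hJin A hA).trans hJX) hA.2.1
  rw [maxElemAbelianOrder_eq hA, maxElemAbelianOrder_eq hB] at hle hrest
  obtain ⟨hJcard, hcard⟩ := hrest (le_antisymm hle hAB)
  have hsub : thompsonSubgroupOf 2 T ≤ thompsonSubgroupOf 2 X := by
    rw [thompsonSubgroupOf_eq]
    refine sSup_le fun C hC => ?_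
    rw [thompsonSubgroupOf_eq]
    refine le_sSup ⟨(hJin C hC).trans hJX, hC.2.1, fun D hD hDe => ?_⟩
    exact ((hB.2.2 D hD hDe).trans hle).trans (hC.2.2 A hA.1 hA.2.1)
  have heq := eq_of_le_card_le hsub hJcard
  exact ⟨heq.symm, hcard (by rw [heq])⟩

section

variable {S : Sylow 2 G} {M T : Subgroup G}

theorem normalizer_thompson_le (hM : (S : Subgroup G) ≤ M)
    (hMJ : Subgroup.normalizer (thompsonSubgroupOf 2 (S : Subgroup G) : Set G) ≤ M)
    (hT : T ∈ maxStraddlingTwoSubgroups M) :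
    Subgroup.normalizer (thompsonSubgroupOf 2 T : Set G) ≤ M := by
  haveI : Fact (Nat.Prime 2) := ⟨Nat.prime_two⟩
  by_contra hNM
  obtain ⟨⟨hT2, hT1, hTM, -⟩, -⟩ := hT.1, hT.2
  set J := thompsonSubgroupOf 2 T with hJ
  set N := Subgroup.normalizer (J : Set G) with hN
  have hTN : T ≤ N := Subgroup.le_normalizer.trans (normalizer_le_normalizer_thompsonSubgroupOf T)
  have hN2 : IsTwoLocal N :=
    ⟨J, hT2.to_le (thompsonSubgroupOf_le 2 T), thompsonOf_ne_bot hT2 hT1, rfl⟩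
  obtain ⟨S', hS', hTS'⟩ := exists_sylowTwoIn hT2 hTM
  -- `T` is a Sylow subgroup of `M`
  have heq : T = S' := by
    by_contra hne
    obtain ⟨y, hyS, hyT, hy⟩ := exists_normalizer_gt hS'.2.1 hTS' hne
    set X := T ⊔ Subgroup.zpowers y with hX
    have hXS : X ≤ S' := sup_le hTS' (Subgroup.zpowers_le.mpr hyS)
    have hXN : X ≤ N :=
      sup_le hTN (Subgroup.zpowers_le.mpr (normalizer_le_normalizer_thompsonSubgroupOf T hyT))
    have hXs : X ∈ straddlingTwoSubgroups M :=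
      ⟨hS'.2.1.to_le hXS, fun h => hT1 (eq_bot_iff.mpr (h ▸ le_sup_left)), hXS.trans hS'.1, N, hN2, hXN, hNM⟩
    obtain ⟨-, hcard⟩ := straddling_thompson_eq hT hXs ((thompsonSubgroupOf_le 2 T).trans le_sup_left)
    have := eq_of_le_card_le (le_sup_left : T ≤ X) hcard
    exact hy (this ▸ Subgroup.mem_sup_right (Subgroup.mem_zpowers y))
  subst heq
  -- hence conjugate to `S` inside `M`
  have hSy : ∀ P : Subgroup G, IsSylowTwoIn P M → ∃ Q : Sylow 2 ↥M, (Q : Subgroup ↥M) = P.subgroupOf M := by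
    intro P hP
    refine ⟨(hP.2.1.of_equiv (Subgroup.subgroupOfEquivOfLe hP.1).symm).toSylow ?_, rfl⟩
    exact Nat.two_dvd_ne_zero.mpr (Nat.odd_iff.mp hP.2.2)
  have hSM : IsSylowTwoIn (S : Subgroup G) M := by
    refine ⟨hM, S.2, ?_⟩
    rw [Nat.odd_iff, ← Nat.two_dvd_ne_zero]
    exact fun h => S.not_dvd_index (h.trans (Subgroup.relIndex_dvd_index_of_le hM))
  obtain ⟨Q₁, hQ₁⟩ := hSy _ hSM
  obtain ⟨Q₂, hQ₂⟩ := hSy _ hS'
  obtain ⟨m, hm⟩ := MulAction.exists_smul_eq ↥M Q₁ Q₂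
  have hconj : (S : Subgroup G).map (MulAut.conj (m : G)).toMonoidHom = T := by
    have hm2 : ((m • Q₁ : Sylow 2 ↥M) : Subgroup ↥M) =
        (Q₁ : Subgroup ↥M).map (MulAut.conj m).toMonoidHom := rfl
    rw [hm, hQ₁, hQ₂] at hm2
    conv_rhs => rw [← Subgroup.map_subgroupOf_eq_of_le hTM, hm2, Subgroup.map_map]
    rw [show (M.subtype.comp (MulAut.conj m).toMonoidHom) = (MulAut.conj (m : G)).toMonoidHom.comp M.subtype from
      MonoidHom.ext fun z => rfl, ← Subgroup.map_map, Subgroup.map_subgroupOf_eq_of_le hM]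
  apply hNM
  intro x hx
  have hJeq : J = (thompsonSubgroupOf 2 (S : Subgroup G)).map (MulAut.conj (m : G)).toMonoidHom := by
    rw [hJ, ← hconj, thompsonSubgroupOf_conj]
  have hx' : (m : G)⁻¹ * x * m ∈ M := by
    refine hMJ (mem_normalizer_of_map_conj_eq ?_)
    have h1 : J.map (MulAut.conj x).toMonoidHom = J := map_conj_eq_of_mem_normalizer hx
    have h2 : ∀ (a b : G) (K : Subgroup G), (K.map (MulAut.conj b).toMonoidHom).map (MulAut.conj a).toMonoidHom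
        = K.map (MulAut.conj (a * b)).toMonoidHom := fun a b K => by
      rw [Subgroup.map_map]; congr 1; ext z; simp [mul_assoc]
    set JS := thompsonSubgroupOf 2 (S : Subgroup G)
    have h3 : JS = J.map (MulAut.conj (m : G)⁻¹).toMonoidHom := by
      rw [hJeq, h2, inv_mul_cancel]
      ext z; simp
    rw [h3, h2, show (m : G)⁻¹ * x * m * (m : G)⁻¹ = (m : G)⁻¹ * x by group, ← h2, h1]
  have := M.mul_mem (M.mul_mem m.2 hx') (M.inv_mem m.2)
  simpa [mul_assoc] using this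

variable (hL : IsCharacteristicTwoType G)
  (hN : ∀ N : Subgroup G, IsTwoLocal N → Group.IsSolvable ↥N)
  (hZ : ∀ S : Sylow 2 G, Subgroup.centralizer (omegaCenterOf (S : Subgroup G) : Set G) ≤
      Subgroup.normalizer ((S : Subgroup G) : Set G))

theorem straddle_overgroup (hL : IsCharacteristicTwoType G)
    (hNJ : Subgroup.normalizer (thompsonSubgroupOf 2 T : Set G) ≤ M)
    (hT : T ∈ maxStraddlingTwoSubgroups M) {L : Subgroup G} (hL2 : IsTwoLocal L) (hLM : ¬ L ≤ M)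
    {T₀ : Subgroup G} (hT₀ : IsSylowTwoIn T₀ L) (hJT₀ : thompsonSubgroupOf 2 T ≤ T₀) :
    thompsonSubgroupOf 2 T = thompsonSubgroupOf 2 T₀ ∧ T₀ ∈ straddlingTwoSubgroups M ∧
      L ∈ jOvergroups T₀ := by
  obtain ⟨hT2, hT1, hTM, -⟩ := hT.1
  set J := thompsonSubgroupOf 2 T with hJ
  have hJ1 : J ≠ ⊥ := thompsonOf_ne_bot hT2 hT1
  have hJM : J ≤ M := (thompsonSubgroupOf_le 2 T).trans hTM
  have hne : ∀ X : Subgroup G, J ≤ X → X ≠ ⊥ := fun X h e => hJ1 (eq_bot_iff.mpr (e ▸ h))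
  have hX : T₀ ⊓ M ∈ straddlingTwoSubgroups M :=
    ⟨hT₀.2.1.to_le inf_le_left, hne _ (le_inf hJT₀ hJM), inf_le_right, L, hL2, inf_le_left.trans hT₀.1, hLM⟩
  obtain ⟨hJX, -⟩ := straddling_thompson_eq hT hX (le_inf hJT₀ hJM)
  have hTM₀ : T₀ ≤ M := by
    by_contra hnot
    obtain ⟨y, hy, hyn, hy'⟩ := exists_normalizer_gt hT₀.2.1 (inf_le_left : T₀ ⊓ M ≤ T₀)
      (fun e => hnot (e ▸ inf_le_right))
    have h1 := normalizer_le_normalizer_thompsonSubgroupOf (p := 2) (T₀ ⊓ M) hyn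
    rw [hJX] at h1
    exact hy' ⟨hy, hNJ h1⟩
  rw [inf_eq_left.mpr hTM₀] at hX hJX
  refine ⟨hJX.symm, hX, hT₀, fun hle => ?_, twoLocal_charTwo hL hL2⟩
  apply hLM
  have heq : thompsonSubgroupOf 2 (pCoreOf 2 L) = thompsonSubgroupOf 2 T₀ :=
    thompsonSubgroupOf_eq_of_le (pCoreOf_le_sylowTwoIn hT₀) hle
  refine le_trans ?_ hNJ
  rw [hJ, ← hJX, ← heq]
  exact (Subgroup.le_normalizer.trans (normalizer_le_normalizer_pCoreOf L)).trans
    (normalizer_le_normalizer_thompsonSubgroupOf _)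

theorem straddle_overgroup_self (hL : IsCharacteristicTwoType G)
    (hNJ : Subgroup.normalizer (thompsonSubgroupOf 2 T : Set G) ≤ M)
    (hT : T ∈ maxStraddlingTwoSubgroups M) {L : Subgroup G} (hL2 : IsTwoLocal L) (hLM : ¬ L ≤ M)
    (hTL : T ≤ L) : L ∈ jOvergroups T := by
  obtain ⟨T₁, hT₁, hTT₁⟩ := exists_sylowTwoIn hT.1.1 hTL
  have hJT₁ := (thompsonSubgroupOf_le 2 T).trans hTT₁
  obtain ⟨-, hX, hL1⟩ := straddle_overgroup hL hNJ hT hL2 hLM hT₁ hJT₁
  obtain ⟨-, hcard⟩ := straddling_thompson_eq hT hX hJT₁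
  rwa [eq_of_le_card_le hTT₁ hcard]

end

namespace Ctx

variable {T L : Subgroup G} (c : Ctx T L)

include c

/-- An overgroup contains a component. -/
theorem exists_component : ∃ K, IsJComponent T K ∧ K ≤ L := by
  have hne : c.imJ ≠ ⊥ := by
    intro h
    refine c.thompson_not_le_modC fun j hj => ?_
    have hjL := c.T_le (thompsonSubgroupOf_le 2 T hj)
    refine (c.pi_eq_one (x := ⟨j, hjL⟩)).mp ?_
    rw [← Subgroup.mem_bot, ← h]
    exact ⟨⟨j, hjL⟩, hj, rfl⟩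
  obtain ⟨t, ht, v, hv⟩ : ∃ t ∈ c.imJ, ∃ v, FF.IsTransvection c.act.range.subtype t v := by
    by_contra hall
    push Not at hall
    refine hne (eq_bot_iff.mpr (c.setup.gen.trans ((Subgroup.closure_le _).mpr ?_)))
    rintro t ⟨ht, v, hv⟩
    exact absurd hv (hall t ht v)
  obtain ⟨ρ, hp, -, hn⟩ := c.setup.plane hv
  obtain ⟨r, hr⟩ := c.exists_lift ht hp hn
  exact ⟨_, c.isJComponent_liftComp ht hp hr, liftComp_le L r⟩

/-- Some component lies outside `M` when `L` does and `M` contains `N_L(J(T))`. -/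
theorem exists_component_outside {M : Subgroup G}
    (hNJ : Subgroup.normalizer (thompsonSubgroupOf 2 T : Set G) ⊓ L ≤ M) (hLM : ¬ L ≤ M) :
    ∃ K, IsJComponent T K ∧ K ≤ L ∧ ¬ K ≤ M := by
  by_contra hall
  push Not at hall
  apply hLM
  have hCM : modC T L ≤ M := fun y hy =>
    hNJ ⟨normalizer_le_normalizer_thompsonSubgroupOf T (c.modC_le_normalizer_T hy), hy.1⟩
  set I := (M.subgroupOf L).map c.pi with hI
  have hpull : ∀ x : ↥L, c.pi x ∈ I → (x : G) ∈ M := by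
    rintro x ⟨m, hm, hmx⟩
    have h1 : c.pi (x * m⁻¹) = 1 := by rw [map_mul, map_inv, hmx, mul_inv_cancel]
    have h2 := hCM (c.pi_eq_one.mp h1)
    have h3 := M.mul_mem h2 hm
    simpa [mul_assoc] using h3
  -- the plane elements lie in the image of `M`
  have hrho : ∀ t ∈ c.imJ, ∀ v ρ, FF.IsPlane c.act.range.subtype (Cfsg.fittingSubgroup ↥c.act.range) t v ρ →
      Cfsg.fittingSubgroup ↥c.act.range ≤ Subgroup.normalizer (Subgroup.zpowers ρ : Set ↥c.act.range) → ρ ∈ I := by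
    intro t ht v ρ hp hn
    obtain ⟨r, hr⟩ := c.exists_lift ht hp hn
    obtain ⟨y, hy, -, hyK⟩ := c.exists_odd_lift hr
    exact ⟨y, hall _ (c.isJComponent_liftComp ht hp hr) (liftComp_le L r) hyK, hr.proj y hy⟩
  have hN : c.planeN ≤ I := by
    rw [planeN, FF.planeGroup, Subgroup.closure_le]
    rintro _ ⟨t, ⟨⟨v, hv⟩, x, hx⟩, q, hq, rfl⟩
    obtain ⟨g, rfl⟩ := c.pi_surjective x
    obtain ⟨n, hn', y, hyL, hyJ, hge⟩ := c.frattini g.2
    obtain ⟨n', hn'', rfl⟩ := hn'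
    set Y : ↥L := ⟨y, hyL⟩
    have hgY : c.pi g = c.pi n' * c.pi Y := by
      rw [← map_mul]; exact congrArg c.pi (Subtype.ext hge)
    have hv' := hv.conj (c.pi g)
    obtain ⟨ρ, hp, hcom, hnn⟩ := c.setup.plane hv'
    obtain ⟨i, hi⟩ := Subgroup.mem_zpowers_iff.mp
      (hcom _ (c.setup.normal.conj_mem q hq (c.pi g)))
    have hρI := hrho _ hx _ ρ hp hnn
    have hρN := c.setup.rho_mem hx hp
    have hcomm : ρ ^ i * c.pi n' = c.pi n' * ρ ^ i :=
      c.setup.planeGroup_comm _ (zpow_mem hρN i) _ hn''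
    have hYI : c.pi Y ∈ I := ⟨Y, hNJ ⟨hyJ, hyL⟩, rfl⟩
    have he : ⁅t, q⁆ = (c.pi Y)⁻¹ * ρ ^ i * c.pi Y := by
      calc ⁅t, q⁆ = (c.pi g)⁻¹ * ⁅c.pi g * t * (c.pi g)⁻¹, c.pi g * q * (c.pi g)⁻¹⁆ * c.pi g := by
            simp only [commutatorElement_def]; group
        _ = (c.pi Y)⁻¹ * ((c.pi n')⁻¹ * (ρ ^ i * c.pi n')) * c.pi Y := by rw [← hi, hgY]; group
        _ = _ := by rw [hcomm]; group
    rw [SetLike.mem_coe, he]
    exact I.mul_mem (I.mul_mem (I.inv_mem hYI) (zpow_mem hρI i)) hYI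
  intro x hx
  obtain ⟨n, ⟨n', hn', rfl⟩, y, hyL, hyJ, rfl⟩ := c.frattini hx
  exact M.mul_mem (hpull n' (hN hn')) (hNJ ⟨hyJ, hyL⟩)

end Ctx

end CfsgLib.JComp
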