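import Cfsg.Agent.Lib.JComp.Small
import Cfsg.Agent.Lib.SEmb.Counting
import Cfsg.Agent.S2947
import Cfsg.Agent.S2949

/-!
The components attached to a maximal straddling subgroup do not all lie in one maximal 2-local subgroup.
-/

set_option autoImplicit false
set_option maxHeartbeats 800000
open Cfsg CfsgLib.PLocal
open scoped commutatorElement

namespace CfsgLib.JComp

variable {G : Type*} [Group G] [Finite G]

theorem exists_max_straddling {M : Subgroup G} (h : (straddlingTwoSubgroups M).Nonempty) :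
    (maxStraddlingTwoSubgroups M).Nonempty := by
  obtain ⟨A, hA, hAmax⟩ :=
    Set.Finite.exists_maximalFor (fun X : Subgroup G => maxElemAbelianOrder X) _ (Set.toFinite _) h
  obtain ⟨B, ⟨hB, hBe⟩, hBmax⟩ := Set.Finite.exists_maximalFor
    (fun X : Subgroup G => Nat.card ↥(thompsonSubgroupOf 2 X))
    {X | X ∈ straddlingTwoSubgroups M ∧ maxElemAbelianOrder X = maxElemAbelianOrder A}
    (Set.toFinite _) ⟨A, hA, rfl⟩
  obtain ⟨C, ⟨hC, hCe, hCJ⟩, hCmax⟩ := Set.Finite.exists_maximalFor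
    (fun X : Subgroup G => Nat.card ↥X)
    {X | X ∈ straddlingTwoSubgroups M ∧ maxElemAbelianOrder X = maxElemAbelianOrder A ∧
      Nat.card ↥(thompsonSubgroupOf 2 X) = Nat.card ↥(thompsonSubgroupOf 2 B)}
    (Set.toFinite _) ⟨B, hB, hBe, rfl⟩
  refine ⟨C, hC, fun X hX => ⟨?_, fun h1 => ⟨?_, fun h2 => ?_⟩⟩⟩
  · rw [hCe]
    rcases le_total (maxElemAbelianOrder X) (maxElemAbelianOrder A) with h | h
    exacts [h, hAmax hX h]
  · rw [hCJ]
    rcases le_total (Nat.card ↥(thompsonSubgroupOf 2 X)) (Nat.card ↥(thompsonSubgroupOf 2 B)) with h | h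
    exacts [h, hBmax ⟨hX, h1.trans hCe⟩ h]
  · rcases le_total (Nat.card ↥X) (Nat.card ↥C) with h | h
    exacts [h, hCmax ⟨hX, h1.trans hCe, h2.trans hCJ⟩ h]

/-- A normal subgroup of exponent 2 not inside `⟨w⟩` has an element moved at most by `w`. -/
theorem exists_almost_fixed {S V : Subgroup G} (hS : IsPGroup 2 S)
    (hn : S ≤ Subgroup.normalizer (V : Set G)) (hVS : V ≤ S) (hV2 : ∀ v ∈ V, v * v = 1)
    {w : G} (hw : w ∈ omegaCenterOf S) (hne : ∃ v ∈ V, v ≠ 1 ∧ v ≠ w) :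
    ∃ u ∈ S, u * u = 1 ∧ u ≠ 1 ∧ u ≠ w ∧ ∀ s ∈ S, s * u * s⁻¹ = u ∨ s * u * s⁻¹ = u * w := by
  haveI : Fact (Nat.Prime 2) := ⟨Nat.prime_two⟩
  obtain ⟨N, hN⟩ := (Subgroup.isNilpotent_iff_lowerCentralSeries S).mp hS.isNilpotent
  classical
  let P : ℕ → Prop := fun n => ∀ v ∈ V ⊓ S.lowerCentralSeries n, v = 1 ∨ v = w
  have hPN : P N := fun v hv => Or.inl (Subgroup.mem_bot.mp (hN ▸ (Subgroup.mem_inf.mp hv).2))
  have hex : ∃ n, P n := ⟨N, hPN⟩
  have h0 : ¬ P 0 := fun h => by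
    obtain ⟨v, hv, h1, h2⟩ := hne
    rcases h v (Subgroup.mem_inf.mpr ⟨hv, by rw [Subgroup.lowerCentralSeries_zero]; exact hVS hv⟩) with e | e
    exacts [h1 e, h2 e]
  obtain ⟨n, hn'⟩ : ∃ n, Nat.find hex = n + 1 :=
    Nat.exists_eq_succ_of_ne_zero fun e => h0 (e ▸ Nat.find_spec hex)
  have hlt : ¬ P n := Nat.find_min hex (by omega)
  have hspec : P (n + 1) := hn' ▸ Nat.find_spec hex
  simp only [P, not_forall, not_or] at hlt
  obtain ⟨u, hu, hu1, huw⟩ := hlt
  obtain ⟨huV, huL⟩ := Subgroup.mem_inf.mp hu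
  refine ⟨u, hVS huV, hV2 u huV, hu1, huw, fun s hs => ?_⟩
  have hc : ⁅s, u⁆ ∈ V ⊓ S.lowerCentralSeries (n + 1) := by
    refine Subgroup.mem_inf.mpr ⟨?_, ?_⟩
    · rw [commutatorElement_def]
      exact mul_mem ((Subgroup.mem_normalizer_iff.mp (hn hs) u).mp huV) (inv_mem huV)
    · rw [Subgroup.lowerCentralSeries_succ, Subgroup.commutator_comm]
      exact Subgroup.commutator_mem_commutator hs huL
  have he : s * u * s⁻¹ = ⁅s, u⁆ * u := by rw [commutatorElement_def]; group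
  rcases hspec _ hc with e | e <;> rw [he, e]
  · left; rw [one_mul]
  · right; exact ((mem_omegaCenterOf.mp hw).2.1 u (hVS huV)).symm

/-- A Sylow subgroup above `T` whose Thompson subgroup has its normaliser in `M`. -/
theorem exists_sylow_over (S : Sylow 2 G) (M : Subgroup G)
    (hMJ : Subgroup.normalizer (thompsonSubgroupOf 2 (S : Subgroup G) : Set G) ≤ M) (T : Subgroup G)
    (hT : T ∈ maxStraddlingTwoSubgroups M) :
    Subgroup.normalizer (thompsonSubgroupOf 2 T : Set G) ≤ M ∧ ∃ S' : Sylow 2 G,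
      T ≤ (S' : Subgroup G) ∧ Subgroup.normalizer (thompsonSubgroupOf 2 (S' : Subgroup G) : Set G) ≤ M := by
  haveI : Fact (Nat.Prime 2) := ⟨Nat.prime_two⟩
  have hSM : (S : Subgroup G) ≤ M :=
    (Subgroup.le_normalizer.trans (normalizer_le_normalizer_thompsonSubgroupOf _)).trans hMJ
  refine ⟨normalizer_thompson_le hSM hMJ hT, ?_⟩
  obtain ⟨Q, hQ⟩ :=
    (hT.1.1.of_equiv (Subgroup.subgroupOfEquivOfLe hT.1.2.2.1).symm).exists_le_sylow
  obtain ⟨m, hm⟩ := MulAction.exists_smul_eq ↥M (S.subtype hSM) Q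
  have hS' : (((m : G) • S : Sylow 2 G) : Subgroup G) =
      (S : Subgroup G).map (MulAut.conj (m : G)).toMonoidHom := by
    rw [Sylow.coe_subgroup_smul]; rfl
  refine ⟨(m : G) • S, fun x hx => ?_, ?_⟩
  · have h1 : (⟨x, hT.1.2.2.1 hx⟩ : ↥M) ∈ ((m • S.subtype hSM : Sylow 2 ↥M) : Subgroup ↥M) := by
      rw [hm]; exact hQ hx
    rw [Sylow.smul_subtype hSM] at h1
    exact h1
  · rw [hS', ← thompsonSubgroupOf_map (f := (MulAut.conj (m : G)).toMonoidHom) (MulAut.conj (m : G)).injective,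
      ← Subgroup.map_equiv_normalizer_eq _ (MulAut.conj (m : G))]
    exact (Subgroup.map_mono hMJ).trans (map_conj_eq_of_mem_normalizer (Subgroup.le_normalizer m.2)).le

namespace Pos

variable {M T K L : Subgroup G} (q : Pos M T K L)

include q

/-- An element of `Ω₁(Z(O₂(L)))` outside `⟨w⟩`, when `T` is a Sylow subgroup of `G`. -/
theorem exists_moved (S : Sylow 2 G) (hTS : T = (S : Subgroup G)) {w : G}
    (hw : w ∈ omegaCenterOf (S : Subgroup G))
    (hZ : ∀ z ∈ omegaCenterOf (S : Subgroup G), z = 1 ∨ z = w) :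
    ∃ u ∈ (S : Subgroup G), u * u = 1 ∧ u ≠ 1 ∧ u ≠ w ∧
      ∀ s ∈ (S : Subgroup G), s * u * s⁻¹ = u ∨ s * u * s⁻¹ = u * w := by
  have c := q.ctx
  have hn : L ≤ Subgroup.normalizer (omegaCenterOf (pCoreOf 2 L) : Set G) :=
    le_normalizer_of_conj fun x hx v hv => conj_mem_omegaCenterOf (c.L_le_normalizer_core hx) hv
  have hVS : omegaCenterOf (pCoreOf 2 L) ≤ (S : Subgroup G) := fun v hv =>
    hTS ▸ c.core_le_T (mem_omegaCenterOf.mp hv).1
  refine exists_almost_fixed S.isPGroup' ((hTS ▸ q.sylow.1).trans hn) hVS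
    (fun v hv => mul_self_of_mem_omega hv) hw ?_
  by_contra hcon
  push Not at hcon
  -- then `L` centralises `Ω₁(Z(S))`
  apply c.mem.2.1
  have hLS : L ≤ Subgroup.normalizer ((S : Subgroup G) : Set G) := by
    refine le_trans (fun l hl => ?_) (q.centralZ S)
    refine Subgroup.mem_centralizer_iff.mpr fun z hz => ?_
    have hzV : z ∈ omegaCenterOf (pCoreOf 2 L) := c.omega_le_omega_core (hTS.symm ▸ hz)
    rcases hZ z hz with rfl | rfl
    · rw [one_mul, mul_one]
    · by_cases h1 : z = 1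
      · rw [h1, one_mul, mul_one]
      have hlz := (Subgroup.mem_normalizer_iff.mp (hn hl) z).mp hzV
      have e : l * z * l⁻¹ = z :=
        hcon _ hlz fun e => h1 ((MulAut.conj l).injective (by simpa using e))
      calc z * l = l * z * l⁻¹ * l := by rw [e]
        _ = l * z := by group
  exact (thompsonSubgroupOf_le 2 T).trans
    (two_le_pCoreOf q.two q.sylow.1 (hTS ▸ hLS))

/-- Some component lies outside `L`. -/
theorem exists_component_not_le (hO : pCore 2 G = ⊥) (S : Sylow 2 G) (hTS : T ≤ (S : Subgroup G))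
    (hMJ : Subgroup.normalizer (thompsonSubgroupOf 2 (S : Subgroup G) : Set G) ≤ M) :
    ∃ K', IsJComponent T K' ∧ ¬ K' ≤ L := by
  haveI : Fact (Nat.Prime 2) := ⟨Nat.prime_two⟩
  by_cases hne : T = (S : Subgroup G)
  swap
  · obtain ⟨y, -, -, -, -, q', hout⟩ := q.exists_not_le_of_lt S.isPGroup' hTS hne
    exact ⟨_, q'.comp, hout⟩
  by_contra hcon
  push Not at hcon
  have c := q.ctx
  have hJ0 : thompsonSubgroupOf 2 T = thompsonSubgroupOf 2 (S : Subgroup G) := by rw [hne]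
  have hSL : (S : Subgroup G) ≤ L := hne ▸ q.sylow.1
  have hNL : Subgroup.normalizer (thompsonSubgroupOf 2 (S : Subgroup G) : Set G) ≤ L := by
    intro m hm
    have q' := q.map (hMJ hm)
    have hJm : thompsonSubgroupOf 2 (T.map (MulAut.conj m).toMonoidHom) = thompsonSubgroupOf 2 T := by
      rw [← thompsonSubgroupOf_map (f := (MulAut.conj m).toMonoidHom) (MulAut.conj m).injective, hJ0]
      exact map_conj_eq_of_mem_normalizer hm
    have hK := hcon _ (isJComponent_congr hJm q'.comp)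
    exact isMaximal_normalizer_le q.maxL (mem_normalizer_of_map_conj_eq
      (q'.unique q.maxL (sup_le hK (hJm ▸ q.J_le))).symm)
  have hne' : (straddlingTwoSubgroups L).Nonempty := by
    by_contra he
    rw [Set.not_nonempty_iff_eq_empty] at he
    have hSE := (Cfsg.Agent.S2947.result q.char2 q.locals q.centralZ hO S L q.maxL.1 hNL).mpr he
    obtain ⟨z, hz, hz1⟩ := (Subgroup.bot_or_exists_ne_one _).resolve_left
      (omegaCenterOf_ne_bot q.two q.ne_bot)
    have hzV := c.omega_le_omega_core hz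
    have hzL : z ∈ L := q.sylow.1 (mem_omegaCenterOf.mp hz).1
    have hzo : orderOf z = 2 := orderOf_eq_prime (mem_omegaCenterOf.mp hz).2.2 hz1
    obtain ⟨g, hg⟩ : ∃ g : G, g ∉ L := by
      by_contra h
      push Not at h
      exact hSE.1 (eq_top_iff.mpr fun g _ => h g)
    apply c.mem.2.1
    rw [thompsonSubgroupOf_eq]
    refine sSup_le fun A hA x hx => ?_
    by_cases hx1 : x = 1
    · rw [hx1]; exact one_mem _
    have hxo : orderOf x = 2 := orderOf_eq_prime (hA.2.1.2 x hx) hx1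
    have hne1 : (QuotientGroup.mk 1 : G ⧸ L) ≠ QuotientGroup.mk g := fun h => hg (by
      simpa using QuotientGroup.eq.mp h)
    obtain ⟨d, ⟨hd, -⟩, hdc⟩ := CfsgLib.SEmb.exists_conj hSE hzo hxo
      ((CfsgLib.SEmb.smul_one_eq_iff z).mpr hzL) hne1
      ((CfsgLib.SEmb.smul_one_eq_iff x).mpr (q.sylow.1 (hA.1 hx)))
    rw [← hdc]
    exact (mem_omegaCenterOf.mp (conj_mem_omegaCenterOf
      (c.L_le_normalizer_core ((CfsgLib.SEmb.smul_one_eq_iff d).mp hd)) hzV)).1
  obtain ⟨X₀, hX₀⟩ := exists_max_straddling hne'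
  obtain ⟨A₀, hA₀⟩ := Cfsg.Agent.S2949.result q.char2 q.locals q.centralZ hO S L q.maxL.1 hNL X₀ hX₀
  obtain ⟨L₀, hL₀, hL₀max⟩ := exists_maximalTwoLocal
    (N := Subgroup.normalizer (pCoreOf 2 (A₀ ⊔ X₀) : Set G)) ⟨_, pCoreOf_isPGroup _, hA₀.2.2, rfl⟩
  have p₀ : Pos L X₀ A₀ L₀ := ⟨q.char2, q.locals, q.centralZ, normalizer_thompson_le hSL hNL hX₀, hX₀,
    hA₀, hL₀, (sup_le_sup_left (thompsonSubgroupOf_le 2 X₀) A₀).trans
      ((Subgroup.le_normalizer.trans (normalizer_le_normalizer_pCoreOf _)).trans hL₀max)⟩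
  obtain ⟨m, hmL, hm⟩ := c.exists_conj_le hX₀.1.1 hX₀.1.2.2.1
  have p := p₀.map hmL
  set X := X₀.map (MulAut.conj m).toMonoidHom with hX
  have hXS : X ≤ (S : Subgroup G) := by
    rintro _ ⟨y, hy, rfl⟩
    exact hne ▸ hm y hy
  have hJX : thompsonSubgroupOf 2 X ≠ thompsonSubgroupOf 2 T := fun e =>
    p.out.2.1 (hcon _ (isJComponent_congr e p.comp))
  have hXne : X ≠ (S : Subgroup G) := fun e => hJX (by rw [e, hne])
  obtain ⟨y, hyS, hyL, t⟩ := p.exists_twin S hXS hXne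
  refine hJX (hJ0.symm ▸ (t.thompson_eq_of_element S hXS hyS hyL ?_).1.symm)
  exact fun w hw _ hZw => q.exists_moved S hne hw hZw

end Pos

end CfsgLib.JComp
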