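import Cfsg.Agent.Lib.JComp.Plane
import Mathlib.Tactic.NormNum.Prime

/-!
The structure of the normal closure of a 2-group `J` generated by transvections: modulo the abelian
group `planeGroup` of exponent 3 it is elementary abelian.
-/

set_option autoImplicit false
open scoped commutatorElement

namespace CfsgLib.JComp.FF

variable {H V : Type*} [Group H] [CommGroup V]

/-- The standing hypotheses. -/
structure Setup (φ : H →* MulAut V) (F J : Subgroup H) : Prop where
  inj : Function.Injective φ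
  exp2 : ∀ v : V, v * v = 1
  normal : F.Normal
  odd : Odd (Nat.card F)
  nilpotent : Group.IsNilpotent F
  selfCent : Subgroup.centralizer (F : Set H) ≤ F
  two : IsPGroup 2 J
  gen : J ≤ Subgroup.closure {t | t ∈ J ∧ ∃ v, IsTransvection φ t v}

/-- The conjugates of the transvections of `J`. -/
def transSet (φ : H →* MulAut V) (J : Subgroup H) : Set H :=
  {t | (∃ v, IsTransvection φ t v) ∧ ∃ x : H, x * t * x⁻¹ ∈ J}

/-- The group generated by the `[t, F]`. -/
def planeGroup (φ : H →* MulAut V) (F J : Subgroup H) : Subgroup H :=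
  Subgroup.closure {n | ∃ t ∈ transSet φ J, ∃ q ∈ F, n = ⁅t, q⁆}

variable {φ : H →* MulAut V} {F J : Subgroup H}

theorem conj_mem_transSet {t : H} (ht : t ∈ transSet φ J) (g : H) : g * t * g⁻¹ ∈ transSet φ J := by
  obtain ⟨⟨v, hv⟩, x, hx⟩ := ht
  refine ⟨⟨φ g v, hv.conj g⟩, x * g⁻¹, ?_⟩
  have : x * g⁻¹ * (g * t * g⁻¹) * (x * g⁻¹)⁻¹ = x * t * x⁻¹ := by group
  rwa [this]

variable [Finite H] [Finite V] (h : Setup φ F J)

namespace Setup

include h

theorem plane {t : H} {v : V} (ht : IsTransvection φ t v) :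
    ∃ ρ, IsPlane φ F t v ρ ∧ (∀ q ∈ F, ⁅t, q⁆ ∈ Subgroup.zpowers ρ) ∧
      F ≤ Subgroup.normalizer (Subgroup.zpowers ρ : Set H) :=
  exists_plane h.inj h.exp2 h.normal h.odd h.nilpotent h.selfCent ht

/-- `ρ` is itself a commutator with `F`. -/
theorem rho_eq_commutator {t ρ : H} {v : V} (hp : IsPlane φ F t v ρ) : ρ = ⁅t, ρ⁆ := by
  rw [commutatorElement_def, hp.inverts, hp.inv_eq_sq]
  have := hp.cube
  calc ρ = ρ * (ρ * ρ * ρ) := by rw [show ρ * ρ * ρ = 1 by rw [← this, pow_succ, pow_two], mul_one]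
    _ = ρ * ρ * (ρ * ρ) := by group

theorem transvection_unique {t s ρ : H} {v v' : V} (ht : t ∈ J) (hs : s ∈ J) (hp : IsPlane φ F t v ρ)
    (hsT : IsTransvection φ s v') (hinv : s * ρ * s⁻¹ = ρ⁻¹) : s = t := by
  obtain ⟨k, -, rfl⟩ := hp.transvection_conj h.inj h.exp2 hsT hinv
  have hcomm : ρ ^ k * t = t * (ρ ^ k)⁻¹ := by
    have h1 : t * ρ ^ k * t⁻¹ = (ρ ^ k)⁻¹ := by rw [← conj_pow, hp.inverts, inv_pow]
    calc ρ ^ k * t = t * (t⁻¹ * ρ ^ k * t) := by group
      _ = t * (t * ρ ^ k * t⁻¹) := by rw [hp.trans.inv_eq]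
      _ = t * (ρ ^ k)⁻¹ := by rw [h1]
  have hmem : (ρ ^ k) ^ 2 ∈ J := by
    have h2 : (ρ ^ k) ^ 2 = (ρ ^ k * t * (ρ ^ k)⁻¹) * t⁻¹ := by
      have e : t * (ρ ^ k)⁻¹ * t⁻¹ = ρ ^ k := by rw [← hcomm, mul_inv_cancel_right]
      calc (ρ ^ k) ^ 2 = ρ ^ k * (t * (ρ ^ k)⁻¹ * t⁻¹) := by rw [e, pow_two]
        _ = _ := by group
    rw [h2]; exact mul_mem hs (inv_mem ht)
  obtain ⟨a, ha⟩ := h.two ⟨_, hmem⟩
  have ha' : ((ρ ^ k) ^ 2) ^ 2 ^ a = 1 := congrArg Subtype.val ha
  rw [← pow_mul, ← pow_mul, ← orderOf_dvd_iff_pow_eq_one, hp.order] at ha'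
  have hk : 3 ∣ k := by
    refine (Nat.Coprime.dvd_of_dvd_mul_right ?_ ha')
    exact Nat.Coprime.mul_right (by norm_num) (Nat.Coprime.pow_right _ (by norm_num))
  obtain ⟨c, rfl⟩ := hk
  rw [pow_mul, hp.cube, one_pow]; group

/-- The action of `J` on the `ρ` of one of its transvections. -/
theorem trans_act {t s ρ : H} {v v' : V} (ht : t ∈ J) (hs : s ∈ J) (hp : IsPlane φ F t v ρ)
    (hn : F ≤ Subgroup.normalizer (Subgroup.zpowers ρ : Set H)) (hsT : IsTransvection φ s v') :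
    (s = t ∧ s * ρ * s⁻¹ = ρ⁻¹) ∨ (s ≠ t ∧ s * ρ = ρ * s ∧ s * t = t * s) := by
  obtain ⟨σ, hσ, -, hnσ⟩ := h.plane hsT
  by_cases heq : Subgroup.zpowers ρ = Subgroup.zpowers σ
  · left
    obtain ⟨k, hk⟩ := Subgroup.mem_zpowers_iff.mp (heq.le (Subgroup.mem_zpowers ρ))
    have hinv : s * ρ * s⁻¹ = ρ⁻¹ := by rw [← hk, ← conj_zpow, hσ.inverts, inv_zpow]
    exact ⟨h.transvection_unique ht hs hp hsT hinv, hinv⟩
  · right
    obtain ⟨-, hc, hts, -⟩ := IsPlane.independent h.inj h.exp2 h.odd hσ hp hnσ hn (Ne.symm heq)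
    refine ⟨fun hst => ?_, hc, hts⟩
    subst hst
    have h1 := hp.inverts
    rw [hc, mul_inv_cancel_right, eq_comm, inv_eq_iff_mul_eq_one, ← pow_two,
      ← orderOf_dvd_iff_pow_eq_one, hp.order] at h1
    omega

/-- `J` is elementary abelian. -/
theorem sq_eq_one {j : H} (hj : j ∈ J) : j * j = 1 ∧ ∀ i ∈ J, j * i = i * j := by
  have hcomm : ∀ x ∈ {t | t ∈ J ∧ ∃ v, IsTransvection φ t v}, ∀ y ∈ {t | t ∈ J ∧ ∃ v, IsTransvection φ t v},
      x * y = y * x := by
    rintro x ⟨hx, v, hv⟩ y ⟨hy, w, hw⟩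
    obtain ⟨ρ, hp, -, hn⟩ := h.plane hw
    rcases h.trans_act hy hx hp hn hv with ⟨rfl, -⟩ | ⟨-, -, hc⟩
    · rfl
    · exact hc
  have hcomm2 : ∀ x ∈ Subgroup.closure {t | t ∈ J ∧ ∃ v, IsTransvection φ t v},
      ∀ y ∈ Subgroup.closure {t | t ∈ J ∧ ∃ v, IsTransvection φ t v}, x * y = y * x := by
    intro x hx y hy
    induction hx, hy using Subgroup.closure_induction₂ with
    | mem x y hx hy => exact hcomm x hx y hy
    | one_left y _ => rw [one_mul, mul_one]
    | one_right x _ => rw [one_mul, mul_one]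
    | mul_left a b y _ _ _ h1 h2 => exact ((show Commute a y from h1).mul_left h2).eq
    | mul_right a y b _ _ _ h1 h2 => exact ((show Commute b a from h1).mul_right h2).eq
    | inv_left a y _ _ h1 => exact ((show Commute a y from h1).inv_left).eq
    | inv_right a y _ _ h1 => exact ((show Commute a y from h1).inv_right).eq
  refine ⟨?_, fun i hi => hcomm2 j (h.gen hj) i (h.gen hi)⟩
  have key : ∀ z ∈ Subgroup.closure {t | t ∈ J ∧ ∃ v, IsTransvection φ t v}, z * z = 1 := by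
    intro z hz
    induction hz using Subgroup.closure_induction with
    | mem x hx => obtain ⟨hx, v, hv⟩ := hx; rw [← pow_two, ← hv.1, pow_orderOf_eq_one]
    | one => rw [one_mul]
    | mul a b ha hb h1 h2 =>
      calc a * b * (a * b) = a * (b * a) * b := by group
        _ = a * (a * b) * b := by rw [hcomm2 b hb a ha]
        _ = (a * a) * (b * b) := by group
        _ = 1 := by rw [h1, h2, one_mul]
    | inv a _ h1 => rw [← mul_inv_rev, h1, inv_one]
  exact key j (h.gen hj)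

/-- `J` centralises or inverts `ρ`. -/
theorem act_rho {t ρ j : H} {v : V} (ht : t ∈ J) (hp : IsPlane φ F t v ρ)
    (hn : F ≤ Subgroup.normalizer (Subgroup.zpowers ρ : Set H)) (hj : j ∈ J) :
    j * ρ * j⁻¹ = ρ ∨ j * ρ * j⁻¹ = ρ⁻¹ := by
  have hj' := h.gen hj
  clear hj
  induction hj' using Subgroup.closure_induction with
  | mem s hs =>
    obtain ⟨hs, v', hv'⟩ := hs
    rcases h.trans_act ht hs hp hn hv' with ⟨-, e⟩ | ⟨-, e, -⟩
    · exact Or.inr e
    · exact Or.inl (by rw [e, mul_inv_cancel_right])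
  | one => simp
  | mul a b _ _ ha hb =>
    have e : a * b * ρ * (a * b)⁻¹ = a * (b * ρ * b⁻¹) * a⁻¹ := by group
    rw [e]
    rcases hb with hb | hb <;> rw [hb]
    · exact ha
    · have e' : a * ρ⁻¹ * a⁻¹ = (a * ρ * a⁻¹)⁻¹ := by group
      rw [e']
      rcases ha with ha | ha <;> rw [ha]
      · exact Or.inr rfl
      · exact Or.inl (inv_inv ρ)
  | inv a _ ha =>
    rcases ha with ha | ha
    · left
      conv_lhs => rw [← ha]
      group
    · right
      have e : a⁻¹ * ρ * a⁻¹⁻¹ = (a⁻¹ * ρ⁻¹ * a⁻¹⁻¹)⁻¹ := by group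
      have e2 : a⁻¹ * ρ⁻¹ * a⁻¹⁻¹ = ρ := by rw [← ha]; group
      rw [e, e2]

theorem planeGroup_le : planeGroup φ F J ≤ F := by
  rw [planeGroup, Subgroup.closure_le]
  rintro n ⟨t, -, q, hq, rfl⟩
  rw [SetLike.mem_coe, commutatorElement_def]
  exact mul_mem (h.normal.conj_mem q hq t) (inv_mem hq)

theorem planeGroup_normal : (planeGroup φ F J).Normal := by
  constructor
  intro n hn g
  induction hn using Subgroup.closure_induction with
  | mem x hx =>
    obtain ⟨t, ht, q, hq, rfl⟩ := hx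
    refine Subgroup.subset_closure ⟨g * t * g⁻¹, conj_mem_transSet ht g, g * q * g⁻¹, h.normal.conj_mem q hq g, ?_⟩
    simp only [commutatorElement_def]; group
  | one => simp
  | mul a b _ _ ha hb =>
    have : g * (a * b) * g⁻¹ = (g * a * g⁻¹) * (g * b * g⁻¹) := by group
    rw [this]; exact mul_mem ha hb
  | inv a _ ha =>
    have : g * a⁻¹ * g⁻¹ = (g * a * g⁻¹)⁻¹ := by group
    rw [this]; exact inv_mem ha

theorem planeGroup_comm : ∀ a ∈ planeGroup φ F J, ∀ b ∈ planeGroup φ F J, a * b = b * a := by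
  intro a ha b hb
  induction ha, hb using Subgroup.closure_induction₂ with
  | mem x y hx hy =>
    obtain ⟨t, ⟨⟨v, hv⟩, -⟩, q, hq, rfl⟩ := hx
    obtain ⟨s, ⟨⟨w, hw⟩, -⟩, q', hq', rfl⟩ := hy
    obtain ⟨ρ, hρ, hgρ, hnρ⟩ := h.plane hv
    obtain ⟨σ, hσ, hgσ, hnσ⟩ := h.plane hw
    obtain ⟨i, hi⟩ := Subgroup.mem_zpowers_iff.mp (hgρ q hq)
    obtain ⟨k, hk⟩ := Subgroup.mem_zpowers_iff.mp (hgσ q' hq')
    rw [← hi, ← hk]
    refine (Commute.zpow_zpow ?_ i k).eq
    by_cases heq : Subgroup.zpowers ρ = Subgroup.zpowers σ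
    · obtain ⟨e, he⟩ := Subgroup.mem_zpowers_iff.mp (heq.ge (Subgroup.mem_zpowers σ))
      rw [← he]; exact (Commute.refl ρ).zpow_right e
    · exact (IsPlane.independent h.inj h.exp2 h.odd hρ hσ hnρ hnσ heq).1
  | one_left y _ => rw [one_mul, mul_one]
  | one_right x _ => rw [one_mul, mul_one]
  | mul_left a b y _ _ _ h1 h2 => exact ((show Commute a y from h1).mul_left h2).eq
  | mul_right a y b _ _ _ h1 h2 => exact ((show Commute b a from h1).mul_right h2).eq
  | inv_left a y _ _ h1 => exact ((show Commute a y from h1).inv_left).eq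
  | inv_right a y _ _ h1 => exact ((show Commute a y from h1).inv_right).eq

theorem planeGroup_cube {n : H} (hn : n ∈ planeGroup φ F J) : n ^ 3 = 1 := by
  induction hn using Subgroup.closure_induction with
  | mem x hx =>
    obtain ⟨t, ⟨⟨v, hv⟩, -⟩, q, hq, rfl⟩ := hx
    obtain ⟨ρ, hρ, hgρ, -⟩ := h.plane hv
    obtain ⟨i, hi⟩ := Subgroup.mem_zpowers_iff.mp (hgρ q hq)
    rw [← hi, ← zpow_natCast, ← zpow_mul, mul_comm, zpow_mul, zpow_natCast, hρ.cube, one_zpow]
  | one => exact one_pow _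
  | mul a b ha hb h1 h2 => rw [Commute.mul_pow (h.planeGroup_comm a ha b hb) 3, h1, h2, one_mul]
  | inv a _ h1 => rw [inv_pow, h1, inv_one]

theorem rho_mem {t ρ : H} {v : V} (ht : t ∈ J) (hp : IsPlane φ F t v ρ) : ρ ∈ planeGroup φ F J := by
  rw [h.rho_eq_commutator hp]
  exact Subgroup.subset_closure ⟨t, ⟨⟨v, hp.trans⟩, 1, by simpa using ht⟩, ρ, hp.memF, rfl⟩

/-- Modulo `planeGroup`, the normal closure of `J` is elementary abelian. -/
theorem normalClosure_mod {x y : H} (hx : x ∈ Subgroup.normalClosure (J : Set H))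
    (hy : y ∈ Subgroup.normalClosure (J : Set H)) :
    x * x ∈ planeGroup φ F J ∧ ⁅x, y⁆ ∈ planeGroup φ F J := by
  haveI := h.planeGroup_normal
  have hle : Subgroup.normalClosure (J : Set H) ≤ Subgroup.closure (transSet φ J) := by
    have hn : (Subgroup.closure (transSet φ J)).Normal := by
      constructor
      intro n hn g
      induction hn using Subgroup.closure_induction with
      | mem t ht => exact Subgroup.subset_closure (conj_mem_transSet ht g)
      | one => simp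
      | mul a b _ _ ha hb =>
        have : g * (a * b) * g⁻¹ = (g * a * g⁻¹) * (g * b * g⁻¹) := by group
        rw [this]; exact mul_mem ha hb
      | inv a _ ha =>
        have : g * a⁻¹ * g⁻¹ = (g * a * g⁻¹)⁻¹ := by group
        rw [this]; exact inv_mem ha
    haveI := hn
    refine Subgroup.normalClosure_le_normal fun j hj => ?_
    refine (Subgroup.closure_mono ?_) (h.gen hj)
    rintro t ⟨ht, hv⟩
    exact ⟨hv, 1, by simpa using ht⟩
  have hcomm : ∀ t ∈ transSet φ J, ∀ s ∈ transSet φ J,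
      (QuotientGroup.mk t : H ⧸ planeGroup φ F J) * QuotientGroup.mk s =
        QuotientGroup.mk s * QuotientGroup.mk t := by
    intro t ht s hs
    obtain ⟨⟨v, hv⟩, -⟩ := id ht
    obtain ⟨⟨w, hw⟩, -⟩ := id hs
    obtain ⟨ρ, hρ, -, hnρ⟩ := h.plane hv
    obtain ⟨σ, hσ, -, hnσ⟩ := h.plane hw
    by_cases heq : Subgroup.zpowers ρ = Subgroup.zpowers σ
    · obtain ⟨i, hi⟩ := Subgroup.mem_zpowers_iff.mp (heq.le (Subgroup.mem_zpowers ρ))
      have hinv : s * ρ * s⁻¹ = ρ⁻¹ := by rw [← hi, ← conj_zpow, hσ.inverts, inv_zpow]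
      obtain ⟨k, -, rfl⟩ := hρ.transvection_conj h.inj h.exp2 hw hinv
      have hρN : ρ ∈ planeGroup φ F J := by
        rw [h.rho_eq_commutator hρ]
        exact Subgroup.subset_closure ⟨t, ht, ρ, hρ.memF, rfl⟩
      have h1 : (QuotientGroup.mk (ρ ^ k) : H ⧸ planeGroup φ F J) = 1 :=
        (QuotientGroup.eq_one_iff _).mpr (pow_mem hρN k)
      rw [QuotientGroup.mk_mul, QuotientGroup.mk_mul, QuotientGroup.mk_inv, h1, inv_one, one_mul, mul_one]
    · rw [← QuotientGroup.mk_mul, ← QuotientGroup.mk_mul,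
        (IsPlane.independent h.inj h.exp2 h.odd hρ hσ hnρ hnσ heq).2.2.1]
  have hcomm2 : ∀ a ∈ Subgroup.closure (transSet φ J), ∀ b ∈ Subgroup.closure (transSet φ J),
      (QuotientGroup.mk a : H ⧸ planeGroup φ F J) * QuotientGroup.mk b =
        QuotientGroup.mk b * QuotientGroup.mk a := by
    intro a ha b hb
    induction ha, hb using Subgroup.closure_induction₂ with
    | mem x y hx hy => exact hcomm x hx y hy
    | one_left y _ => rw [QuotientGroup.mk_one, one_mul, mul_one]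
    | one_right x _ => rw [QuotientGroup.mk_one, one_mul, mul_one]
    | mul_left a b y _ _ _ h1 h2 =>
      rw [QuotientGroup.mk_mul]
      exact ((show Commute (QuotientGroup.mk a : H ⧸ planeGroup φ F J) _ from h1).mul_left h2).eq
    | mul_right a y b _ _ _ h1 h2 =>
      rw [QuotientGroup.mk_mul]
      exact ((show Commute (QuotientGroup.mk b : H ⧸ planeGroup φ F J) _ from h1).mul_right h2).eq
    | inv_left a y _ _ h1 =>
      rw [QuotientGroup.mk_inv]
      exact ((show Commute (QuotientGroup.mk a : H ⧸ planeGroup φ F J) _ from h1).inv_left).eq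
    | inv_right a y _ _ h1 =>
      rw [QuotientGroup.mk_inv]
      exact ((show Commute (QuotientGroup.mk a : H ⧸ planeGroup φ F J) _ from h1).inv_right).eq
  have hsq : ∀ a ∈ Subgroup.closure (transSet φ J), (QuotientGroup.mk a : H ⧸ planeGroup φ F J) ^ 2 = 1 := by
    intro a ha
    induction ha using Subgroup.closure_induction with
    | mem t ht =>
      obtain ⟨⟨v, hv⟩, -⟩ := ht
      rw [← QuotientGroup.mk_pow, ← hv.1, pow_orderOf_eq_one, QuotientGroup.mk_one]
    | one => rw [QuotientGroup.mk_one, one_pow]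
    | mul a b ha hb h1 h2 => rw [QuotientGroup.mk_mul, Commute.mul_pow (hcomm2 a ha b hb) 2, h1, h2, one_mul]
    | inv a _ h1 => rw [QuotientGroup.mk_inv, inv_pow, h1, inv_one]
  refine ⟨?_, ?_⟩
  · rw [← pow_two, ← QuotientGroup.eq_one_iff, QuotientGroup.mk_pow]
    exact hsq x (hle hx)
  · rw [← QuotientGroup.eq_one_iff, commutatorElement_def, QuotientGroup.mk_mul, QuotientGroup.mk_mul,
      QuotientGroup.mk_mul, QuotientGroup.mk_inv, QuotientGroup.mk_inv, hcomm2 x (hle hx) y (hle hy)]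
    group

theorem odd_mem_planeGroup {x : H} (hx : x ∈ Subgroup.normalClosure (J : Set H))
    (ho : Odd (orderOf x)) : x ∈ planeGroup φ F J := by
  have h2 := (h.normalClosure_mod hx hx).1
  obtain ⟨m, hm⟩ := exists_pow_eq_self_of_coprime (x := x) (n := 2) (Nat.coprime_two_left.mpr ho)
  rw [← hm, pow_two]
  exact pow_mem h2 m

/-- An element of odd order of the normal closure, normalised but not centralised by `J`,
generates one of the planes. -/
theorem eq_rho {k : H} (hk : k ∈ planeGroup φ F J) (hk1 : k ≠ 1)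
    (hnorm : ∀ j ∈ J, j * k * j⁻¹ ∈ Subgroup.zpowers k) (hmove : ∃ j ∈ J, j * k ≠ k * j) :
    ∃ t v ρ, t ∈ J ∧ IsPlane φ F t v ρ ∧ F ≤ Subgroup.normalizer (Subgroup.zpowers ρ : Set H) ∧
      Subgroup.zpowers k = Subgroup.zpowers ρ := by
  obtain ⟨t, ⟨ht, v, hv⟩, htk⟩ : ∃ t ∈ {t | t ∈ J ∧ ∃ v, IsTransvection φ t v}, t * k ≠ k * t := by
    by_contra hall
    push Not at hall
    obtain ⟨j, hj, hjk⟩ := hmove
    have hle : Subgroup.closure {t | t ∈ J ∧ ∃ v, IsTransvection φ t v} ≤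
        Subgroup.centralizer ({k} : Set H) :=
      (Subgroup.closure_le _).mpr fun s hs => Subgroup.mem_centralizer_singleton_iff.mpr (hall s hs)
    exact hjk (Subgroup.mem_centralizer_singleton_iff.mp (hle (h.gen hj)))
  obtain ⟨ρ, hρ, hgρ, hn⟩ := h.plane hv
  refine ⟨t, v, ρ, ht, hρ, hn, ?_⟩
  haveI : Fact (Nat.Prime 3) := ⟨Nat.prime_three⟩
  have hko : orderOf k = 3 := orderOf_eq_prime (h.planeGroup_cube hk) hk1
  have h1 : ⁅t, k⁆ ∈ Subgroup.zpowers ρ := hgρ k (h.planeGroup_le hk)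
  have h2 : ⁅t, k⁆ ∈ Subgroup.zpowers k := by
    rw [commutatorElement_def]
    exact mul_mem (hnorm t ht) (inv_mem (Subgroup.mem_zpowers k))
  have h3 : ⁅t, k⁆ ≠ 1 := fun e => htk (commutatorElement_eq_one_iff_mul_comm.mp e)
  have key : ∀ a : H, orderOf a = 3 → ⁅t, k⁆ ∈ Subgroup.zpowers a →
      Subgroup.zpowers ⁅t, k⁆ = Subgroup.zpowers a := by
    intro a ha hmem
    refine Subgroup.eq_of_le_of_card_ge (Subgroup.zpowers_le.mpr hmem) ?_
    have hd := orderOf_dvd_of_mem_zpowers hmem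
    rw [ha] at hd
    rw [Nat.card_zpowers, Nat.card_zpowers, ha]
    rcases (Nat.dvd_prime Nat.prime_three).mp hd with e | e
    · exact absurd (orderOf_eq_one_iff.mp e) h3
    · omega
  rw [← key k hko h2, key ρ hρ.order h1]

end Setup

end CfsgLib.JComp.FF
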