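import Cfsg.Agent.Lib.JComp.Basic
import Cfsg.Agent.Lib.JComp.Structure
import Cfsg.Agent.Lib.CharP.Locals
import Cfsg.Agent.Lib.PLocal.GlaubermanReplacement
import Cfsg.Agent.Lib.Solvable.Core

/-!
A member `L` of `jOvergroups T` acting on `V = ⟨Ω₁(Z(T))^L⟩ ≤ Ω₁(Z(O₂(L)))`.
-/

set_option autoImplicit false
set_option maxHeartbeats 400000
open Cfsg CfsgLib.PLocal
open scoped commutatorElement

namespace CfsgLib.JComp

variable {G : Type*} [Group G]

/-- The standing hypotheses on `T` and `L`. -/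
structure Ctx (T L : Subgroup G) : Prop where
  two : IsPGroup 2 T
  ne_bot : T ≠ ⊥
  mem : L ∈ jOvergroups T
  locals : ∀ N : Subgroup G, IsTwoLocal N → Group.IsSolvable ↥N
  centralZ : ∀ S : Sylow 2 G, Subgroup.centralizer (omegaCenterOf (S : Subgroup G) : Set G) ≤
    Subgroup.normalizer ((S : Subgroup G) : Set G)

/-- The module `V`. -/
def modV (T L : Subgroup G) : Subgroup G :=
  Subgroup.closure {y | ∃ x ∈ L, ∃ z ∈ omegaCenterOf T, y = x * z * x⁻¹} ⊓ omegaCenterOf (pCoreOf 2 L)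

instance modV_isMulCommutative (T L : Subgroup G) : IsMulCommutative ↥(modV T L) :=
  ⟨⟨fun a b => Subtype.ext ((mem_omegaCenterOf.mp a.2.2).2.1 _ (mem_omegaCenterOf.mp b.2.2).1).symm⟩⟩

noncomputable instance modV_commGroup (T L : Subgroup G) : CommGroup ↥(modV T L) :=
  { (inferInstance : Group ↥(modV T L)) with mul_comm := fun a b => mul_comm' a b }

theorem modV_exp2 {T L : Subgroup G} (v : ↥(modV T L)) : v * v = 1 :=
  Subtype.ext (by rw [Subgroup.coe_mul, ← pow_two]; exact (mem_omegaCenterOf.mp v.2.2).2.2)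

/-- The kernel `C_L(V)`. -/
def modC (T L : Subgroup G) : Subgroup G := L ⊓ Subgroup.centralizer (modV T L : Set G)

theorem conj_closure_mem {S : Set G} {g : G} (h : ∀ y ∈ S, g * y * g⁻¹ ∈ Subgroup.closure S) {y : G}
    (hy : y ∈ Subgroup.closure S) : g * y * g⁻¹ ∈ Subgroup.closure S := by
  induction hy using Subgroup.closure_induction with
  | mem y hy => exact h y hy
  | one => simp
  | mul a b _ _ ha hb =>
    have : g * (a * b) * g⁻¹ = (g * a * g⁻¹) * (g * b * g⁻¹) := by group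
    rw [this]; exact mul_mem ha hb
  | inv a _ ha =>
    have : g * a⁻¹ * g⁻¹ = (g * a * g⁻¹)⁻¹ := by group
    rw [this]; exact inv_mem ha

theorem le_normalizer_of_conj {L X : Subgroup G} (h : ∀ x ∈ L, ∀ y ∈ X, x * y * x⁻¹ ∈ X) :
    L ≤ Subgroup.normalizer (X : Set G) := by
  intro g hg
  rw [Subgroup.mem_normalizer_iff]
  refine fun y => ⟨h g hg y, fun hy => ?_⟩
  have := h g⁻¹ (inv_mem hg) _ hy
  simpa [mul_assoc] using this

theorem relIndex_dvd_index_right {X : Type*} [Group X] [Finite X] (H N : Subgroup X) [N.Normal] :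
    H.relIndex N ∣ H.index := by
  have h := CfsgLib.PLoc.card_sup_mul_card_inf (H := H) (N := N)
    (by rw [Subgroup.normalizer_eq_top]; exact le_top)
  have h1 : Nat.card H * H.relIndex (H ⊔ N) = Nat.card ↥(H ⊔ N) := by
    rw [← Subgroup.relIndex_bot_left, ← Subgroup.relIndex_bot_left,
      Subgroup.relIndex_mul_relIndex _ _ _ bot_le le_sup_left]
  have h2 : Nat.card ↥(H ⊓ N) * H.relIndex N = Nat.card N := by
    rw [← Subgroup.inf_relIndex_right, ← Subgroup.relIndex_bot_left, ← Subgroup.relIndex_bot_left,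
      Subgroup.relIndex_mul_relIndex _ _ _ bot_le inf_le_right]
  rw [← h1, ← h2, mul_assoc] at h
  have h3 := Nat.eq_of_mul_eq_mul_left Nat.card_pos h
  have h4 : H.relIndex (H ⊔ N) = H.relIndex N :=
    Nat.eq_of_mul_eq_mul_right (Nat.card_pos (α := ↥(H ⊓ N))) (by rw [h3, mul_comm])
  rw [← h4]
  exact Subgroup.relIndex_dvd_index_of_le le_sup_left

namespace Ctx

variable [Finite G] {T L : Subgroup G} (c : Ctx T L)

include c

omit [Finite G] in
theorem T_le : T ≤ L := c.mem.1.1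

theorem L_le_normalizer_core : L ≤ Subgroup.normalizer (pCoreOf 2 L : Set G) :=
  Subgroup.le_normalizer.trans (normalizer_le_normalizer_pCoreOf L)

theorem eq_of_two {X : Subgroup G} (hX : IsPGroup 2 X) (hXL : X ≤ L) (hTX : T ≤ X) : X = T := by
  haveI : Fact (Nat.Prime 2) := ⟨Nat.prime_two⟩
  symm
  refine eq_of_le_card_le hTX (Nat.le_of_dvd Nat.card_pos ?_)
  obtain ⟨a, ha⟩ := IsPGroup.iff_card.mp hX
  have h1 : Nat.card X ∣ Nat.card T * T.relIndex L := by
    rw [← Subgroup.relIndex_bot_left T, Subgroup.relIndex_mul_relIndex _ _ _ bot_le c.T_le,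
      Subgroup.relIndex_bot_left]
    exact Subgroup.card_dvd_of_le hXL
  refine (Nat.Coprime.dvd_of_dvd_mul_right ?_ h1)
  rw [ha]
  exact Nat.Coprime.pow_left _ (Nat.coprime_two_left.mpr c.mem.1.2.2)

/-- A 2-subgroup of `L` normalised by `T` lies in `T`. -/
theorem le_T_of_normalized {X : Subgroup G} (hX : IsPGroup 2 X) (hXL : X ≤ L)
    (hn : T ≤ Subgroup.normalizer (X : Set G)) : X ≤ T := by
  have h := c.eq_of_two (IsPGroup.to_sup_of_normal_left' hX c.two hn) (sup_le hXL c.T_le) le_sup_right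
  exact le_sup_left.trans h.le

theorem core_le_T : pCoreOf 2 L ≤ T :=
  c.le_T_of_normalized (pCoreOf_isPGroup L) (pCoreOf_le L) (c.T_le.trans c.L_le_normalizer_core)

theorem core_ne_bot : pCoreOf 2 L ≠ ⊥ := by
  intro h
  apply c.ne_bot
  have h2 := c.mem.2.2
  rw [h] at h2
  rw [eq_bot_iff]
  refine le_trans ?_ h2
  intro t _
  rw [Subgroup.mem_centralizer_iff]
  intro y hy
  rw [SetLike.mem_coe, Subgroup.mem_bot] at hy
  rw [hy, one_mul, mul_one]

theorem solvable : Group.IsSolvable ↥L := by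
  haveI := c.locals _ ⟨_, pCoreOf_isPGroup L, c.core_ne_bot, rfl⟩
  exact Group.isSolvable_of_isSolvable_injective (f := Subgroup.inclusion c.L_le_normalizer_core)
    (Subgroup.inclusion_injective _)

theorem exists_conj_le {X : Subgroup G} (hX : IsPGroup 2 X) (hXL : X ≤ L) :
    ∃ x ∈ L, ∀ y ∈ X, x * y * x⁻¹ ∈ T := by
  haveI : Fact (Nat.Prime 2) := ⟨Nat.prime_two⟩
  have hS : IsPGroup 2 (T.subgroupOf L) := c.two.of_equiv (Subgroup.subgroupOfEquivOfLe c.T_le).symm
  have hidx : ¬ 2 ∣ (T.subgroupOf L).index := fun h => by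
    have := c.mem.1.2.2
    rw [Subgroup.relIndex] at this
    exact Nat.not_even_iff_odd.mpr this (even_iff_two_dvd.mpr h)
  obtain ⟨Q, hQ⟩ := (hX.of_equiv (Subgroup.subgroupOfEquivOfLe hXL).symm).exists_le_sylow
  obtain ⟨x, hx⟩ := MulAction.exists_smul_eq (↥L) Q (hS.toSylow hidx)
  refine ⟨x, x.2, fun y hy => ?_⟩
  have h1 : (⟨y, hXL hy⟩ : ↥L) ∈ (Q : Subgroup ↥L) := hQ hy
  have h2 : x * ⟨y, hXL hy⟩ * x⁻¹ ∈ ((x • Q : Sylow 2 ↥L) : Subgroup ↥L) := by
    rw [Sylow.coe_subgroup_smul, Subgroup.mem_pointwise_smul_iff_inv_smul_mem]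
    simpa [MulAut.smul_def, mul_assoc] using h1
  rw [hx] at h2
  exact h2

theorem thompson_conj_of_le {x : G} (hx : x ∈ L)
    (h : (thompsonSubgroupOf 2 T).map (MulAut.conj x).toMonoidHom ≤ T) :
    (thompsonSubgroupOf 2 T).map (MulAut.conj x).toMonoidHom = thompsonSubgroupOf 2 T := by
  obtain ⟨A, hA⟩ := exists_maxEAIn 2 T
  set e := (MulAut.conj x).toMonoidHom with he
  have hinj : Function.Injective e := (MulAut.conj x).injective
  refine eq_of_le_card_le ?_ (by rw [Subgroup.card_map_of_injective hinj])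
  rw [thompsonSubgroupOf_eq, sSup_eq_iSup', Subgroup.map_iSup]
  refine iSup_le fun B => le_iSup_of_le ⟨B.1.map e, (?_ : B.1.map e ≤ T), isEA_map B.2.2.1 _, fun B' hB' hB'e => ?_⟩ le_rfl
  · refine le_trans (Subgroup.map_mono ?_) h
    rw [thompsonSubgroupOf_eq]; exact le_sSup B.2
  · rw [Subgroup.card_map_of_injective hinj]
    exact B.2.2.2 B' hB' hB'e

/-- `J(T)` is the Thompson subgroup of every 2-subgroup of `L` containing it. -/
theorem thompson_eq {X : Subgroup G} (hX : IsPGroup 2 X) (hXL : X ≤ L)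
    (hJX : thompsonSubgroupOf 2 T ≤ X) : thompsonSubgroupOf 2 X = thompsonSubgroupOf 2 T := by
  obtain ⟨x, hx, hxT⟩ := c.exists_conj_le hX hXL
  set e := (MulAut.conj x).toMonoidHom with he
  have hXT : X.map e ≤ T := by rintro _ ⟨y, hy, rfl⟩; exact hxT y hy
  have hJ := c.thompson_conj_of_le hx (le_trans (Subgroup.map_mono hJX) hXT)
  have h1 : thompsonSubgroupOf 2 T ≤ X.map e := hJ ▸ Subgroup.map_mono hJX
  have h2 : thompsonSubgroupOf 2 (X.map e) = thompsonSubgroupOf 2 T := thompsonSubgroupOf_eq_of_le hXT h1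
  rw [he, ← thompsonSubgroupOf_conj, ← he, ← hJ] at h2
  exact Subgroup.map_injective (MulAut.conj x).injective h2

theorem omega_le_omega_core {z : G} (hz : z ∈ omegaCenterOf T) : z ∈ omegaCenterOf (pCoreOf 2 L) := by
  obtain ⟨hzT, hzc, hz2⟩ := mem_omegaCenterOf.mp hz
  have hzP : z ∈ pCoreOf 2 L :=
    c.mem.2.2 (Subgroup.mem_centralizer_iff.mpr fun y hy => hzc y (c.core_le_T hy))
  exact mem_omegaCenterOf.mpr ⟨hzP, fun y hy => hzc y (c.core_le_T hy), hz2⟩

theorem closure_le_omega :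
    Subgroup.closure {y | ∃ x ∈ L, ∃ z ∈ omegaCenterOf T, y = x * z * x⁻¹} ≤ omegaCenterOf (pCoreOf 2 L) := by
  rw [Subgroup.closure_le]
  rintro y ⟨x, hx, z, hz, rfl⟩
  exact conj_mem_omegaCenterOf (c.L_le_normalizer_core hx) (c.omega_le_omega_core hz)

theorem modV_eq : modV T L = Subgroup.closure {y | ∃ x ∈ L, ∃ z ∈ omegaCenterOf T, y = x * z * x⁻¹} :=
  inf_eq_left.mpr c.closure_le_omega

theorem omega_le_modV {z : G} (hz : z ∈ omegaCenterOf T) : z ∈ modV T L := by
  rw [c.modV_eq]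
  exact Subgroup.subset_closure ⟨1, one_mem _, z, hz, by simp⟩

omit [Finite G] c in
theorem modV_le_core : modV T L ≤ pCoreOf 2 L := fun _ hv => (mem_omegaCenterOf.mp hv.2).1

omit [Finite G] c in
theorem core_le_centralizer_modV : pCoreOf 2 L ≤ Subgroup.centralizer (modV T L : Set G) :=
  fun y hy => Subgroup.mem_centralizer_iff.mpr fun _ hv => ((mem_omegaCenterOf.mp hv.2).2.1 y hy).symm

theorem L_le_normalizer_modV : L ≤ Subgroup.normalizer (modV T L : Set G) := by
  rw [c.modV_eq]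
  refine le_normalizer_of_conj fun g hg y hy => conj_closure_mem ?_ hy
  rintro y ⟨x, hx, z, hz, rfl⟩
  exact Subgroup.subset_closure ⟨g * x, mul_mem hg hx, z, hz, by group⟩

theorem L_le_normalizer_modC : L ≤ Subgroup.normalizer (modC T L : Set G) := by
  refine le_trans (le_inf Subgroup.le_normalizer ?_) Subgroup.inf_normalizer_le_normalizer_inf
  exact c.L_le_normalizer_modV.trans (CfsgLib.CharP.normalizer_le_normalizer_centralizer _)

theorem modC_le_normalizer_T : modC T L ≤ Subgroup.normalizer (T : Set G) := by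
  haveI : Fact (Nat.Prime 2) := ⟨Nat.prime_two⟩
  obtain ⟨S, hS⟩ := c.two.exists_le_sylow
  have hC : modC T L ≤ Subgroup.normalizer ((S : Subgroup G) : Set G) := by
    refine le_trans (fun g hg => Subgroup.mem_centralizer_iff.mpr fun z hz => ?_) (c.centralZ S)
    obtain ⟨hzS, hzc, hz2⟩ := mem_omegaCenterOf.mp hz
    have hzT : z ∈ omegaCenterOf T :=
      mem_omegaCenterOf.mpr ⟨c.core_le_T (c.mem.2.2 (Subgroup.mem_centralizer_iff.mpr
        fun y hy => hzc y (hS (c.core_le_T hy)))), fun y hy => hzc y (hS hy), hz2⟩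
    exact Subgroup.mem_centralizer_iff.mp hg.2 z (c.omega_le_modV hzT)
  have hTS : (S : Subgroup G) ⊓ L = T :=
    c.eq_of_two (S.isPGroup'.to_le inf_le_left) inf_le_right (le_inf hS c.T_le)
  refine le_normalizer_of_conj fun g hg t ht => ?_
  rw [← hTS]
  exact ⟨(Subgroup.mem_normalizer_iff.mp (hC hg) t).mp (hS ht),
    L.mul_mem (L.mul_mem hg.1 (c.T_le ht)) (L.inv_mem hg.1)⟩

/-- A 2-subgroup of `C_L(V)` lies in `O₂(L)`. -/
theorem two_le_core {X : Subgroup G} (hX : IsPGroup 2 X) (hXC : X ≤ modC T L) : X ≤ pCoreOf 2 L := by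
  have h2T : ∀ Y : Subgroup G, IsPGroup 2 Y → Y ≤ modC T L → Y ≤ T := fun Y hY hYC => by
    have h := c.eq_of_two (IsPGroup.to_sup_of_normal_right' hY c.two (hYC.trans c.modC_le_normalizer_T))
      (sup_le (hYC.trans inf_le_left) c.T_le) le_sup_right
    exact le_sup_left.trans h.le
  have hn : L ≤ Subgroup.normalizer ((T ⊓ modC T L : Subgroup G) : Set G) := by
    refine le_normalizer_of_conj fun g hg y hy => ?_
    have hle : (T ⊓ modC T L).map (MulAut.conj g).toMonoidHom ≤ modC T L := by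
      rintro _ ⟨u, hu, rfl⟩
      exact (Subgroup.mem_normalizer_iff.mp (c.L_le_normalizer_modC hg) u).mp hu.2
    exact ⟨h2T _ ((c.two.to_le inf_le_left).map _) hle ⟨y, hy, rfl⟩,
      hle ⟨y, hy, rfl⟩⟩
  refine le_trans (le_inf (h2T X hX hXC) hXC) ?_
  exact CfsgLib.CharP.subgroup_le_pCore_map (inf_le_left.trans c.T_le) hn (c.two.to_le inf_le_left)

theorem core_le_modC : pCoreOf 2 L ≤ modC T L := le_inf (pCoreOf_le L) core_le_centralizer_modV

theorem thompson_not_le_modC : ¬ thompsonSubgroupOf 2 T ≤ modC T L := fun h =>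
  c.mem.2.1 (c.two_le_core (c.two.to_le (thompsonSubgroupOf_le 2 T)) h)

/-- `T` centralises `C_L(V)` modulo `O₂(L)`. -/
theorem comm_T_mem {y t : G} (hy : y ∈ modC T L) (ht : t ∈ T) : ⁅y, t⁆ ∈ pCoreOf 2 L := by
  refine c.two_le_core (c.two.to_le inf_le_left) inf_le_right (?_ : ⁅y, t⁆ ∈ T ⊓ modC T L)
  rw [commutatorElement_def]
  refine ⟨T.mul_mem ((Subgroup.mem_normalizer_iff.mp (c.modC_le_normalizer_T hy) t).mp ht) (T.inv_mem ht), ?_⟩
  rw [mul_assoc y t, mul_assoc y (t * y⁻¹)]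
  exact (modC T L).mul_mem hy ((Subgroup.mem_normalizer_iff.mp (c.L_le_normalizer_modC (c.T_le ht)) _).mp ((modC T L).inv_mem hy))

omit [Finite G] c in
theorem pow_mem_of_conj_closed {X : Subgroup G} {g : G} (hg : g ∈ X) (n : ℕ) : g ^ n ∈ X := pow_mem hg n

/-- `L` as automorphisms of `V`. -/
noncomputable def act : ↥L →* MulAut ↥(modV T L) :=
  (Subgroup.normalizerMonoidHom (modV T L)).comp (Subgroup.inclusion c.L_le_normalizer_modV)

theorem act_apply (x : ↥L) (v : ↥(modV T L)) : ((c.act x v : ↥(modV T L)) : G) = x * v * (x : G)⁻¹ := rfl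

theorem mem_ker_act {x : ↥L} : x ∈ c.act.ker ↔ (x : G) ∈ modC T L := by
  rw [MonoidHom.mem_ker, modC, Subgroup.mem_inf, Subgroup.mem_centralizer_iff]
  constructor
  · refine fun h => ⟨x.2, fun v hv => ?_⟩
    have h2 : (x : G) * v * (x : G)⁻¹ = v := by
      rw [← c.act_apply x ⟨v, hv⟩, h, MulAut.one_apply]
    calc v * (x : G) = (x : G) * v * (x : G)⁻¹ * x := by rw [h2]
      _ = (x : G) * v := by group
  · refine fun h => MulEquiv.ext fun v => Subtype.ext ?_
    rw [MulAut.one_apply, c.act_apply, ← h.2 _ v.2, mul_inv_cancel_right]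

/-- The image. -/
noncomputable def pi : ↥L →* ↥c.act.range := c.act.rangeRestrict

theorem pi_surjective : Function.Surjective c.pi := c.act.rangeRestrict_surjective

theorem pi_eq_one {x : ↥L} : c.pi x = 1 ↔ (x : G) ∈ modC T L := by
  rw [← c.mem_ker_act, MonoidHom.mem_ker, Subtype.ext_iff]
  rfl

/-- The image of `T`. -/
noncomputable def imT : Subgroup ↥c.act.range := (T.subgroupOf L).map c.pi

/-- The image of `J(T)`. -/
noncomputable def imJ : Subgroup ↥c.act.range := ((thompsonSubgroupOf 2 T).subgroupOf L).map c.pi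

theorem pCore_range_eq_bot : Cfsg.pCore 2 ↥c.act.range = ⊥ := by
  haveI : Fact (Nat.Prime 2) := ⟨Nat.prime_two⟩
  set R := Cfsg.pCore 2 ↥c.act.range with hR
  have hRn : R.Normal := CfsgLib.CharP.pCore_normal'
  have hTp : IsPGroup 2 c.imT := (c.two.of_equiv (Subgroup.subgroupOfEquivOfLe c.T_le).symm).map _
  have hodd : Odd c.imT.index := by
    refine Odd.of_dvd_nat ?_ (Subgroup.index_map_dvd (T.subgroupOf L) c.pi_surjective)
    exact c.mem.1.2.2
  haveI := hRn
  have hRT : R ≤ c.imT := by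
    have hp : IsPGroup 2 ↥(R ⊔ c.imT) :=
      IsPGroup.to_sup_of_normal_left CfsgLib.CharP.pCore_isPGroup' hTp
    have heq : c.imT = R ⊔ c.imT := by
      refine eq_of_le_card_le le_sup_right (Nat.le_of_dvd Nat.card_pos ?_)
      obtain ⟨a, ha⟩ := IsPGroup.iff_card.mp hp
      have h1 : Nat.card ↥(R ⊔ c.imT) ∣ Nat.card c.imT * c.imT.index := by
        rw [Subgroup.card_mul_index]; exact Subgroup.card_subgroup_dvd_card _
      refine Nat.Coprime.dvd_of_dvd_mul_right ?_ h1
      rw [ha]; exact Nat.Coprime.pow_left _ (Nat.coprime_two_left.mpr hodd)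
    rw [heq]; exact le_sup_left
  -- the preimage in `T` is normal in `L`
  set X : Subgroup G := T ⊓ (R.comap c.pi).map L.subtype with hX
  have hXn : L ≤ Subgroup.normalizer (X : Set G) := by
    refine le_normalizer_of_conj fun g hg y hy => ?_
    have hcomap : ∀ u ∈ X, g * u * g⁻¹ ∈ (R.comap c.pi).map L.subtype := by
      rintro u ⟨-, u', hu', rfl⟩
      refine ⟨⟨g, hg⟩ * u' * ⟨g, hg⟩⁻¹, ?_, rfl⟩
      rw [SetLike.mem_coe, Subgroup.mem_comap, map_mul, map_mul, map_inv]
      exact hRn.conj_mem _ hu' _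
    have hconj : ∀ u ∈ X, g * u * g⁻¹ ∈ Subgroup.normalizer (T : Set G) := by
      intro u hu
      obtain ⟨w, hw, hwe⟩ := hcomap u hu
      obtain ⟨⟨t, htL⟩, htT, hte⟩ := hRT hw
      have hC : ((⟨t, htL⟩⁻¹ * w : ↥L) : G) ∈ modC T L := by
        rw [← c.pi_eq_one, map_mul, map_inv, hte, inv_mul_cancel]
      rw [← hwe]
      have h2 : (L.subtype w : G) = t * ((⟨t, htL⟩⁻¹ * w : ↥L) : G) := by simp
      rw [h2]
      exact mul_mem (Subgroup.le_normalizer htT) (c.modC_le_normalizer_T hC)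
    have hXp : IsPGroup 2 ↥(X.map (MulAut.conj g).toMonoidHom) := (c.two.to_le inf_le_left).map _
    have hle : X.map (MulAut.conj g).toMonoidHom ≤ T := by
      have h := c.eq_of_two (IsPGroup.to_sup_of_normal_right' hXp c.two (by rintro _ ⟨u, hu, rfl⟩; exact hconj u hu))
        (sup_le (by rintro _ ⟨u, hu, rfl⟩; exact L.mul_mem (L.mul_mem hg (c.T_le hu.1)) (L.inv_mem hg)) c.T_le)
        le_sup_right
      exact le_sup_left.trans h.le
    exact ⟨hle ⟨y, hy, rfl⟩, hcomap y hy⟩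
  have hXP : X ≤ pCoreOf 2 L :=
    CfsgLib.CharP.subgroup_le_pCore_map (inf_le_left.trans c.T_le) hXn (c.two.to_le inf_le_left)
  rw [eq_bot_iff]
  intro r hr
  obtain ⟨⟨t, htL⟩, htT, hte⟩ := hRT hr
  rw [Subgroup.mem_bot, ← hte, c.pi_eq_one]
  exact c.core_le_modC (hXP ⟨htT, ⟨t, htL⟩, by rw [SetLike.mem_coe, Subgroup.mem_comap, hte]; exact hr, rfl⟩)

theorem setup : FF.Setup c.act.range.subtype (Cfsg.fittingSubgroup ↥c.act.range) c.imJ := by
  haveI : Fact (Nat.Prime 2) := ⟨Nat.prime_two⟩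
  haveI := c.solvable
  haveI : Group.IsSolvable ↥c.act.range := Group.isSolvable_of_surjective (f := c.pi) c.pi_surjective
  set F := Cfsg.fittingSubgroup ↥c.act.range with hF
  have hFn : F.Normal := CfsgLib.Solvable.fittingSubgroup_normal _
  have hFnil : Group.IsNilpotent F := CfsgLib.Solvable.fittingSubgroup_isNilpotent _
  have hFc : Subgroup.centralizer (F : Set ↥c.act.range) ≤ F := CfsgLib.Solvable.centralizer_fittingSubgroup_le
  have hodd : Odd (Nat.card F) := by
    rw [← Nat.not_even_iff_odd, even_iff_two_dvd]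
    intro hd
    obtain ⟨S⟩ : Nonempty (Sylow 2 F) := inferInstance
    have h4 : ∀ (p : ℕ) (_ : Fact p.Prime) (P : Sylow p F), (P : Subgroup F).Normal :=
      ((Group.isNilpotent_of_finite_tfae (G := F)).out 0 3).mp hFnil
    haveI := hFn
    haveI : (S : Subgroup F).Characteristic := Sylow.characteristic_of_normal S (h4 2 inferInstance S)
    haveI hSn : ((S : Subgroup F).map F.subtype).Normal :=
      CfsgLib.Solvable.normal_map_subtype_of_characteristic F (S : Subgroup F)
    have hle := CfsgLib.CharP.le_pCore' hSn (S.isPGroup'.map F.subtype)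
    rw [c.pCore_range_eq_bot, le_bot_iff, Subgroup.map_eq_bot_iff_of_injective _ F.subtype_injective] at hle
    exact S.ne_bot_of_dvd_card hd hle
  have hinj : Function.Injective c.act.range.subtype := Subtype.val_injective
  refine ⟨hinj, modV_exp2, hFn, hodd, hFnil, hFc, ?_, ?_⟩
  · exact ((c.two.to_le (thompsonSubgroupOf_le 2 T)).of_equiv
      (Subgroup.subgroupOfEquivOfLe ((thompsonSubgroupOf_le 2 T).trans c.T_le)).symm).map _
  · rw [imJ, Subgroup.map_le_iff_le_comap]
    intro j hj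
    have hj' : (j : G) ∈ sSup (maxEAIn 2 T) := by
      rw [← thompsonSubgroupOf_eq]; exact hj
    have main : ∀ A ∈ maxEAIn 2 T, A ≤
        ((Subgroup.closure {t | t ∈ c.imJ ∧ ∃ v, FF.IsTransvection c.act.range.subtype t v}).comap c.pi).map L.subtype := by
      intro A hA
      obtain ⟨hAT, hAe, hAmax⟩ := hA
      have hAL : A ≤ L := hAT.trans c.T_le
      set Ab := (A.subgroupOf L).map c.pi with hAb
      have hAbe : IsElementaryAbelian 2 Ab := by
        refine isEA_map (isEA_of_map L.subtype_injective ?_) _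
        rw [Subgroup.map_subgroupOf_eq_of_le hAL]; exact hAe
      have hAbJ : Ab ≤ c.imJ := by
        refine Subgroup.map_mono fun a ha => ?_
        rw [Subgroup.mem_subgroupOf] at ha ⊢
        rw [thompsonSubgroupOf_eq]
        exact le_sSup (show A ∈ maxEAIn 2 T from ⟨hAT, hAe, hAmax⟩) ha
      -- the offender inequality
      have hoff : Nat.card ↥(modV T L) ≤
          Nat.card Ab * Nat.card ↥(FF.fixedSub c.act.range.subtype Ab) := by
        let ψ : ↥A →* ↥c.act.range := c.pi.comp (Subgroup.inclusion hAL)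
        have hker : Nat.card ψ.ker = Nat.card ↥(A ⊓ modC T L) := by
          refine Nat.card_congr
            { toFun := fun a => ⟨(a : ↥A), a.1.2, c.pi_eq_one.mp a.2⟩
              invFun := fun a => ⟨⟨a, a.2.1⟩, (c.pi_eq_one (x := ⟨(a : G), hAL a.2.1⟩)).mpr a.2.2⟩
              left_inv := fun a => rfl
              right_inv := fun a => rfl }
        have hrange : ψ.range = Ab := by
          ext y
          constructor
          · rintro ⟨a, rfl⟩
            exact ⟨⟨a, hAL a.2⟩, a.2, rfl⟩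
          · rintro ⟨a, ha, rfl⟩
            exact ⟨⟨a, ha⟩, rfl⟩
        have hcard : Nat.card A = Nat.card ↥(A ⊓ modC T L) * Nat.card Ab := by
          rw [← hker, ← hrange, ← Subgroup.index_ker, Subgroup.card_mul_index]
        have hVe : IsElementaryAbelian 2 (modV T L) :=
          ⟨inferInstance, fun v hv => (mem_omegaCenterOf.mp hv.2).2.2⟩
        have hsup := isEA_sup (isEA_le hAe (inf_le_left : A ⊓ modC T L ≤ A)) hVe fun a ha v hv =>
          (Subgroup.mem_centralizer_iff.mp ha.2.2 v hv).symm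
        have h1 := hAmax _ (sup_le (inf_le_left.trans hAT) (modV_le_core.trans c.core_le_T)) hsup
        have h2 := CfsgLib.PLoc.card_sup_mul_card_inf (H := A ⊓ modC T L) (N := modV T L)
          (inf_le_right.trans (inf_le_left.trans c.L_le_normalizer_modV))
        have h3 : Nat.card ↥((A ⊓ modC T L) ⊓ modV T L) ≤
            Nat.card ↥(FF.fixedSub c.act.range.subtype Ab) := by
          refine Nat.card_le_card_of_injective (fun v => ⟨⟨(v : G), v.2.2⟩, ?_⟩) ?_
          · rw [FF.mem_fixedSub]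
            rintro _ ⟨a, ha, rfl⟩
            apply Subtype.ext
            show (a : G) * v * (a : G)⁻¹ = v
            rw [show (a : G) * v = v * a from congrArg Subtype.val
              (hAe.1.is_comm.comm ⟨a, ha⟩ ⟨v, v.2.1.1⟩), mul_inv_cancel_right]
          · intro u v h
            exact Subtype.ext (congrArg (fun w => ((w : ↥(modV T L)) : G)) (congrArg Subtype.val h))
        refine Nat.le_of_mul_le_mul_left ?_ (Nat.card_pos (α := ↥(A ⊓ modC T L)))
        rw [← h2, ← mul_assoc, ← hcard]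
        exact Nat.mul_le_mul h1 h3
      have hgen := FF.offender_le_closure hinj modV_exp2 hFn hodd hFc hAbe hoff
      intro a ha
      refine ⟨⟨a, hAL ha⟩, ?_, rfl⟩
      rw [SetLike.mem_coe, Subgroup.mem_comap]
      refine Subgroup.closure_mono ?_ (hgen ⟨⟨a, hAL ha⟩, ha, rfl⟩)
      rintro t ⟨ht, hv⟩
      exact ⟨hAbJ ht, hv⟩
    obtain ⟨j', hj'', hje⟩ := sSup_le main hj'
    obtain rfl : j' = j := Subtype.ext hje
    exact hj''

/-- `planeGroup` of the action. -/
noncomputable def planeN : Subgroup ↥c.act.range :=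
  FF.planeGroup c.act.range.subtype (Cfsg.fittingSubgroup ↥c.act.range) c.imJ

/-- The preimage of the plane group. -/
noncomputable def preN : Subgroup G := (c.planeN.comap c.pi).map L.subtype

theorem preN_le : c.preN ≤ L := Subgroup.map_subtype_le _

theorem L_le_normalizer_preN : L ≤ Subgroup.normalizer (c.preN : Set G) := by
  have hN : c.planeN.Normal := c.setup.planeGroup_normal
  have hN' : (c.planeN.comap c.pi).Normal := hN.comap c.pi
  rw [preN]
  generalize c.planeN.comap c.pi = Q at hN' ⊢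
  refine le_normalizer_of_conj fun g hg y hy => ?_
  rw [Subgroup.mem_map] at hy ⊢
  obtain ⟨y', hy', rfl⟩ := hy
  refine ⟨⟨g, hg⟩ * y' * ⟨g, hg⟩⁻¹, hN'.conj_mem y' hy' _, ?_⟩
  simp only [map_mul, map_inv, Subgroup.subtype_apply]

theorem modC_le_preN : modC T L ≤ c.preN := fun y hy => by
  refine ⟨⟨y, hy.1⟩, ?_, rfl⟩
  rw [SetLike.mem_coe, Subgroup.mem_comap, c.pi_eq_one.mpr hy]
  exact one_mem _

/-- The Frattini argument: `L = preN · (L ∩ N(J(T)))`. -/
theorem frattini {x : G} (hx : x ∈ L) :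
    ∃ n ∈ c.preN, ∃ y ∈ L, y ∈ Subgroup.normalizer (thompsonSubgroupOf 2 T : Set G) ∧ x = n * y := by
  haveI : Fact (Nat.Prime 2) := ⟨Nat.prime_two⟩
  have hset := c.setup
  set J := thompsonSubgroupOf 2 T with hJ
  have hJT : J ≤ T := thompsonSubgroupOf_le 2 T
  set X0 : Subgroup ↥L := (Subgroup.normalClosure (c.imJ : Set ↥c.act.range)).comap c.pi with hX0
  haveI : X0.Normal := Subgroup.Normal.comap Subgroup.normalClosure_normal c.pi
  -- a Sylow subgroup of `X0`
  set TX : Subgroup ↥L := T.subgroupOf L ⊓ X0 with hTX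
  set M : Subgroup ↥L := c.planeN.comap c.pi ⊔ TX with hM
  haveI hNn : c.planeN.Normal := hset.planeGroup_normal
  haveI : (c.planeN.comap c.pi).Normal := hNn.comap _
  have hcomm : ∀ u ∈ X0, ∀ v ∈ X0, ⁅u, v⁆ ∈ c.planeN.comap c.pi := fun u hu v hv => by
    rw [Subgroup.mem_comap, map_commutatorElement]
    exact (hset.normalClosure_mod hu hv).2
  have hNX : c.planeN.comap c.pi ≤ X0 := by
    refine Subgroup.comap_mono ?_
    rw [planeN, FF.planeGroup, Subgroup.closure_le]
    rintro _ ⟨t, ⟨-, z, hz⟩, q, -, rfl⟩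
    have ht : t ∈ Subgroup.normalClosure (c.imJ : Set ↥c.act.range) := by
      have h1 := Subgroup.normalClosure_normal.conj_mem _ (Subgroup.subset_normalClosure hz) z⁻¹
      have h2 : z⁻¹ * (z * t * z⁻¹) * z⁻¹⁻¹ = t := by group
      rwa [h2] at h1
    rw [SetLike.mem_coe, commutatorElement_def, mul_assoc t q, mul_assoc t (q * t⁻¹)]
    exact mul_mem ht (Subgroup.normalClosure_normal.conj_mem _ (inv_mem ht) q)
  have hMX : M ≤ X0 := sup_le hNX inf_le_right
  have hX0M : X0 ≤ M := by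
    intro u hu
    -- `M` is normal of odd index in `X0`
    haveI hn : (M.subgroupOf X0).Normal := by
      refine Subgroup.normal_subgroupOf_of_le_normalizer (le_normalizer_of_conj fun a ha b hb => ?_)
      have h1 : a * b * a⁻¹ = ⁅a, b⁆ * b := by rw [commutatorElement_def]; group
      rw [h1]
      exact mul_mem (Subgroup.mem_sup_left (hcomm a ha b (hMX hb))) hb
    have hodd : Odd (M.subgroupOf X0).index := by
      have h1 : Odd (TX.relIndex X0) := by
        rw [hTX, Subgroup.inf_relIndex_right]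
        refine Odd.of_dvd_nat ?_ (relIndex_dvd_index_right (T.subgroupOf L) X0)
        exact c.mem.1.2.2
      exact Odd.of_dvd_nat h1 (Subgroup.relIndex_dvd_of_le_left X0 le_sup_right)
    have h2 : (⟨u, hu⟩ : ↥X0) ^ 2 ∈ M.subgroupOf X0 := by
      rw [Subgroup.mem_subgroupOf, pow_two]
      refine Subgroup.mem_sup_left ?_
      show c.pi (u * u) ∈ c.planeN
      rw [map_mul]
      exact (hset.normalClosure_mod hu hu).1
    have hq : (QuotientGroup.mk (⟨u, hu⟩ : ↥X0) : ↥X0 ⧸ M.subgroupOf X0) = 1 := by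
      rw [← orderOf_eq_one_iff]
      refine Nat.eq_one_of_dvd_coprimes (Nat.coprime_two_left.mpr hodd) ?_ ?_
      · rw [orderOf_dvd_iff_pow_eq_one, ← QuotientGroup.mk_pow, QuotientGroup.eq_one_iff]; exact h2
      · rw [Subgroup.index_eq_card]; exact orderOf_dvd_natCard _
    rw [QuotientGroup.eq_one_iff] at hq
    exact hq
  -- `J^x` in `X0`
  set xL : ↥L := ⟨x, hx⟩
  set JL : Subgroup ↥L := J.subgroupOf L with hJL
  have hJX : ∀ j ∈ JL, xL * j * xL⁻¹ ∈ X0 := fun j hj => by
    rw [Subgroup.mem_comap, map_mul, map_mul, map_inv]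
    exact Subgroup.normalClosure_normal.conj_mem _ (Subgroup.subset_normalClosure (show c.pi j ∈ (c.imJ : Set ↥c.act.range) from ⟨j, hj, rfl⟩)) _
  have hp : IsPGroup 2 ↥((JL.map (MulAut.conj xL).toMonoidHom).subgroupOf X0) := by
    refine IsPGroup.comap_subtype ?_
    exact (((c.two.to_le hJT).of_equiv (Subgroup.subgroupOfEquivOfLe (hJT.trans c.T_le)).symm)).map _
  have hTXp : IsPGroup 2 ↥(TX.subgroupOf X0) :=
    ((c.two.of_equiv (Subgroup.subgroupOfEquivOfLe c.T_le).symm).to_le inf_le_left).comap_subtype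
  have hTXi : ¬ 2 ∣ (TX.subgroupOf X0).index := fun hd => by
    have h1 : Odd (TX.relIndex X0) := by
      rw [hTX, Subgroup.inf_relIndex_right]
      refine Odd.of_dvd_nat ?_ (relIndex_dvd_index_right (T.subgroupOf L) X0)
      exact c.mem.1.2.2
    exact Nat.not_even_iff_odd.mpr h1 (even_iff_two_dvd.mpr hd)
  obtain ⟨Q, hQ⟩ := hp.exists_le_sylow
  obtain ⟨d, hd⟩ := MulAction.exists_smul_eq (↥X0) Q (hTXp.toSylow hTXi)
  have hdec : (d : ↥L)⁻¹ ∈ M := hX0M (inv_mem d.2)
  rw [← SetLike.mem_coe, hM, Subgroup.normal_mul] at hdec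
  obtain ⟨n, hn, t, ht, hnt⟩ := hdec
  simp only at hnt
  refine ⟨n, ⟨n, hn, rfl⟩, (n : G)⁻¹ * x, mul_mem (inv_mem n.2) hx, ?_, by group⟩
  have hconj : ∀ j ∈ J, ((n : G)⁻¹ * x) * j * ((n : G)⁻¹ * x)⁻¹ ∈ T := by
    intro j hj
    set jL : ↥L := ⟨j, c.T_le (hJT hj)⟩
    have h1 : (⟨xL * jL * xL⁻¹, hJX jL hj⟩ : ↥X0) ∈ (Q : Subgroup ↥X0) := hQ ⟨jL, hj, rfl⟩
    have h2 : d * ⟨xL * jL * xL⁻¹, hJX jL hj⟩ * d⁻¹ ∈ ((d • Q : Sylow 2 ↥X0) : Subgroup ↥X0) := by
      rw [Sylow.coe_subgroup_smul, Subgroup.mem_pointwise_smul_iff_inv_smul_mem]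
      simpa [MulAut.smul_def, mul_assoc] using h1
    rw [hd] at h2
    have h3 : ((d : ↥L) : G) * (x * j * x⁻¹) * ((d : ↥L) : G)⁻¹ ∈ T := h2.1
    have hd' : ((d : ↥L) : G) = (t : G)⁻¹ * (n : G)⁻¹ := by
      have := congrArg (fun z : ↥L => (z : G)) hnt
      simp only [Subgroup.coe_mul, Subgroup.coe_inv] at this
      rw [← inv_inv ((d : ↥L) : G), ← this, mul_inv_rev]
    rw [hd'] at h3
    have h4 : ((n : G)⁻¹ * x) * j * ((n : G)⁻¹ * x)⁻¹ =
        (t : G) * ((t : G)⁻¹ * (n : G)⁻¹ * (x * j * x⁻¹) * ((t : G)⁻¹ * (n : G)⁻¹)⁻¹) * (t : G)⁻¹ := by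
      group
    rw [h4]
    exact mul_mem (mul_mem ht.1 h3) (inv_mem ht.1)
  have heq := c.thompson_conj_of_le (x := (n : G)⁻¹ * x) (mul_mem (inv_mem n.2) hx) (by
    rintro _ ⟨j, hj, rfl⟩; exact hconj j hj)
  exact mem_normalizer_of_map_conj_eq heq

end Ctx

end CfsgLib.JComp
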