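import Cfsg.Agent.Lib.JComp.Twin

/-!
The structure of `T` for two exchanged components, and a criterion forcing `J(S) ≤ T`.
-/

set_option autoImplicit false
set_option maxHeartbeats 1000000
open Cfsg CfsgLib.PLocal
open scoped commutatorElement

namespace CfsgLib.JComp

variable {G : Type*} [Group G] [Finite G]

theorem conj_centralizer {T K : Subgroup G} {g x : G} (hg : g ∈ Subgroup.normalizer (T : Set G))
    (hx : x ∈ T ⊓ Subgroup.centralizer (wOf K : Set G)) :
    g * x * g⁻¹ ∈ T ⊓ Subgroup.centralizer (wOf (K.map (MulAut.conj g).toMonoidHom) : Set G) := by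
  obtain ⟨h1, h2⟩ := Subgroup.mem_inf.mp hx
  refine Subgroup.mem_inf.mpr ⟨(Subgroup.mem_normalizer_iff.mp hg x).mp h1,
    Subgroup.mem_centralizer_iff.mpr ?_⟩
  rw [← wOf_map]
  rintro _ ⟨v, hv, rfl⟩
  simp only [MulEquiv.coe_toMonoidHom, MulAut.conj_apply]
  calc g * v * g⁻¹ * (g * x * g⁻¹) = g * (v * x) * g⁻¹ := by group
    _ = g * (x * v) * g⁻¹ := by rw [Subgroup.mem_centralizer_iff.mp h2 v hv]
    _ = _ := by group

namespace Twin

variable {M T K L : Subgroup G} {y : G} (t : Twin M T K L y)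

include t

/-- If some `u ≠ 1, w` squares to one, and is moved within `⟨w⟩` by the Sylow group `S`,
then `J(S) = J(T)` and `Ω₁(Z(J(T)))` has order 4. -/
theorem thompson_eq_of_element (S : Sylow 2 G) (hTS : T ≤ (S : Subgroup G)) (hyS : y ∈ (S : Subgroup G))
    (hyL : y ∉ L)
    (hu : ∀ w ∈ omegaCenterOf (S : Subgroup G), w ≠ 1 →
      (∀ z ∈ omegaCenterOf (S : Subgroup G), z = 1 ∨ z = w) →
      ∃ u ∈ (S : Subgroup G), u * u = 1 ∧ u ≠ 1 ∧ u ≠ w ∧
        ∀ s ∈ (S : Subgroup G), s * u * s⁻¹ = u ∨ s * u * s⁻¹ = u * w) :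
    thompsonSubgroupOf 2 (S : Subgroup G) = thompsonSubgroupOf 2 T ∧
      Nat.card ↥(omegaCenterOf (thompsonSubgroupOf 2 T)) = 4 := by
  haveI : Fact (Nat.Prime 2) := ⟨Nat.prime_two⟩
  obtain ⟨w, a, b, hwZ, hwW, hw1, hyw, ha, hb, hab⟩ := t.noncommute
  obtain ⟨h, w₀, hh, -, -, -, hhu, hwu, h12, hall⟩ := omega_cases t.pos.two t.pos.comp t.small
  have ew : w₀ = w := ((hwu w ⟨hwZ, hwW⟩).resolve_left hw1).symm
  simp only [ew] at hall
  set K' := K.map (MulAut.conj y).toMonoidHom with hK'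
  have q := t.pos
  have q' := t.pos'
  have hn := t.norm
  have hn' := t.norm'
  have hwW' : w ∈ wOf K' := by rw [← hyw]; exact wOf_conj_mem hwW
  have hyh : h ≠ 1 → y * h * y⁻¹ = h * w := by
    intro h1
    have hyhZ := conj_mem_omega_thompson t.yT (Subgroup.mem_inf.mp hh).1
    rcases hall _ hyhZ with e | e | e | e
    · exact absurd ((MulAut.conj y).injective (by simpa using e)) h1
    · exfalso
      refine hyL (q.centralizer_le (Subgroup.mem_inf.mp hh).1 (Subgroup.mem_inf.mp hh).2 h1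
        (Subgroup.mem_centralizer_singleton_iff.mpr ?_))
      calc y * h = y * h * y⁻¹ * y := by group
        _ = h * y := by rw [e]
    · exfalso
      have e' : y * h * y⁻¹ = y * w * y⁻¹ := by rw [e, hyw]
      have h2 : h = w := (MulAut.conj y).injective e'
      exact hw1 (eq_one_of_mem_hyp_wOf q.comp (h2 ▸ hh) hwW)
    · exact e
  -- fixed points of `y`
  have hfix : ∀ z ∈ omegaCenterOf (thompsonSubgroupOf 2 T), y * z * y⁻¹ = z → z = 1 ∨ z = w := by
    intro z hz hzy
    rcases hall z hz with e | e | e | e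
    · exact Or.inl e
    · by_cases h1 : h = 1
      · exact Or.inl (e.trans h1)
      · exfalso
        rw [e, hyh h1] at hzy
        exact hw1 (mul_left_cancel (hzy.trans (mul_one h).symm))
    · exact Or.inr e
    · by_cases h1 : h = 1
      · right; rw [e, h1, one_mul]
      · exfalso
        rw [e] at hzy
        have : h * w * w = h * w := by
          calc h * w * w = (y * h * y⁻¹) * (y * w * y⁻¹) := by rw [hyh h1, hyw]
            _ = y * (h * w) * y⁻¹ := by group
            _ = h * w := hzy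
        exact hw1 (mul_left_cancel (this.trans (mul_one _).symm))
  have hZS : ∀ z ∈ omegaCenterOf (S : Subgroup G), z = 1 ∨ z = w := fun z hz => hfix z
    (omega_le_omega_thompson (q.omega_over hTS hz))
    (by rw [(mem_omegaCenterOf.mp hz).2.1 y hyS, mul_inv_cancel_right])
  obtain ⟨z, hz, hz1⟩ := (Subgroup.bot_or_exists_ne_one _).resolve_left
    (omegaCenterOf_ne_bot S.isPGroup' (ne_bot_of_le_ne_bot q.ne_bot hTS))
  have hwS : w ∈ omegaCenterOf (S : Subgroup G) := by rwa [← (hZS z hz).resolve_left hz1]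
  obtain ⟨u, huS, hu2, hu1, huw, husS⟩ := hu w hwS hw1 hZS
  have haT := wOf_le_T q hn ha
  have hbT := wOf_le_T q' hn' hb
  have ha2 : a * a = 1 := q.comp.2.2.2.2.2 a ha
  have hb2 : b * b = 1 := q'.comp.2.2.2.2.2 b hb
  have haZ : a ∈ modZ T K := Subgroup.mem_sup_right ha
  have hbZ : b ∈ modZ T K' := Subgroup.mem_sup_right hb
  have hwc : ∀ x ∈ T, Commute x w := fun x hx => q.omega_central hn t.small hwZ hx
  have hcomm : ⁅a, b⁆ = w := (comm_modZ q hn t.small hwZ hwW hw1 hbT haZ).resolve_left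
    fun e => hab (commutatorElement_eq_one_iff_mul_comm.mp e)
  have hcomm' : ⁅b, a⁆ = w := (comm_modZ q' hn' t.small hwZ hwW' hw1 haT hbZ).resolve_left
    fun e => hab (commutatorElement_eq_one_iff_mul_comm.mp e).symm
  set Q := T ⊓ Subgroup.centralizer (wOf K : Set G) with hQ
  set Q' := T ⊓ Subgroup.centralizer (wOf K' : Set G) with hQ'
  -- an element commuting with a moved element centralises the four-group
  have gencent : ∀ {A : Subgroup G} {a' : G}, IsJComponent T A → w ∈ wOf A → a' ∈ wOf A → a' ≠ 1 →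
      a' ≠ w → ∀ x ∈ T, Commute x a' → x ∈ T ⊓ Subgroup.centralizer (wOf A : Set G) := by
    intro A a' hAc hwA ha' ha1 haw x hx hxa
    refine Subgroup.mem_inf.mpr ⟨hx, Subgroup.mem_centralizer_iff.mpr fun v hv => ?_⟩
    by_cases h1 : v = 1
    · rw [h1, one_mul, mul_one]
    by_cases h2 : v = w
    · rw [h2]; exact (hwc x hx).eq.symm
    have hv2 : v * v = 1 := hAc.2.2.2.2.2 v hv
    rcases wOf_mul_mem hAc hwA hw1 ha' hv ha1 haw h1 h2 with e | e
    · have : v = a' := by
        rw [← inv_eq_of_mul_eq_one_right (hAc.2.2.2.2.2 a' ha'), inv_eq_of_mul_eq_one_right e]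
      rw [this]; exact hxa.eq.symm
    · have : v = a' * w := by rw [← e, ← mul_assoc, hAc.2.2.2.2.2 a' ha', one_mul]
      rw [this]; exact (hxa.mul_right (hwc x hx)).eq.symm
  have ha1 : a ≠ 1 := fun e => hab (e ▸ Commute.one_left b)
  have hb1 : b ≠ 1 := fun e => hab (e ▸ Commute.one_right a)
  have haw : a ≠ w := fun e => hab (e ▸ (hwc b hbT).symm)
  have hbw : b ≠ w := fun e => hab (e ▸ hwc a haT)
  have hQmem : ∀ x ∈ T, Commute x a → x ∈ Q := fun x hx hc =>
    gencent q.comp hwW ha ha1 haw x hx hc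
  have hQ'mem : ∀ x ∈ T, Commute x b → x ∈ Q' := fun x hx hc =>
    gencent q'.comp hwW' hb hb1 hbw x hx hc
  have hsplit : ∀ {a' b' : G}, a' * a' = 1 → b' ∈ T → ⁅a', b'⁆ = w →
      (∀ v ∈ T, ⁅a', v⁆ = 1 ∨ ⁅a', v⁆ = w) →
      ∀ x ∈ T, Commute x a' ∨ Commute (x * b') a' := by
    intro a' b' _ hb' hc hall' x hx
    rcases hall' x hx with e | e
    · exact Or.inl (commutatorElement_eq_one_iff_mul_comm.mp e).symm
    · right
      have h1 : ⁅a', x * b'⁆ = ⁅a', x⁆ * (x * ⁅a', b'⁆ * x⁻¹) := by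
        simp only [commutatorElement_def]; group
      rw [e, hc, (hwc x hx).eq, mul_inv_cancel_right, mul_self_of_mem_omega hwZ] at h1
      exact (commutatorElement_eq_one_iff_mul_comm.mp h1).symm
  have hQsplit : ∀ x ∈ T, x ∈ Q ∨ x * b ∈ Q := fun x hx =>
    (hsplit ha2 hbT hcomm (fun v hv => comm_modZ q hn t.small hwZ hwW hw1 hv haZ) x hx).imp
      (hQmem x hx) (hQmem _ (T.mul_mem hx hbT))
  have hQ'split : ∀ x ∈ T, x ∈ Q' ∨ x * a ∈ Q' := fun x hx =>
    (hsplit hb2 haT hcomm' (fun v hv => comm_modZ q' hn' t.small hwZ hwW' hw1 hv hbZ) x hx).imp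
      (hQ'mem x hx) (hQ'mem _ (T.mul_mem hx haT))
  have hQa : ∀ x ∈ Q, Commute x a := fun x hx =>
    (Subgroup.mem_centralizer_iff.mp (Subgroup.mem_inf.mp hx).2 a ha).symm
  have hQ'b : ∀ x ∈ Q', Commute x b := fun x hx =>
    (Subgroup.mem_centralizer_iff.mp (Subgroup.mem_inf.mp hx).2 b hb).symm
  have haQ : a ∈ Q := hQmem a haT (Commute.refl a)
  have hbQ : b ∈ Q' := hQ'mem b hbT (Commute.refl b)
  set D := Q ⊓ Q' with hD
  have hQD : ∀ x ∈ Q, x ∈ D ∨ x * a ∈ D := fun x hx =>
    (hQ'split x (Subgroup.mem_inf.mp hx).1).imp (fun h => ⟨hx, h⟩) (fun h => ⟨Q.mul_mem hx haQ, h⟩)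
  have hQ'D : ∀ x ∈ Q', x ∈ D ∨ x * b ∈ D := fun x hx =>
    (hQsplit x (Subgroup.mem_inf.mp hx).1).imp (fun h => ⟨h, hx⟩) (fun h => ⟨h, Q'.mul_mem hx hbQ⟩)
  -- squares
  have hsq : ∀ {A : Subgroup G} {a' : G}, a' ∈ A → a' * a' = 1 →
      (∀ x ∈ A, Commute x a') → (∀ x ∈ A, x ∈ D ∨ x * a' ∈ D) →
      ∀ x ∈ A, ∃ d ∈ D, d * d = x * x := by
    intro A a' _ h2 hc hs x hx
    rcases hs x hx with h | h
    · exact ⟨x, h, rfl⟩
    · refine ⟨_, h, ?_⟩
      calc x * a' * (x * a') = x * (a' * x) * a' := by group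
        _ = x * (x * a') * a' := by rw [(hc x hx).eq]
        _ = x * x * (a' * a') := by group
        _ = x * x := by rw [h2, mul_one]
  set Φ := Subgroup.closure {v | ∃ d ∈ D, v = d * d} with hΦ
  have hΦn : ∀ {A : Subgroup G} {L' : Subgroup G} {a' : G}, Pos M T A L' →
      T ≤ Subgroup.normalizer (A : Set G) → D ≤ T ⊓ Subgroup.centralizer (wOf A : Set G) →
      a' ∈ T ⊓ Subgroup.centralizer (wOf A : Set G) → a' * a' = 1 →
      (∀ x ∈ T ⊓ Subgroup.centralizer (wOf A : Set G), Commute x a') →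
      (∀ x ∈ T ⊓ Subgroup.centralizer (wOf A : Set G), x ∈ D ∨ x * a' ∈ D) →
      A ⊔ T ≤ Subgroup.normalizer (Φ : Set G) := by
    intro A L' a' qA hA hDA ha'Q h2 hc hs
    refine le_normalizer_of_conj fun k hk v hv => ?_
    have hPW : A ⊔ T ≤ Subgroup.normalizer (wOf A : Set G) :=
      sup_le (Subgroup.le_normalizer.trans (normalizer_le_normalizer_wOf A))
        (hA.trans (normalizer_le_normalizer_wOf A))
    have hkQ : ∀ x ∈ T ⊓ Subgroup.centralizer (wOf A : Set G),
        k * x * k⁻¹ ∈ T ⊓ Subgroup.centralizer (wOf A : Set G) := by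
      intro x hx
      obtain ⟨hx1, hx2⟩ := Subgroup.mem_inf.mp hx
      have hc' : k * x * k⁻¹ ∈ Subgroup.centralizer (wOf A : Set G) :=
        (Subgroup.mem_normalizer_iff.mp ((hPW.trans
          (CfsgLib.CharP.normalizer_le_normalizer_centralizer (wOf A))) hk) x).mp hx2
      exact Subgroup.mem_inf.mpr ⟨centralizer_wOf_le_T qA hA t.small (Subgroup.mem_inf.mpr
        ⟨mul_mem (mul_mem hk (Subgroup.mem_sup_right hx1)) (inv_mem hk), hc'⟩), hc'⟩
    have hle : Φ ≤ Φ.comap (MulAut.conj k).toMonoidHom := by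
      refine (Subgroup.closure_le _).mpr ?_
      rintro _ ⟨d, hd, rfl⟩
      obtain ⟨e, he, hee⟩ := hsq ha'Q h2 hc hs _ (hkQ d (hDA hd))
      refine Subgroup.subset_closure ⟨e, he, ?_⟩
      rw [hee]
      simp only [MulEquiv.coe_toMonoidHom, MulAut.conj_apply]
      group
    exact hle hv
  have hΦ1 : Φ = ⊥ := t.core (q.two.to_le ((Subgroup.closure_le _).mpr (by
      rintro _ ⟨d, hd, rfl⟩
      exact T.mul_mem (Subgroup.mem_inf.mp (Subgroup.mem_inf.mp hd).1).1
        (Subgroup.mem_inf.mp (Subgroup.mem_inf.mp hd).1).1)))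
    (hΦn q hn inf_le_left haQ ha2 hQa hQD) (hΦn q' hn' inf_le_right hbQ hb2 hQ'b hQ'D)
  have hd2 : ∀ d ∈ D, d * d = 1 := fun d hd => by
    rw [← Subgroup.mem_bot, ← hΦ1]; exact Subgroup.subset_closure ⟨d, hd, rfl⟩
  have hQ2 : ∀ x ∈ Q, x * x = 1 := fun x hx => by
    obtain ⟨d, hd, he⟩ := hsq haQ ha2 hQa hQD x hx
    rw [← he]; exact hd2 d hd
  have hQ'2 : ∀ x ∈ Q', x * x = 1 := fun x hx => by
    obtain ⟨d, hd, he⟩ := hsq hbQ hb2 hQ'b hQ'D x hx
    rw [← he]; exact hd2 d hd
  have hQc : ∀ {A : Subgroup G}, (∀ x ∈ A, x * x = 1) → ∀ x ∈ A, ∀ x' ∈ A, x * x' = x' * x := by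
    intro A h x hx x' hx'
    calc x * x' = (x * x')⁻¹ := (inv_eq_of_mul_eq_one_right (h _ (A.mul_mem hx hx'))).symm
      _ = x'⁻¹ * x⁻¹ := mul_inv_rev _ _
      _ = x' * x := by rw [inv_eq_of_mul_eq_one_right (h x hx), inv_eq_of_mul_eq_one_right (h x' hx')]
  -- `D` is central in `T`
  have hDc : ∀ d ∈ D, ∀ x ∈ T, Commute x d := by
    intro d hd x hx
    obtain ⟨hdQ, hdQ'⟩ := Subgroup.mem_inf.mp hd
    rcases hQsplit x hx with h | h
    · exact hQc hQ2 x h d hdQ
    · have h1 : Commute (x * b) d := hQc hQ2 _ h d hdQ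
      have h2 : Commute b d := (hQ'b d hdQ').symm
      have := h1.mul_left h2
      rwa [mul_assoc, hb2, mul_one] at this
  have hDZ : ∀ d ∈ D, d ∈ omegaCenterOf (thompsonSubgroupOf 2 T) := fun d hd =>
    omega_le_omega_thompson (mem_omegaCenterOf.mpr
      ⟨(Subgroup.mem_inf.mp (Subgroup.mem_inf.mp hd).1).1, fun x hx => hDc d hd x hx,
        by rw [pow_two]; exact hd2 d hd⟩)
  -- an involution of `T` lies in `Q` or `Q'`
  have hinv : ∀ x ∈ T, x * x = 1 → x ∈ Q ∨ x ∈ Q' := by
    intro x hx hx2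
    by_contra hno
    push Not at hno
    have e := (hQsplit x hx).resolve_left hno.1
    have hne : x * b ∉ Q' := fun h => hno.2 (by
      have := Q'.mul_mem h hbQ
      rwa [mul_assoc, hb2, mul_one] at this)
    have hd : x * b * a ∈ D := (hQD _ e).resolve_left fun h => hne (Subgroup.mem_inf.mp h).2
    set d := x * b * a with hdd
    have hxe : x = d * (a * b) := by
      calc x = x * b * (a * a) * b := by rw [ha2, mul_one, mul_assoc, hb2, mul_one]
        _ = _ := by rw [hdd]; group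
    have hdab : Commute d (a * b) := (hDc d hd _ (T.mul_mem haT hbT)).symm
    have : a * b * (a * b) = 1 := by
      rw [hxe] at hx2
      calc a * b * (a * b) = (d * d) * (a * b * (a * b)) := by rw [hd2 d hd, one_mul]
        _ = d * (d * (a * b)) * (a * b) := by group
        _ = d * ((a * b) * d) * (a * b) := by rw [hdab.eq]
        _ = d * (a * b) * (d * (a * b)) := by group
        _ = 1 := hx2
    apply hw1
    rw [← hcomm, commutatorElement_def, inv_eq_of_mul_eq_one_right ha2, inv_eq_of_mul_eq_one_right hb2,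
      mul_assoc (a * b), this]
  have hQy : ∀ x ∈ Q, y * x * y⁻¹ ∈ Q' := fun x hx => conj_centralizer t.yT hx
  have hQ'y : ∀ x ∈ Q', y * x * y⁻¹ ∈ Q := by
    intro x hx
    have := conj_centralizer t.yT hx
    rw [Subgroup.map_map, show (MulAut.conj y).toMonoidHom.comp (MulAut.conj y).toMonoidHom =
      (MulAut.conj (y * y)).toMonoidHom by ext z; simp [mul_assoc],
      map_conj_eq_of_mem_normalizer (hn t.sq)] at this
    exact this
  -- `N(Q)` meets `S` in `T`
  have hwQ : w ∈ Q := hQmem w (thompsonSubgroupOf_le 2 T (mem_omegaCenterOf.mp hwZ).1) (hwc a haT).symm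
  have hQn : K ⊔ T ≤ Subgroup.normalizer (Q : Set G) := by
    refine le_normalizer_of_conj fun k hk x hx => ?_
    obtain ⟨hx1, hx2⟩ := Subgroup.mem_inf.mp hx
    have hPW : K ⊔ T ≤ Subgroup.normalizer (wOf K : Set G) :=
      sup_le (Subgroup.le_normalizer.trans (normalizer_le_normalizer_wOf K))
        (hn.trans (normalizer_le_normalizer_wOf K))
    have hc' : k * x * k⁻¹ ∈ Subgroup.centralizer (wOf K : Set G) :=
      (Subgroup.mem_normalizer_iff.mp ((hPW.trans
        (CfsgLib.CharP.normalizer_le_normalizer_centralizer (wOf K))) hk) x).mp hx2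
    exact Subgroup.mem_inf.mpr ⟨centralizer_wOf_le_T q hn t.small (Subgroup.mem_inf.mpr
      ⟨mul_mem (mul_mem hk (Subgroup.mem_sup_right hx1)) (inv_mem hk), hc'⟩), hc'⟩
  have hNL : Subgroup.normalizer (Q : Set G) ≤ L := q.le_of_two_local
    ⟨Q, q.two.to_le inf_le_left, fun e => hw1 (Subgroup.mem_bot.mp (e ▸ hwQ)), rfl⟩
    ((sup_le_sup_left (thompsonSubgroupOf_le 2 T) K).trans hQn)
  have hSL : ∀ x ∈ (S : Subgroup G), x ∈ L → x ∈ T := fun x hxS hxL => by
    have h1 := q.ctx.eq_of_two (S.isPGroup'.to_le (sup_le hTS (Subgroup.zpowers_le.mpr hxS)))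
      (sup_le q.sylow.1 (Subgroup.zpowers_le.mpr hxL)) le_sup_left
    exact h1 ▸ Subgroup.mem_sup_right (Subgroup.mem_zpowers x)
  have huT : u ∈ T := by
    refine hSL u huS (hNL ?_)
    have key : ∀ x ∈ Q, u * x * u⁻¹ ∈ Q := by
      intro x hx
      have hxS := hTS (Subgroup.mem_inf.mp hx).1
      have hui : u⁻¹ = u := inv_eq_of_mul_eq_one_right hu2
      rcases husS x hxS with e | e
      · have : u * x = x * u := by
          calc u * x = x * u * x⁻¹ * x := by rw [e]
            _ = x * u := by group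
        rw [this, mul_inv_cancel_right]; exact hx
      · have hwu : w * u = u * w := ((mem_omegaCenterOf.mp hwS).2.1 u huS).symm
        have : u * x * u⁻¹ = w * x := by
          have h9 : x * u = u * w * x := by
            calc x * u = x * u * x⁻¹ * x := by group
              _ = u * w * x := by rw [e]
          rw [hui]
          calc u * x * u = u * (x * u) := mul_assoc _ _ _
            _ = (u * u) * (w * x) := by rw [h9]; group
            _ = w * x := by rw [hu2, one_mul]
        rw [this]; exact Q.mul_mem hwQ hx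
    rw [Subgroup.mem_normalizer_iff]
    refine fun x => ⟨key x, fun hx => ?_⟩
    have := key _ hx
    have h2 : u * (u * x * u⁻¹) * u⁻¹ = x := by
      calc u * (u * x * u⁻¹) * u⁻¹ = (u * u) * x * (u * u)⁻¹ := by group
        _ = x := by rw [hu2]; group
    rwa [h2] at this
  have huD : u ∈ D := by
    have hyu : ∀ {A : Subgroup G}, w ∈ A → y * u * y⁻¹ ∈ A → u ∈ A := by
      intro A hwA h'
      rcases husS y hyS with e | e <;> rw [e] at h'
      · exact h'
      · simpa using A.mul_mem h' (A.inv_mem hwA)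
    have hwQ' : w ∈ Q' := hQ'mem w (thompsonSubgroupOf_le 2 T (mem_omegaCenterOf.mp hwZ).1) (hwc b hbT).symm
    rcases hinv u huT hu2 with h' | h'
    · exact ⟨h', hyu hwQ' (hQy u h')⟩
    · exact ⟨hyu hwQ (hQ'y u h'), h'⟩
  have h1 : h ≠ 1 := by
    intro e
    rcases hall u (hDZ u huD) with e' | e' | e' | e'
    · exact hu1 e'
    · exact hu1 (e'.trans e)
    · exact huw e'
    · exact huw (by rw [e', e, one_mul])
  -- centraliser of `u`
  have hsT : ∀ s ∈ (S : Subgroup G), s * u * s⁻¹ = u → s ∈ T := by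
    intro s hs hsu
    have hsw : s * w = w * s := (mem_omegaCenterOf.mp hwS).2.1 s hs
    have hsh : Commute s h := by
      have hsu' : Commute s u := by
        rw [commute_iff_eq]
        calc s * u = s * u * s⁻¹ * s := by group
          _ = u * s := by rw [hsu]
      rcases hall u (hDZ u huD) with e' | e' | e' | e'
      · exact absurd e' hu1
      · rwa [← e']
      · exact absurd e' huw
      · have he : h = u * w := by rw [e', mul_assoc, mul_self_of_mem_omega hwZ, mul_one]
        rw [he]; exact hsu'.mul_right hsw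
    exact hSL s hs (q.centralizer_le (Subgroup.mem_inf.mp hh).1 (Subgroup.mem_inf.mp hh).2 h1
      (Subgroup.mem_centralizer_singleton_iff.mpr hsh.eq))
  have hyu : y * u * y⁻¹ = u * w := (husS y hyS).resolve_left fun e => hyL (q.sylow.1 (hsT y hyS e))
  have hwu : w * u = u * w := ((mem_omegaCenterOf.mp hwS).2.1 u huS).symm
  have houtside : ∀ s ∈ (S : Subgroup G), s ∉ T → ∃ s' ∈ T, s = y * s' := by
    intro s hs hsn
    refine ⟨y⁻¹ * s, hsT _ (mul_mem (inv_mem hyS) hs) ?_, by group⟩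
    have e := (husS s hs).resolve_left fun e => hsn (hsT s hs e)
    calc y⁻¹ * s * u * (y⁻¹ * s)⁻¹ = y⁻¹ * (s * u * s⁻¹) * y := by group
      _ = y⁻¹ * (y * u * y⁻¹) * y := by rw [e, hyu]
      _ = u := by group
  -- largest elementary abelian subgroups of `S` lie in `T`
  have hAT : ∀ A ∈ maxEAIn 2 (S : Subgroup G), A ≤ T := by
    intro A hA
    by_contra hAn
    obtain ⟨hAS, hAe, hAmax⟩ := hA
    obtain ⟨s, hsA, hsn⟩ := SetLike.not_le_iff_exists.mp hAn
    obtain ⟨s', hs', hse⟩ := houtside s (hAS hsA) hsn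
    have hA2 : ∀ x ∈ A, x * x = 1 := fun x hx => by rw [← pow_two]; exact hAe.2 x hx
    have hAc := hQc hA2
    -- `A ∩ T` is `{1, w}`
    have hAT2 : ∀ x ∈ A, x ∈ T → x = 1 ∨ x = w := by
      intro x hx hxT
      have hTQ : T ≤ Subgroup.normalizer (Q : Set G) := le_sup_right.trans hQn
      have hsx : s * x * s⁻¹ = x := by rw [hAc s hsA x hx, mul_inv_cancel_right]
      have hin : x ∈ D := by
        rcases hinv x hxT (hA2 x hx) with h' | h'
        · refine ⟨h', ?_⟩
          rw [← hsx, hse, show y * s' * x * (y * s')⁻¹ = y * (s' * x * s'⁻¹) * y⁻¹ by group]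
          exact hQy _ ((Subgroup.mem_normalizer_iff.mp (hTQ hs') x).mp h')
        · refine ⟨?_, h'⟩
          have hs'Q : s' * x * s'⁻¹ ∈ Q' :=
            (Subgroup.mem_normalizer_iff.mp ((le_inf Subgroup.le_normalizer (hn'.trans
              ((normalizer_le_normalizer_wOf K').trans
                (CfsgLib.CharP.normalizer_le_normalizer_centralizer _)))).trans
              Subgroup.inf_normalizer_le_normalizer_inf hs') x).mp h'
          rw [← hsx, hse, show y * s' * x * (y * s')⁻¹ = y * (s' * x * s'⁻¹) * y⁻¹ by group]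
          exact hQ'y _ hs'Q
      refine hfix x (hDZ x hin) ?_
      have hs'x : s' * x * s'⁻¹ = x := by rw [(hDc x hin s' hs').eq, mul_inv_cancel_right]
      calc y * x * y⁻¹ = y * (s' * x * s'⁻¹) * y⁻¹ := by rw [hs'x]
        _ = y * s' * x * (y * s')⁻¹ := by group
        _ = x := by rw [← hse]; exact hsx
    have hA4 : Nat.card A ≤ 4 := by
      classical
      have hsub : (A : Set G) ⊆ ({1, w, s, s * w} : Finset G) := by
        intro x hx
        simp only [Finset.coe_insert, Finset.coe_singleton, Set.mem_insert_iff, Set.mem_singleton_iff]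
        by_cases hxT : x ∈ T
        · rcases hAT2 x hx hxT with e | e <;> simp [e]
        · obtain ⟨x', hx', hxe⟩ := houtside x (hAS hx) hxT
          have hsx : s * x ∈ T := by
            have h9 : s * x = (y * s' * y⁻¹) * (y * y) * x' := by rw [hse, hxe]; group
            rw [h9]
            exact T.mul_mem (T.mul_mem ((Subgroup.mem_normalizer_iff.mp t.yT s').mp hs') t.sq) hx'
          rcases hAT2 _ (A.mul_mem hsA hx) hsx with e | e
          · right; right; left
            rw [← inv_eq_of_mul_eq_one_right (hA2 s hsA)]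
            exact (inv_eq_of_mul_eq_one_right e).symm
          · right; right; right
            rw [← e, ← mul_assoc, hA2 s hsA, one_mul]
      have h5 := Set.ncard_le_ncard hsub (Finset.finite_toSet _)
      rw [Set.ncard_coe_finset, ← Nat.card_coe_set_eq] at h5
      exact h5.trans Finset.card_le_four
    have hQe : IsElementaryAbelian 2 Q :=
      ⟨⟨⟨fun x x' => Subtype.ext (hQc hQ2 x x.2 x' x'.2)⟩⟩, fun x hx => by rw [pow_two]; exact hQ2 x hx⟩
    have h5 : 5 ≤ Nat.card Q := by
      classical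
      have hhQ : h ∈ Q := hQmem h (thompsonSubgroupOf_le 2 T (mem_omegaCenterOf.mp (hyp_le T K hh)).1)
        (hyp_commute_wOf hh ha (wOf_le K ha)).symm
      have hsub : ({1, w, a, a * w, h} : Finset G) ⊆ (Q : Set G).toFinite.toFinset := by
        intro x hx
        simp only [Finset.mem_insert, Finset.mem_singleton] at hx
        rw [Set.Finite.mem_toFinset]
        rcases hx with rfl | rfl | rfl | rfl | rfl
        · exact one_mem _
        · exact hwQ
        · exact haQ
        · exact Q.mul_mem haQ hwQ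
        · exact hhQ
      have hc := Finset.card_le_card hsub
      rw [← Set.ncard_eq_toFinset_card _ (Q : Set G).toFinite, ← Nat.card_coe_set_eq] at hc
      have hW : ∀ v ∈ wOf K, h ≠ v := fun v hv e => h1 (eq_one_of_mem_hyp_wOf q.comp hh (e ▸ hv))
      have haw1 : a * w ≠ 1 := fun e => haw (by
        rw [← inv_eq_of_mul_eq_one_right ha2, inv_eq_of_mul_eq_one_right e])
      have h55 : ({1, w, a, a * w, h} : Finset G).card = 5 := by
        simp [Finset.card_insert_of_notMem, Ne.symm hw1, Ne.symm ha1, Ne.symm haw1, Ne.symm h1,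
          Ne.symm haw, (hW w hwW).symm, (hW a ha).symm, (hW _ (mul_mem ha hwW)).symm, hw1,
          show w ≠ a * w from fun e => ha1 (mul_right_cancel ((one_mul w).trans e).symm),
          show a ≠ a * w from fun e => hw1 (mul_left_cancel ((mul_one a).trans e).symm)]
      rw [h55] at hc
      exact hc
    have := hAmax Q (inf_le_left.trans hTS) hQe
    omega
  have h4 : Nat.card ↥(omegaCenterOf (thompsonSubgroupOf 2 T)) = 4 := by
    have e2 : Nat.card ↥(omegaCenterOf (thompsonSubgroupOf 2 T)) ≠ 2 := fun e => h1 (h12.mpr e)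
    have h5 : Nat.card ↥(omegaCenterOf (thompsonSubgroupOf 2 T)) = 2 * Nat.card ↥(hyp T K) :=
      card_omega_eq q.two q.comp
    have h6 : Nat.card ↥(omegaCenterOf (thompsonSubgroupOf 2 T)) ≤ 4 := t.small
    have h7 : 0 < Nat.card ↥(hyp T K) := Nat.card_pos
    clear * - e2 h5 h6 h7
    omega
  refine ⟨(thompsonSubgroupOf_eq_of_le hTS ?_).symm, h4⟩
  rw [thompsonSubgroupOf_eq]
  exact sSup_le hAT

end Twin

end CfsgLib.JComp
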