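import Cfsg.Agent.Lib.JComp.Basic
import Cfsg.Agent.Lib.CharP.Locals
import Cfsg.Agent.Lib.PLocal.GlaubermanReplacement

/-!
Splitting of `Ω₁(Z(J(T)))` over the four-group of a `J(T)`-component.
-/

set_option autoImplicit false
open Cfsg CfsgLib.PLocal
open scoped commutatorElement

namespace CfsgLib.JComp

variable {G : Type*} [Group G] [Finite G] {T K : Subgroup G}

theorem thompson_isPGroup (hT : IsPGroup 2 T) : IsPGroup 2 (thompsonSubgroupOf 2 T) :=
  hT.to_le (thompsonSubgroupOf_le 2 T)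

theorem inf_thompson (hT : IsPGroup 2 T) (hK : IsJComponent T K) :
    K ⊓ thompsonSubgroupOf 2 T = pCoreOf 2 K ⊓ thompsonSubgroupOf 2 T :=
  le_antisymm
    (le_inf (mem_pCoreOf_of_two_group hK ((thompson_isPGroup hT).to_le inf_le_right) inf_le_left)
      inf_le_right)
    (inf_le_inf_right _ (pCoreOf_le K))

theorem card_sup_eq (hT : IsPGroup 2 T) (hK : IsJComponent T K) :
    Nat.card ↥(K ⊔ thompsonSubgroupOf 2 T) = 3 * Nat.card ↥(pCoreOf 2 K ⊔ thompsonSubgroupOf 2 T) := by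
  have key : ∀ A : Subgroup G, thompsonSubgroupOf 2 T ≤ Subgroup.normalizer (A : Set G) →
      Nat.card ↥(A ⊔ thompsonSubgroupOf 2 T) * Nat.card ↥(A ⊓ thompsonSubgroupOf 2 T) =
        Nat.card A * Nat.card ↥(thompsonSubgroupOf 2 T) := by
    intro A hA
    rw [sup_comm, inf_comm, CfsgLib.PLoc.card_sup_mul_card_inf hA, mul_comm]
  have h1 := key K (thompson_le_normalizer hK)
  have h2 := key (pCoreOf 2 K)
    (le_trans (thompson_le_normalizer hK) (normalizer_le_normalizer_pCoreOf K))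
  have h3 : Nat.card K = 3 * Nat.card ↥(pCoreOf 2 K) := by
    rw [← Subgroup.relIndex_bot_left, ← Subgroup.relIndex_bot_left,
      ← Subgroup.relIndex_mul_relIndex _ _ _ bot_le (pCoreOf_le K), hK.2.2.1, mul_comm]
  rw [inf_thompson hT hK, h3, mul_assoc, ← h2, ← mul_assoc] at h1
  exact Nat.eq_of_mul_eq_mul_right Nat.card_pos h1

theorem isPGroup_pCore_sup (hT : IsPGroup 2 T) (hK : IsJComponent T K) :
    IsPGroup 2 ↥(pCoreOf 2 K ⊔ thompsonSubgroupOf 2 T) :=
  IsPGroup.to_sup_of_normal_left' (pCoreOf_isPGroup K) (thompson_isPGroup hT)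
    (le_trans (thompson_le_normalizer hK) (normalizer_le_normalizer_pCoreOf K))

theorem isSylowTwoIn_pCore_sup (hT : IsPGroup 2 T) (hK : IsJComponent T K) :
    IsSylowTwoIn (pCoreOf 2 K ⊔ thompsonSubgroupOf 2 T) (K ⊔ thompsonSubgroupOf 2 T) := by
  have hle : pCoreOf 2 K ⊔ thompsonSubgroupOf 2 T ≤ K ⊔ thompsonSubgroupOf 2 T :=
    sup_le_sup_right (pCoreOf_le K) _
  refine ⟨hle, isPGroup_pCore_sup hT hK, ?_⟩
  have h := Subgroup.relIndex_mul_relIndex _ _ _ bot_le hle
  rw [Subgroup.relIndex_bot_left, Subgroup.relIndex_bot_left, card_sup_eq hT hK,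
    mul_comm (3 : ℕ)] at h
  rw [Nat.eq_of_mul_eq_mul_left Nat.card_pos h]
  exact ⟨1, rfl⟩

theorem thompson_pCore_sup (hT : IsPGroup 2 T) (hK : IsJComponent T K) :
    thompsonSubgroupOf 2 (pCoreOf 2 K ⊔ thompsonSubgroupOf 2 T) = thompsonSubgroupOf 2 T :=
  hK.2.2.2.1 _ (isSylowTwoIn_pCore_sup hT hK) le_sup_right

theorem pCoreOf_le_normalizer_thompson (hT : IsPGroup 2 T) (hK : IsJComponent T K) :
    pCoreOf 2 K ≤ Subgroup.normalizer (thompsonSubgroupOf 2 T : Set G) := by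
  have h := normalizer_le_normalizer_thompsonSubgroupOf (p := 2) (pCoreOf 2 K ⊔ thompsonSubgroupOf 2 T)
  rw [thompson_pCore_sup hT hK] at h
  exact le_sup_left.trans (Subgroup.le_normalizer.trans h)

theorem sup_le_normalizer_wOf (hK : IsJComponent T K) :
    K ⊔ thompsonSubgroupOf 2 T ≤ Subgroup.normalizer (wOf K : Set G) :=
  sup_le (Subgroup.le_normalizer.trans (normalizer_le_normalizer_wOf K))
    ((thompson_le_normalizer hK).trans (normalizer_le_normalizer_wOf K))

/-- `R = C_{KJ}(W)` is a normal 2-subgroup of `KJ` inside `O₂(K)J`. -/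
theorem centralizer_inf_le (hT : IsPGroup 2 T) (hK : IsJComponent T K) :
    IsPGroup 2 ↥((K ⊔ thompsonSubgroupOf 2 T) ⊓ Subgroup.centralizer (wOf K : Set G)) ∧
      K ⊔ thompsonSubgroupOf 2 T ≤ Subgroup.normalizer
        (((K ⊔ thompsonSubgroupOf 2 T) ⊓ Subgroup.centralizer (wOf K : Set G) : Subgroup G) : Set G) ∧
      (K ⊔ thompsonSubgroupOf 2 T) ⊓ Subgroup.centralizer (wOf K : Set G) ≤
        pCoreOf 2 K ⊔ thompsonSubgroupOf 2 T := by
  set J := thompsonSubgroupOf 2 T with hJ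
  set W := wOf K with hW
  set R := (K ⊔ J) ⊓ Subgroup.centralizer (W : Set G) with hR
  obtain ⟨ρ, hρK, ho, hρP, hgen⟩ := exists_rho hK
  have hn : K ⊔ J ≤ Subgroup.normalizer (R : Set G) := by
    refine le_trans (le_inf Subgroup.le_normalizer ?_) Subgroup.inf_normalizer_le_normalizer_inf
    exact (sup_le_normalizer_wOf hK).trans (CfsgLib.CharP.normalizer_le_normalizer_centralizer W)
  have hpR : IsPGroup 2 R := by
    rintro ⟨x, hxKJ, hxC⟩
    have hJK := thompson_le_normalizer hK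
    have hxKJ' : x ∈ ((K ⊔ J : Subgroup G) : Set G) := hxKJ
    rw [Subgroup.coe_mul_of_right_le_normalizer_left K J hJK] at hxKJ'
    obtain ⟨k, hk, j, hj, rfl⟩ := hxKJ'
    have hpow : ∀ m : ℕ, ∃ k' ∈ K, (k * j) ^ m = k' * j ^ m := by
      intro m
      induction m with
      | zero => exact ⟨1, one_mem _, by simp⟩
      | succ m ih =>
        obtain ⟨k', hk', he⟩ := ih
        refine ⟨k' * (j ^ m * k * (j ^ m)⁻¹), mul_mem hk'
          ((Subgroup.mem_normalizer_iff.mp (hJK (pow_mem hj m)) k).mp hk), ?_⟩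
        rw [pow_succ, he, pow_succ]; group
    obtain ⟨a, ha⟩ := thompson_isPGroup hT ⟨j, hj⟩
    have ha' : j ^ 2 ^ a = 1 := by simpa using congrArg Subtype.val ha
    obtain ⟨k', hk', he⟩ := hpow (2 ^ a)
    rw [ha', mul_one] at he
    have hkC : k' ∈ Subgroup.centralizer (W : Set G) := by
      rw [← he]; exact pow_mem hxC _
    -- `k'` lies in `O₂(K)`
    obtain ⟨y, hy, m, rfl⟩ := hgen k' hk'
    have hyC : y ∈ Subgroup.centralizer (W : Set G) :=
      Subgroup.mem_centralizer_iff.mpr fun w hw => (wOf_central hw hy).symm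
    have hρm : ρ ^ m ∈ Subgroup.centralizer (W : Set G) := by
      have := mul_mem (inv_mem hyC) hkC
      rwa [inv_mul_cancel_left] at this
    have hP : y * ρ ^ m ∈ pCoreOf 2 K := by
      by_cases h3 : 3 ∣ m
      · obtain ⟨c, rfl⟩ := h3
        rw [← ho, pow_mul, pow_orderOf_eq_one, one_pow, mul_one]
        exact hy
      · exfalso
        have hco : Nat.Coprime m (orderOf ρ) := by
          rw [ho]; exact ((Nat.Prime.coprime_iff_not_dvd Nat.prime_three).mpr h3).symm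
        obtain ⟨l, hl⟩ := exists_pow_eq_self_of_coprime hco
        have hρC : ρ ∈ Subgroup.centralizer (W : Set G) := by rw [← hl]; exact pow_mem hρm l
        have hall : ∀ w ∈ W, w = 1 := fun w hw => by
          refine eq_one_of_wOf_fixed hK hρK ho hgen hw ?_
          rw [← Subgroup.mem_centralizer_iff.mp hρC w hw, mul_inv_cancel_right]
        have h4 := hK.2.2.2.2.1
        rw [← hW, (Subgroup.eq_bot_iff_forall _).mpr hall, Subgroup.card_bot] at h4
        omega
    obtain ⟨b, hb⟩ := pCoreOf_isPGroup K ⟨_, hP⟩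
    refine ⟨a + b, Subtype.ext ?_⟩
    have hb' : (y * ρ ^ m) ^ 2 ^ b = 1 := by simpa using congrArg Subtype.val hb
    simp only [SubmonoidClass.coe_pow, OneMemClass.coe_one]
    rw [pow_add, pow_mul]
    rw [show ((fun x1 x2 => x1 * x2) k j) ^ 2 ^ a = y * ρ ^ m from he, hb']
  refine ⟨hpR, hn, ?_⟩
  set S := pCoreOf 2 K ⊔ J with hS
  have hSn : S ≤ Subgroup.normalizer (R : Set G) := le_trans (sup_le_sup_right (pCoreOf_le K) _) hn
  have hp : IsPGroup 2 ↥(R ⊔ S) :=
    IsPGroup.to_sup_of_normal_left' hpR (isPGroup_pCore_sup hT hK) hSn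
  obtain ⟨a, ha⟩ := IsPGroup.iff_card.mp hp
  obtain ⟨b, hb⟩ := IsPGroup.iff_card.mp (isPGroup_pCore_sup hT hK)
  have hd : Nat.card ↥(R ⊔ S) ∣ 3 * Nat.card ↥S := by
    rw [← card_sup_eq hT hK]
    exact Subgroup.card_dvd_of_le (sup_le inf_le_left (sup_le_sup_right (pCoreOf_le K) _))
  have hd' : Nat.card ↥(R ⊔ S) ∣ Nat.card ↥S := by
    refine Nat.Coprime.dvd_of_dvd_mul_left ?_ hd
    rw [ha]; exact Nat.Coprime.pow_left _ (by norm_num)
  exact (eq_of_le_card_le (le_sup_right : S ≤ R ⊔ S) (Nat.le_of_dvd Nat.card_pos hd')).symm ▸ le_sup_left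

/-- The exchange: a largest elementary abelian subgroup `A` of `O₂(K)J` not centralising `W`
gives another one, `(A ∩ C(W))W`, inside `C(W)`. -/
theorem exchange (hT : IsPGroup 2 T) (hK : IsJComponent T K) {A : Subgroup G}
    (hA : A ∈ maxEAIn 2 (pCoreOf 2 K ⊔ thompsonSubgroupOf 2 T))
    (hAC : ¬ A ≤ Subgroup.centralizer (wOf K : Set G)) :
    (A ⊓ Subgroup.centralizer (wOf K : Set G)) ⊔ wOf K ∈
        maxEAIn 2 (pCoreOf 2 K ⊔ thompsonSubgroupOf 2 T) ∧
      (A ⊓ Subgroup.centralizer (wOf K : Set G)) ⊔ wOf K ≤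
        (K ⊔ thompsonSubgroupOf 2 T) ⊓ Subgroup.centralizer (wOf K : Set G) := by
  set J := thompsonSubgroupOf 2 T with hJ
  set W := wOf K with hW
  set C := Subgroup.centralizer (W : Set G) with hC
  obtain ⟨hAX, hAe, hAmax⟩ := hA
  have hA2 : ∀ a ∈ A, a * a = 1 := fun a ha => by rw [← pow_two]; exact hAe.2 a ha
  have hAW : A ≤ Subgroup.normalizer (W : Set G) :=
    hAX.trans ((sup_le_sup_right (pCoreOf_le K) _).trans (sup_le_normalizer_wOf hK))
  have cW : ∀ u ∈ W, ∀ v ∈ W, u * v = v * u := fun u hu v hv =>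
    wOf_central hv (wOf_le_pCoreOf K hu)
  have hWe : IsElementaryAbelian 2 W :=
    ⟨⟨⟨fun u v => Subtype.ext (cW _ u.2 _ v.2)⟩⟩, fun u hu => by rw [pow_two]; exact hK.2.2.2.2.2 u hu⟩
  have hsup : IsElementaryAbelian 2 ((A ⊓ C) ⊔ W) :=
    isEA_sup (isEA_le hAe inf_le_left) hWe fun a ha w hw =>
      (Subgroup.mem_centralizer_iff.mp (Subgroup.mem_inf.mp ha).2 w hw).symm
  have hWS : W ≤ pCoreOf 2 K ⊔ J := (wOf_le_pCoreOf K).trans le_sup_left
  have hle : (A ⊓ C) ⊔ W ≤ pCoreOf 2 K ⊔ J := sup_le (inf_le_left.trans hAX) hWS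
  refine ⟨⟨hle, hsup, fun B hB hBe => le_trans (hAmax B hB hBe) ?_⟩, ?_⟩
  · -- the order count
    obtain ⟨a₀, ha₀, ha₀C⟩ := SetLike.not_le_iff_exists.mp hAC
    obtain ⟨w, hw, hwne⟩ : ∃ w ∈ W, a₀ * w * a₀⁻¹ ≠ w := by
      by_contra hall
      push Not at hall
      refine ha₀C (Subgroup.mem_centralizer_iff.mpr fun w hw => ?_)
      calc w * a₀ = a₀ * w * a₀⁻¹ * a₀ := by rw [hall w hw]
        _ = a₀ * w := by group
    set w' := a₀ * w * a₀⁻¹ with hw'
    have hw'W : w' ∈ W := (Subgroup.mem_normalizer_iff.mp (hAW ha₀) w).mp hw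
    have haw' : a₀ * w' * a₀⁻¹ = w := by
      rw [hw']
      have h : a₀ * (a₀ * w * a₀⁻¹) * a₀⁻¹ = (a₀ * a₀) * w * (a₀ * a₀)⁻¹ := by group
      rw [h, hA2 a₀ ha₀]; group
    have hw1 : w ≠ 1 := fun h => hwne (by rw [hw', h]; group)
    have hw'1 : w' ≠ 1 := fun h => hw1 (by rw [← haw', h]; group)
    have hW4 : ∀ v ∈ W, v = 1 ∨ v = w ∨ v = w' ∨ v = w * w' := by
      classical
      intro v hv
      by_contra hne
      push Not at hne
      obtain ⟨h1, h2, h3, h4⟩ := hne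
      have hsub : ({1, w, w', w * w', v} : Finset G) ⊆ (W : Set G).toFinite.toFinset := by
        intro y hy
        simp only [Finset.mem_insert, Finset.mem_singleton] at hy
        rw [Set.Finite.mem_toFinset]
        rcases hy with rfl | rfl | rfl | rfl | rfl
        · exact one_mem _
        · exact hw
        · exact hw'W
        · exact mul_mem hw hw'W
        · exact hv
      have hcard := Finset.card_le_card hsub
      have hc4 : (W : Set G).toFinite.toFinset.card = 4 := by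
        rw [← Set.ncard_eq_toFinset_card _ (W : Set G).toFinite, ← Nat.card_coe_set_eq]
        exact hK.2.2.2.2.1
      have hprod : w * w' ≠ 1 := fun h => hwne (by
        rw [mul_eq_one_iff_inv_eq] at h
        rw [← h, inv_eq_of_mul_eq_one_right (hK.2.2.2.2.2 w hw)])
      have hp1 : w * w' ≠ w := fun h => hw'1 (mul_left_cancel (h.trans (mul_one w).symm))
      have hp2 : w * w' ≠ w' := fun h => hw1 (mul_right_cancel (h.trans (one_mul w').symm))
      rw [hc4] at hcard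
      have h5 : ({1, w, w', w * w', v} : Finset G).card = 5 := by
        simp [Finset.card_insert_of_notMem, Ne.symm hw1, Ne.symm hw'1, Ne.symm hprod, Ne.symm hp1,
          Ne.symm hp2, Ne.symm h1, Ne.symm h2, Ne.symm h3, Ne.symm h4, Ne.symm hwne]
      omega
    -- every element of `A` outside `C` agrees with `a₀` on `W`
    have hswap : ∀ a ∈ A, a ∉ C → a * a₀ ∈ C := by
      intro a ha haC
      have hcomm : a * a₀ = a₀ * a :=
        congrArg Subtype.val (hAe.1.is_comm.comm ⟨a, ha⟩ ⟨a₀, ha₀⟩)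
      have hprod : a₀ * (w * w') * a₀⁻¹ = w * w' := by
        calc a₀ * (w * w') * a₀⁻¹ = (a₀ * w * a₀⁻¹) * (a₀ * w' * a₀⁻¹) := by group
          _ = w' * w := by rw [← hw', haw']
          _ = w * w' := cW _ hw'W _ hw
      have hmul : ∀ u v : G, a * (u * v) * a⁻¹ = (a * u * a⁻¹) * (a * v * a⁻¹) := fun u v => by group
      have hinj : ∀ u v : G, a * u * a⁻¹ = a * v * a⁻¹ → u = v := fun u v h => (MulAut.conj a).injective h
      have hcc : ∀ u : G, a₀ * (a * u * a⁻¹) * a₀⁻¹ = a * (a₀ * u * a₀⁻¹) * a⁻¹ := fun u => by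
        calc a₀ * (a * u * a⁻¹) * a₀⁻¹ = (a₀ * a) * u * (a₀ * a)⁻¹ := by group
          _ = (a * a₀) * u * (a * a₀)⁻¹ := by rw [hcomm]
          _ = a * (a₀ * u * a₀⁻¹) * a⁻¹ := by group
      have hwa : a * w * a⁻¹ = w' := by
        rcases hW4 _ ((Subgroup.mem_normalizer_iff.mp (hAW ha) w).mp hw) with h | h | h | h
        · exact absurd (hinj w 1 (by rw [h]; group)) hw1
        · exfalso
          apply haC
          have h' : a * w' * a⁻¹ = w' := by rw [hw', ← hcc, h]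
          refine Subgroup.mem_centralizer_iff.mpr fun v hv => ?_
          have hv' : a * v * a⁻¹ = v := by
            rcases hW4 v hv with rfl | rfl | rfl | rfl
            · group
            · exact h
            · exact h'
            · rw [hmul, h, h']
          calc v * a = a * v * a⁻¹ * a := by rw [hv']
            _ = a * v := by group
        · exact h
        · exfalso
          refine hwne (hinj w' w ?_)
          rw [h, hw', ← hcc, h, hprod]
      have hwa' : a * w' * a⁻¹ = w := by rw [hw', ← hcc, hwa, haw']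
      refine Subgroup.mem_centralizer_iff.mpr fun v hv => ?_
      have hv' : a * (a₀ * v * a₀⁻¹) * a⁻¹ = v := by
        rcases hW4 v hv with rfl | rfl | rfl | rfl
        · group
        · rw [← hw', hwa']
        · rw [haw', hwa]
        · rw [hprod, hmul, hwa, hwa', cW _ hw'W _ hw]
      calc v * (a * a₀) = a * (a₀ * v * a₀⁻¹) * a⁻¹ * (a * a₀) := by rw [hv']
        _ = a * a₀ * v := by group
    have hidx : (A ⊓ C).relIndex A ≤ 2 := by
      have h : ∀ b, b ∈ A → (b * a₀ ∈ A ⊓ C ∨ b ∈ A ⊓ C) := fun b hb => by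
        by_cases hbC : b ∈ C
        · exact Or.inr ⟨hb, hbC⟩
        · exact Or.inl ⟨mul_mem hb ha₀, hswap b hb hbC⟩
      have : ((A ⊓ C).subgroupOf A).index ≤ 2 := by
        rw [Subgroup.index_eq_card, ← Nat.card_fin 2]
        refine Nat.card_le_card_of_surjective
          (fun i : Fin 2 => ((if i = 0 then 1 else ⟨a₀, ha₀⟩ : ↥A) : ↥A ⧸ (A ⊓ C).subgroupOf A)) ?_
        intro q
        obtain ⟨⟨b, hb⟩, rfl⟩ := QuotientGroup.mk_surjective q
        rcases h b hb with h1 | h1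
        · refine ⟨1, ?_⟩
          rw [QuotientGroup.eq, Subgroup.mem_subgroupOf]
          simp only [one_ne_zero, if_false]
          rw [show ((⟨a₀, ha₀⟩⁻¹ * ⟨b, hb⟩ : ↥A) : G) = b * a₀ by
            simp only [Subgroup.coe_mul, Subgroup.coe_inv]
            rw [inv_eq_of_mul_eq_one_right (hA2 a₀ ha₀)]
            exact congrArg Subtype.val (hAe.1.is_comm.comm ⟨a₀, ha₀⟩ ⟨b, hb⟩)]
          exact h1
        · refine ⟨0, ?_⟩
          rw [QuotientGroup.eq, Subgroup.mem_subgroupOf]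
          simpa using h1
      exact this
    have hAcard : Nat.card A ≤ 2 * Nat.card ↥(A ⊓ C) := by
      rw [← Subgroup.relIndex_bot_left, ← Subgroup.relIndex_bot_left,
        ← Subgroup.relIndex_mul_relIndex _ _ _ bot_le (inf_le_left : A ⊓ C ≤ A), mul_comm 2]
      exact Nat.mul_le_mul_left _ hidx
    -- `w` is outside `A ∩ C`
    have hwA : w ∉ A ⊓ C := fun h => hwne (by
      have := congrArg Subtype.val (hAe.1.is_comm.comm ⟨a₀, ha₀⟩ ⟨w, (Subgroup.mem_inf.mp h).1⟩)
      simp only [Subgroup.coe_mul] at this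
      rw [hw', this, mul_inv_cancel_right])
    have hlt : A ⊓ C < (A ⊓ C) ⊔ W :=
      lt_of_le_of_ne le_sup_left fun h => hwA (h.symm ▸ Subgroup.mem_sup_right hw)
    have h2 : 2 ≤ (A ⊓ C).relIndex ((A ⊓ C) ⊔ W) := by
      by_contra hc
      have hne : (A ⊓ C).relIndex ((A ⊓ C) ⊔ W) ≠ 0 := Subgroup.index_ne_zero_of_finite
      have h1 : (A ⊓ C).relIndex ((A ⊓ C) ⊔ W) = 1 := by omega
      exact hlt.not_ge (Subgroup.relIndex_eq_one.mp h1)
    calc Nat.card A ≤ 2 * Nat.card ↥(A ⊓ C) := hAcard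
      _ ≤ Nat.card ↥(A ⊓ C) * (A ⊓ C).relIndex ((A ⊓ C) ⊔ W) := by
        rw [mul_comm 2]; exact Nat.mul_le_mul_left _ h2
      _ = Nat.card ↥((A ⊓ C) ⊔ W) := by
        rw [← Subgroup.relIndex_bot_left, ← Subgroup.relIndex_bot_left,
          Subgroup.relIndex_mul_relIndex _ _ _ bot_le le_sup_left]
  · refine le_inf (hle.trans (sup_le_sup_right (pCoreOf_le K) _)) (sup_le inf_le_right fun u hu => ?_)
    exact Subgroup.mem_centralizer_iff.mpr fun v hv => cW v hv u hu

/-- `Ω₁(Z(J(T)))` splits over `W_K`. -/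
theorem omegaCenter_split (hT : IsPGroup 2 T) (hK : IsJComponent T K) :
    Nat.card ↥(omegaCenterOf (thompsonSubgroupOf 2 T) ⊓ wOf K) = 2 ∧
      ∀ z ∈ omegaCenterOf (thompsonSubgroupOf 2 T), ∃ c w,
        c ∈ omegaCenterOf (thompsonSubgroupOf 2 T) ∧ c ∈ K ⊔ thompsonSubgroupOf 2 T ∧
          (∀ x ∈ K ⊔ thompsonSubgroupOf 2 T, x * c = c * x) ∧
          w ∈ omegaCenterOf (thompsonSubgroupOf 2 T) ∧ w ∈ wOf K ∧ z = c * w := by
  set J := thompsonSubgroupOf 2 T with hJ
  set W := wOf K with hW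
  set S := pCoreOf 2 K ⊔ J with hS
  obtain ⟨hRp, hRn, hRS⟩ := centralizer_inf_le hT hK
  set R := (K ⊔ J) ⊓ Subgroup.centralizer (W : Set G) with hR
  obtain ⟨ρ, hρK, ho, hρP, hgen⟩ := exists_rho hK
  have hJS : thompsonSubgroupOf 2 S = J := thompson_pCore_sup hT hK
  have hnJ : ¬ J ≤ Subgroup.centralizer (W : Set G) := not_thompson_le_centralizer hK
  have hWn := sup_le_normalizer_wOf hK
  have cW : ∀ u ∈ W, ∀ v ∈ W, u * v = v * u := fun u hu v hv =>
    wOf_central hv (wOf_le_pCoreOf K hu)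
  have hWS : W ≤ S := (wOf_le_pCoreOf K).trans le_sup_left
  obtain ⟨A₀, hA₀, hA₀C⟩ : ∃ A ∈ maxEAIn 2 S, ¬ A ≤ Subgroup.centralizer (W : Set G) := by
    by_contra hall
    push Not at hall
    refine hnJ ?_
    rw [← hJS, thompsonSubgroupOf_eq]
    exact sSup_le hall
  -- elements of `W` centralising `J` lie in `Ω₁(Z(J))`
  have hWmem : ∀ w ∈ W, (∀ j ∈ J, j * w = w * j) → w ∈ omegaCenterOf J := by
    intro w hw hc
    have hw2 : w ^ 2 = 1 := by rw [pow_two]; exact hK.2.2.2.2.2 w hw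
    refine mem_omegaCenterOf.mpr ⟨?_, hc, hw2⟩
    rw [← hJS, thompsonSubgroupOf_eq]
    exact (le_sSup hA₀ : A₀ ≤ _) (mem_maxEAIn_of_centralizes hA₀ (hWS hw) hw2
      (by rw [hJS]; exact fun j hj => (hc j hj).symm))
  -- `U`, the intersection of the largest elementary abelian subgroups of `R`
  set U := sInf (maxEAIn 2 R) with hU
  have hexch := fun A (hA : A ∈ maxEAIn 2 S) (hAC : ¬ A ≤ Subgroup.centralizer (W : Set G)) =>
    exchange hT hK hA hAC
  have hB₀ : (A₀ ⊓ Subgroup.centralizer (W : Set G)) ⊔ W ∈ maxEAIn 2 S := (hexch A₀ hA₀ hA₀C).1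
  have hRsub : ∀ B ∈ maxEAIn 2 R, B ∈ maxEAIn 2 S := fun B hB =>
    maxEAIn_subset_of_le hRS hB₀ (hexch A₀ hA₀ hA₀C).2 hB
  have hB₀R : (A₀ ⊓ Subgroup.centralizer (W : Set G)) ⊔ W ∈ maxEAIn 2 R :=
    mem_maxEAIn_of_le hRS hB₀ (hexch A₀ hA₀ hA₀C).2
  have hZU : ∀ z ∈ omegaCenterOf J, z ∈ U := by
    intro z hz
    obtain ⟨hzJ, hzc, hz2⟩ := mem_omegaCenterOf.mp hz
    refine Subgroup.mem_sInf.mpr fun B hB => mem_maxEAIn_of_centralizes (hRsub B hB)
      ((le_sup_right : J ≤ S) hzJ) hz2 ?_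
    rw [hJS]
    exact fun j hj => (hzc j hj).symm
  have hU2 : ∀ u ∈ U, u ^ 2 = 1 := fun u hu => hB₀R.2.1.2 u (Subgroup.mem_sInf.mp hu _ hB₀R)
  have hUn : K ⊔ J ≤ Subgroup.normalizer (U : Set G) := by
    have key : ∀ g ∈ K ⊔ J, ∀ u ∈ U, g * u * g⁻¹ ∈ U := by
      intro g hg u hu
      refine Subgroup.mem_sInf.mpr fun B hB => ?_
      have hB' := maxEAIn_conj hB (inv_mem (hRn hg) : g⁻¹ ∈ _)
      obtain ⟨b, hb, hbu⟩ := Subgroup.mem_sInf.mp hu _ hB'
      have : g * u * g⁻¹ = b := by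
        rw [← hbu]
        simp [mul_assoc]
      rwa [this]
    intro g hg
    rw [Subgroup.mem_normalizer_iff]
    refine fun y => ⟨key g hg y, fun hy => ?_⟩
    have := key g⁻¹ (inv_mem hg) _ hy
    simpa [mul_assoc] using this
  -- `[U, J] ≤ W`
  have hUJ : ∀ j ∈ J, ∀ u ∈ U, j * u * j⁻¹ * u⁻¹ ∈ W := by
    intro j hj
    rw [← hJS, thompsonSubgroupOf_eq, sSup_eq_iSup', Subgroup.iSup_eq_closure] at hj
    suffices h : j ∈ K ⊔ J ∧ ∀ u ∈ U, j * u * j⁻¹ * u⁻¹ ∈ W from h.2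
    induction hj using Subgroup.closure_induction with
    | mem a ha =>
      obtain ⟨⟨A, hA⟩, haA⟩ := Set.mem_iUnion.mp ha
      have haJ : a ∈ J := by
        rw [← hJS, thompsonSubgroupOf_eq]
        exact (le_sSup hA : A ≤ _) haA
      refine ⟨Subgroup.mem_sup_right haJ, fun u hu => ?_⟩
      by_cases hAC : A ≤ Subgroup.centralizer (W : Set G)
      · have hAR : A ∈ maxEAIn 2 R :=
          mem_maxEAIn_of_le hRS hA (le_inf (hA.1.trans (sup_le_sup_right (pCoreOf_le K) _)) hAC)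
        have hc : a * u = u * a := congrArg Subtype.val
          (hA.2.1.1.is_comm.comm ⟨a, haA⟩ ⟨u, Subgroup.mem_sInf.mp hu _ hAR⟩)
        rw [hc, mul_inv_cancel_right, mul_inv_cancel]
        exact one_mem _
      · have hB := hexch A hA hAC
        have hu' := Subgroup.mem_sInf.mp hu _ (mem_maxEAIn_of_le hRS hB.1 hB.2)
        have hnW : A ⊓ Subgroup.centralizer (W : Set G) ≤ Subgroup.normalizer (W : Set G) :=
          inf_le_right.trans (Subgroup.centralizer_le_normalizer _)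
        rw [← SetLike.mem_coe, Subgroup.coe_mul_of_left_le_normalizer_right _ W hnW] at hu'
        obtain ⟨b, hb, w, hw, rfl⟩ := hu'
        simp only
        have hc : a * b = b * a := congrArg Subtype.val
          (hA.2.1.1.is_comm.comm ⟨a, haA⟩ ⟨b, (Subgroup.mem_inf.mp hb).1⟩)
        have haw : a * w * a⁻¹ ∈ W :=
          (Subgroup.mem_normalizer_iff.mp (hWn (Subgroup.mem_sup_right haJ)) w).mp hw
        have hbc : b * (a * w * a⁻¹ * w⁻¹) = (a * w * a⁻¹ * w⁻¹) * b :=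
          ((Subgroup.mem_centralizer_iff.mp (Subgroup.mem_inf.mp hb).2) _ (mul_mem haw (inv_mem hw))).symm
        have he : a * (b * w) * a⁻¹ * (b * w)⁻¹ = a * w * a⁻¹ * w⁻¹ := by
          calc a * (b * w) * a⁻¹ * (b * w)⁻¹ = (a * b) * w * a⁻¹ * w⁻¹ * b⁻¹ := by group
            _ = b * (a * w * a⁻¹ * w⁻¹) * b⁻¹ := by rw [hc]; group
            _ = a * w * a⁻¹ * w⁻¹ := by rw [hbc, mul_inv_cancel_right]
        rw [he]
        exact mul_mem haw (inv_mem hw)
    | one => exact ⟨one_mem _, fun u _ => by simp⟩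
    | mul x y _ _ hx hy =>
      refine ⟨mul_mem hx.1 hy.1, fun u hu => ?_⟩
      have h1 := hy.2 u hu
      have h2 := hx.2 u hu
      have he : x * y * u * (x * y)⁻¹ * u⁻¹ =
          (x * (y * u * y⁻¹ * u⁻¹) * x⁻¹) * (x * u * x⁻¹ * u⁻¹) := by group
      rw [he]
      exact mul_mem ((Subgroup.mem_normalizer_iff.mp (hWn hx.1) _).mp h1) h2
    | inv x _ hx =>
      refine ⟨inv_mem hx.1, fun u hu => ?_⟩
      have h1 := hx.2 u hu
      have he : x⁻¹ * u * x⁻¹⁻¹ * u⁻¹ = x⁻¹ * (x * u * x⁻¹ * u⁻¹)⁻¹ * x⁻¹⁻¹ := by group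
      rw [he]
      exact (Subgroup.mem_normalizer_iff.mp (hWn (inv_mem hx.1)) _).mp (inv_mem h1)
  -- `[U, K] ≤ W`
  have hUK : ∀ k ∈ K, ∀ u ∈ U, k * u * k⁻¹ * u⁻¹ ∈ W := by
    intro k hk
    rw [← hK.2.1, Subgroup.commutator_def] at hk
    suffices h : k ∈ K ⊔ J ∧ ∀ u ∈ U, k * u * k⁻¹ * u⁻¹ ∈ W from h.2
    induction hk using Subgroup.closure_induction with
    | mem x hx =>
      obtain ⟨a, ha, j, hj, rfl⟩ := hx
      have haKJ : a ∈ K ⊔ J := Subgroup.mem_sup_left ha
      have hjKJ : j ∈ K ⊔ J := Subgroup.mem_sup_right hj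
      refine ⟨?_, fun u hu => ?_⟩
      · simp only [commutatorElement_def]
        exact mul_mem (mul_mem (mul_mem haKJ hjKJ) (inv_mem haKJ)) (inv_mem hjKJ)
      · set u₁ := j⁻¹ * u * j with hu₁
        have hu₁U : u₁ ∈ U := (Subgroup.mem_normalizer_iff''.mp (hUn hjKJ) u).mp hu
        have hW1 : u₁ * u⁻¹ ∈ W := by
          have h := hUJ j⁻¹ (inv_mem hj) u hu
          rwa [inv_inv] at h
        set u' := a⁻¹ * u * a with hu'
        have hu'U : u' ∈ U := (Subgroup.mem_normalizer_iff''.mp (hUn haKJ) u).mp hu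
        have hW2 : a⁻¹ * (u₁ * u⁻¹) * a ∈ W := (Subgroup.mem_normalizer_iff''.mp (hWn haKJ) _).mp hW1
        have hW3 := hUJ j hj u' hu'U
        have he : ⁅a, j⁆ * u * ⁅a, j⁆⁻¹ * u⁻¹ =
            a * ((j * (a⁻¹ * (u₁ * u⁻¹) * a) * j⁻¹) * (j * u' * j⁻¹ * u'⁻¹)) * a⁻¹ := by
          rw [hu₁, hu', commutatorElement_def]; group
        rw [he]
        exact (Subgroup.mem_normalizer_iff.mp (hWn haKJ) _).mp
          (mul_mem ((Subgroup.mem_normalizer_iff.mp (hWn hjKJ) _).mp hW2) hW3)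
    | one => exact ⟨one_mem _, fun u _ => by simp⟩
    | mul x y _ _ hx hy =>
      refine ⟨mul_mem hx.1 hy.1, fun u hu => ?_⟩
      have h1 := hy.2 u hu
      have h2 := hx.2 u hu
      have he : x * y * u * (x * y)⁻¹ * u⁻¹ =
          (x * (y * u * y⁻¹ * u⁻¹) * x⁻¹) * (x * u * x⁻¹ * u⁻¹) := by group
      rw [he]
      exact mul_mem ((Subgroup.mem_normalizer_iff.mp (hWn hx.1) _).mp h1) h2
    | inv x _ hx =>
      refine ⟨inv_mem hx.1, fun u hu => ?_⟩
      have h1 := hx.2 u hu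
      have he : x⁻¹ * u * x⁻¹⁻¹ * u⁻¹ = x⁻¹ * (x * u * x⁻¹ * u⁻¹)⁻¹ * x⁻¹⁻¹ := by group
      rw [he]
      exact (Subgroup.mem_normalizer_iff.mp (hWn (inv_mem hx.1)) _).mp (inv_mem h1)
  -- `ρ` acts fixed point freely on `W`
  have hρKJ : ρ ∈ K ⊔ J := Subgroup.mem_sup_left hρK
  have hρW : ∀ w ∈ W, ρ * w * ρ⁻¹ ∈ W := fun w hw => (Subgroup.mem_normalizer_iff.mp (hWn hρKJ) w).mp hw
  have hfpf : ∀ w ∈ W, ρ * w * ρ⁻¹ = w → w = 1 := fun w hw => eq_one_of_wOf_fixed hK hρK ho hgen hw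
  have hsurj : ∀ d ∈ W, ∃ w ∈ W, ρ * w * ρ⁻¹ * w⁻¹ = d := by
    intro d hd
    let f : W → W := fun w => ⟨ρ * w * ρ⁻¹ * (w : G)⁻¹, mul_mem (hρW _ w.2) (inv_mem w.2)⟩
    have hf : Function.Injective f := by
      intro u v h
      have h' : ρ * (u : G) * ρ⁻¹ * (u : G)⁻¹ = ρ * v * ρ⁻¹ * (v : G)⁻¹ := congrArg Subtype.val h
      have h'' : ρ * ((v : G)⁻¹ * u) * ρ⁻¹ = (v : G)⁻¹ * u := by
        calc ρ * ((v : G)⁻¹ * u) * ρ⁻¹
            = (ρ * v * ρ⁻¹)⁻¹ * (ρ * u * ρ⁻¹ * (u : G)⁻¹) * u := by group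
          _ = (ρ * v * ρ⁻¹)⁻¹ * (ρ * v * ρ⁻¹ * (v : G)⁻¹) * u := by rw [h']
          _ = (v : G)⁻¹ * u := by group
      exact (Subtype.ext (inv_mul_eq_one.mp (hfpf _ (mul_mem (inv_mem v.2) u.2) h''))).symm
    obtain ⟨w, hw⟩ := (Finite.injective_iff_surjective.mp hf) ⟨d, hd⟩
    exact ⟨w, w.2, congrArg Subtype.val hw⟩
  -- the decomposition
  have main : ∀ z ∈ omegaCenterOf J, ∃ c w, c ∈ omegaCenterOf J ∧ c ∈ K ⊔ J ∧
      (∀ x ∈ K ⊔ J, x * c = c * x) ∧ w ∈ omegaCenterOf J ∧ w ∈ W ∧ z = c * w := by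
    intro z hz
    obtain ⟨hzJ, hzc, hz2⟩ := mem_omegaCenterOf.mp hz
    have hzU := hZU z hz
    obtain ⟨w, hw, hwd⟩ := hsurj _ (hUK ρ hρK z hzU)
    have hzw : z * w = w * z :=
      (Subgroup.mem_centralizer_iff.mp
        (Subgroup.mem_inf.mp (hB₀R.1 (Subgroup.mem_sInf.mp hzU _ hB₀R))).2 w hw).symm
    set c := w⁻¹ * z with hc
    have hρc : ρ * c * ρ⁻¹ = c := by
      have h1 : ρ * c * ρ⁻¹ = (ρ * w * ρ⁻¹)⁻¹ * (ρ * z * ρ⁻¹ * z⁻¹) * z := by rw [hc]; group
      rw [h1, ← hwd, hc]; group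
    have hzc' : z = c * w := by
      rw [hc, mul_assoc, hzw, ← mul_assoc, inv_mul_cancel, one_mul]
    -- `O₂(K)` moves `z` inside `W ∩ C(J)`
    have hPJ := pCoreOf_le_normalizer_thompson hT hK
    have hJP : J ≤ Subgroup.normalizer (pCoreOf 2 K : Set G) :=
      (thompson_le_normalizer hK).trans (normalizer_le_normalizer_pCoreOf K)
    have hφJ : ∀ y ∈ pCoreOf 2 K, ∀ j ∈ J,
        j * (y * z * y⁻¹ * z⁻¹) = (y * z * y⁻¹ * z⁻¹) * j := by
      intro y hy j hj
      have h1 : y⁻¹ * j * y ∈ J := (Subgroup.mem_normalizer_iff''.mp (hPJ hy) j).mp hj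
      have h2 := hzc _ h1
      have h3 := hzc _ hj
      have h4 : j * (y * z * y⁻¹) = (y * z * y⁻¹) * j := by
        calc j * (y * z * y⁻¹) = y * ((y⁻¹ * j * y) * z) * y⁻¹ := by group
          _ = y * (z * (y⁻¹ * j * y)) * y⁻¹ := by rw [h2]
          _ = (y * z * y⁻¹) * j := by group
      exact (show Commute j (y * z * y⁻¹) from h4).mul_right (show Commute j z⁻¹ from (show Commute j z from h3).inv_right)
    have hφc : ∀ y ∈ pCoreOf 2 K, y * c * y⁻¹ * c⁻¹ = y * z * y⁻¹ * z⁻¹ := by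
      intro y hy
      have hyw : y * w⁻¹ = w⁻¹ * y := wOf_central (inv_mem hw) hy
      have hmem : y * z * y⁻¹ * z⁻¹ ∈ W := hUK y (pCoreOf_le K hy) z hzU
      calc y * c * y⁻¹ * c⁻¹ = y * w⁻¹ * (z * y⁻¹ * z⁻¹) * w := by rw [hc]; group
        _ = w⁻¹ * (y * z * y⁻¹ * z⁻¹) * w := by rw [hyw]; group
        _ = y * z * y⁻¹ * z⁻¹ := by rw [cW _ (inv_mem hw) _ hmem]; group
    have hPc : ∀ y ∈ pCoreOf 2 K, y * c * y⁻¹ = c := by
      intro y hy
      set d := y * z * y⁻¹ * z⁻¹ with hd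
      have hdW : d ∈ W := hUK y (pCoreOf_le K hy) z hzU
      set y' := ρ * y * ρ⁻¹ with hy'
      have hy'P : y' ∈ pCoreOf 2 K :=
        (Subgroup.mem_normalizer_iff.mp (normalizer_le_normalizer_pCoreOf K (Subgroup.le_normalizer hρK)) y).mp hy
      have h1 : ρ * d * ρ⁻¹ = y' * z * y'⁻¹ * z⁻¹ := by
        rw [hd, ← hφc y hy, ← hφc y' hy'P, hy']
        calc ρ * (y * c * y⁻¹ * c⁻¹) * ρ⁻¹
            = ρ * y * ρ⁻¹ * (ρ * c * ρ⁻¹) * (ρ * y * ρ⁻¹)⁻¹ * (ρ * c * ρ⁻¹)⁻¹ := by group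
          _ = _ := by rw [hρc]
      have hdJ : ∀ j ∈ J, j * d = d * j := hφJ y hy
      have hd'J : ∀ j ∈ J, j * (ρ * d * ρ⁻¹) = (ρ * d * ρ⁻¹) * j := by rw [h1]; exact hφJ y' hy'P
      have hd'W : ρ * d * ρ⁻¹ ∈ W := hρW d hdW
      -- the fixed points of `J` on `W` form a group of order at most 2
      have hd1 : d = 1 := by
        by_contra hne
        by_cases heq : ρ * d * ρ⁻¹ = d
        · exact hne (hfpf d hdW heq)
        apply hnJ
        have hgenW : W ≤ Subgroup.centralizer (J : Set G) := by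
          have hsub : Subgroup.closure {d, ρ * d * ρ⁻¹} ≤ Subgroup.centralizer (J : Set G) := by
            rw [Subgroup.closure_le]
            rintro x (rfl | rfl)
            · exact Subgroup.mem_centralizer_iff.mpr hdJ
            · exact Subgroup.mem_centralizer_iff.mpr hd'J
          refine le_trans (le_of_eq ?_) hsub
          refine (eq_of_le_card_le ?_ ?_).symm
          · rw [Subgroup.closure_le]
            rintro x (rfl | rfl)
            · exact hdW
            · exact hd'W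
          · have h4 : Nat.card W = 4 := hK.2.2.2.2.1
            rw [h4]
            by_contra hlt
            have hdvd : Nat.card ↥(Subgroup.closure {d, ρ * d * ρ⁻¹}) ∣ 4 := by
              rw [← h4]
              refine Subgroup.card_dvd_of_le ?_
              rw [Subgroup.closure_le]
              rintro x (rfl | rfl)
              · exact hdW
              · exact hd'W
            classical
            have hsub3 : ({1, d, ρ * d * ρ⁻¹} : Finset G) ⊆
                ((Subgroup.closure {d, ρ * d * ρ⁻¹} : Subgroup G) : Set G).toFinite.toFinset := by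
              intro x hx
              simp only [Finset.mem_insert, Finset.mem_singleton] at hx
              rw [Set.Finite.mem_toFinset]
              rcases hx with rfl | rfl | rfl
              · exact one_mem _
              · exact Subgroup.subset_closure (Or.inl rfl)
              · exact Subgroup.subset_closure (Or.inr rfl)
            have hc3 := Finset.card_le_card hsub3
            rw [← Set.ncard_eq_toFinset_card _ (Set.toFinite _), ← Nat.card_coe_set_eq] at hc3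
            have hne' : (1 : G) ≠ ρ * d * ρ⁻¹ := fun h => hne (by
              have h2 : d = ρ⁻¹ * (ρ * d * ρ⁻¹) * ρ := by group
              rw [h2, ← h]; group)
            have h33 : ({1, d, ρ * d * ρ⁻¹} : Finset G).card = 3 := by
              simp [Finset.card_insert_of_notMem, Ne.symm hne, hne', Ne.symm heq]
            rw [h33] at hc3
            have hc3' : 3 ≤ Nat.card ↥(Subgroup.closure {d, ρ * d * ρ⁻¹}) := hc3
            have := Nat.le_of_dvd (by norm_num) hdvd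
            interval_cases h : Nat.card ↥(Subgroup.closure {d, ρ * d * ρ⁻¹}) <;> omega
        intro j hj
        exact Subgroup.mem_centralizer_iff.mpr fun x hx =>
          (Subgroup.mem_centralizer_iff.mp (hgenW hx) j hj).symm
      have h2 := hφc y hy
      rw [← hd, hd1] at h2
      exact mul_inv_eq_one.mp h2
    have hKc : ∀ k ∈ K, k * c = c * k := by
      intro k hk
      obtain ⟨y, hy, m, rfl⟩ := hgen k hk
      have hy' : Commute y c := by
        show y * c = c * y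
        calc y * c = y * c * y⁻¹ * y := by group
          _ = c * y := by rw [hPc y hy]
      have hρ' : Commute ρ c := by
        show ρ * c = c * ρ
        calc ρ * c = ρ * c * ρ⁻¹ * ρ := by group
          _ = c * ρ := by rw [hρc]
      exact (hy'.mul_left (hρ'.pow_left m)).eq
    have hJc : ∀ j ∈ J, j * c = c * j := by
      intro j hj
      have hcj : ρ * (j * c * j⁻¹) * ρ⁻¹ = j * c * j⁻¹ := by
        have h1 : j⁻¹ * ρ * j ∈ K := (Subgroup.mem_normalizer_iff''.mp (thompson_le_normalizer hK hj) ρ).mp hρK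
        calc ρ * (j * c * j⁻¹) * ρ⁻¹
            = j * ((j⁻¹ * ρ * j) * c * (j⁻¹ * ρ * j)⁻¹) * j⁻¹ := by group
          _ = j * c * j⁻¹ := by rw [hKc _ h1, mul_inv_cancel_right]
      have hjz := hzc j hj
      have hd : j * c * j⁻¹ * c⁻¹ ∈ W := by
        have h1 : j * c * j⁻¹ * c⁻¹ = (j * w⁻¹ * j⁻¹) * (j * z * j⁻¹ * z⁻¹) * w := by rw [hc]; group
        rw [h1, hjz, mul_inv_cancel_right, mul_inv_cancel, mul_one]
        exact mul_mem ((Subgroup.mem_normalizer_iff.mp (hWn (Subgroup.mem_sup_right hj)) _).mp (inv_mem hw)) hw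
      have h2 : j * c * j⁻¹ * c⁻¹ = 1 := by
        refine hfpf _ hd ?_
        calc ρ * (j * c * j⁻¹ * c⁻¹) * ρ⁻¹
            = (ρ * (j * c * j⁻¹) * ρ⁻¹) * (ρ * c * ρ⁻¹)⁻¹ := by group
          _ = _ := by rw [hcj, hρc]
      calc j * c = j * c * j⁻¹ * c⁻¹ * c * j := by group
        _ = c * j := by rw [h2, one_mul]
    have hwc : ∀ j ∈ J, j * w = w * j := by
      intro j hj
      have he : w = c⁻¹ * z := by rw [hzc']; group
      rw [he]
      exact ((show Commute j c from hJc j hj).inv_right.mul_right (show Commute j z from hzc j hj)).eq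
    have hwZ := hWmem w hw hwc
    have hcZ : c ∈ omegaCenterOf J := mul_mem (inv_mem hwZ) hz
    refine ⟨c, w, hcZ, Subgroup.mem_sup_right (mem_omegaCenterOf.mp hcZ).1, ?_, hwZ, hw, hzc'⟩
    intro x hx
    have hle : K ⊔ J ≤ Subgroup.centralizer ({c} : Set G) := by
      refine sup_le (fun k hk => ?_) (fun j hj => ?_)
      · exact Subgroup.mem_centralizer_singleton_iff.mpr (hKc k hk)
      · exact Subgroup.mem_centralizer_singleton_iff.mpr (hJc j hj)
    exact Subgroup.mem_centralizer_singleton_iff.mp (hle hx)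
  refine ⟨?_, main⟩
  -- a nontrivial fixed point of `J` on `W`, and not all of `W` is fixed
  classical
  haveI : Fact (Nat.Prime 2) := ⟨Nat.prime_two⟩
  have hsub : omegaCenterOf J ⊓ W ≤ W := inf_le_right
  have h4 : Nat.card W = 4 := hK.2.2.2.2.1
  have hne4 : Nat.card ↥(omegaCenterOf J ⊓ W) ≠ 4 := by
    intro h
    apply hnJ
    have heq := eq_of_le_card_le hsub (by rw [h, h4])
    intro j hj
    refine Subgroup.mem_centralizer_iff.mpr fun x hx => ?_
    rw [SetLike.mem_coe, ← heq] at hx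
    exact ((mem_omegaCenterOf.mp (Subgroup.mem_inf.mp hx).1).2.1 j hj).symm
  have hne1 : omegaCenterOf J ⊓ W ≠ ⊥ := by
    letI : MulAction J W :=
      MulAction.compHom W ((Subgroup.normalizerMonoidHom W).comp
        (Subgroup.inclusion ((le_sup_right : J ≤ K ⊔ J).trans hWn)))
    have h1 : (1 : W) ∈ MulAction.fixedPoints J W := fun j => map_one ((Subgroup.normalizerMonoidHom W).comp (Subgroup.inclusion ((le_sup_right : J ≤ K ⊔ J).trans hWn)) j)
    have hd : 2 ∣ Nat.card W := by rw [h4]; norm_num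
    obtain ⟨x, hx, hne⟩ := (thompson_isPGroup hT).exists_fixed_point_of_prime_dvd_card_of_fixed_point
      W hd h1
    intro hbot
    apply hne
    refine (Subtype.ext ?_).symm
    have hc : ∀ j ∈ J, j * (x : G) = x * j := by
      intro j hj
      have h2 : j * (x : G) * j⁻¹ = x := congrArg Subtype.val (hx ⟨j, hj⟩)
      calc j * (x : G) = j * x * j⁻¹ * j := by group
        _ = x * j := by rw [h2]
    have := Subgroup.mem_inf.mpr ⟨hWmem x x.2 hc, x.2⟩
    rw [hbot] at this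
    exact this
  have hdvd : Nat.card ↥(omegaCenterOf J ⊓ W) ∣ 4 := h4 ▸ Subgroup.card_dvd_of_le hsub
  have hne1' : Nat.card ↥(omegaCenterOf J ⊓ W) ≠ 1 := fun h => hne1 (Subgroup.card_eq_one.mp h)
  have := Nat.le_of_dvd (by norm_num) hdvd
  have hpos : 0 < Nat.card ↥(omegaCenterOf J ⊓ W) := Nat.card_pos
  interval_cases h : Nat.card ↥(omegaCenterOf J ⊓ W) <;> omega

end CfsgLib.JComp
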