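import Cfsg.Agent.Lib.JComp.Commute
import Cfsg.Agent.S1012
import Mathlib.GroupTheory.NoncommCoprod
import Mathlib.GroupTheory.SpecificGroups.Cyclic

/-!
Two positions with non-commuting four-groups: the maximal 2-local subgroups are `S₄` or `S₄ × 2`.
-/

set_option autoImplicit false
set_option maxHeartbeats 1000000
open Cfsg CfsgLib.PLocal
open scoped commutatorElement

namespace CfsgLib.JComp

/-- A group of order 24 with a normal self-centralising four-group is `S₄`. -/
theorem nonempty_perm_four {X : Type*} [Group X] [Finite X] (W : Subgroup X) (hcard : Nat.card X = 24)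
    (hn : W.Normal) (h4 : Nat.card W = 4) (h2 : ∀ v ∈ W, v * v = 1)
    (hC : ∀ x : X, (∀ v ∈ W, x * v = v * x) → x ∈ W) : Nonempty (X ≃* Equiv.Perm (Fin 4)) := by
  refine Cfsg.Agent.S1012.result hcard fun g hg => ?_
  set y := g ^ 2 with hy
  set s := g ^ 3 with hs
  have hg6 : g ^ 6 = 1 := hg ▸ pow_orderOf_eq_one g
  have hy3 : y ^ 3 = 1 := by rw [hy, ← pow_mul, hg6]
  have hs2 : s * s = 1 := by rw [hs, ← pow_add, hg6]
  have hy1 : y ≠ 1 := fun h => by
    have := orderOf_dvd_of_pow_eq_one (x := g) (n := 2) (hy ▸ h)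
    rw [hg] at this; omega
  have hs1 : s ≠ 1 := fun h => by
    have := orderOf_dvd_of_pow_eq_one (x := g) (n := 3) (hs ▸ h)
    rw [hg] at this; omega
  have hcom : y * s = s * y := by rw [hy, hs, ← pow_add, ← pow_add]
  have hyW : y ∉ W := fun h => hy1 (by
    have := h2 y h
    rwa [pow_succ, pow_two, this, one_mul] at hy3)
  have hcj : ∀ (x : X), ∀ v ∈ W, x * v * x⁻¹ ∈ W := fun x v hv => hn.conj_mem v hv x
  have hne : ∀ {x v : X}, v ≠ 1 → x * v * x⁻¹ ≠ 1 := fun {x v} hv e =>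
    hv ((MulAut.conj x).injective (by simpa using e))
  have hfix : ∀ v ∈ W, v ≠ 1 → y * v * y⁻¹ ≠ v := by
    intro v hv hv1 he
    apply hyW
    apply hC
    intro u hu
    have key : y * u * y⁻¹ = u := by
      rcases eq_or_ne u 1 with rfl | hu1
      · group
      rcases eq_or_ne u v with rfl | huv
      · exact he
      by_contra hm
      set u₁ := y * u * y⁻¹ with hu₁
      have hu₁W : u₁ ∈ W := hcj y u hu
      have hu₁1 : u₁ ≠ 1 := hne hu1
      have hu₁v : u₁ ≠ v := fun e => huv ((MulAut.conj y).injective (e.trans he.symm))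
      have hu₂ : y * u₁ * y⁻¹ = u := by
        by_contra hm2
        set u₂ := y * u₁ * y⁻¹ with hu₂
        have hu₂1 : u₂ ≠ 1 := hne hu₁1
        have hu₂v : u₂ ≠ v := fun e => hu₁v ((MulAut.conj y).injective (e.trans he.symm))
        have hu₂u₁ : u₂ ≠ u₁ := fun e => hm ((MulAut.conj y).injective e)
        classical
        have hsub : ({1, v, u, u₁, u₂} : Finset X) ⊆ (W : Set X).toFinite.toFinset := by
          intro z hz
          simp only [Finset.mem_insert, Finset.mem_singleton] at hz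
          rw [Set.Finite.mem_toFinset]
          rcases hz with rfl | rfl | rfl | rfl | rfl
          · exact one_mem _
          · exact hv
          · exact hu
          · exact hu₁W
          · exact hcj y u₁ hu₁W
        have hc := Finset.card_le_card hsub
        rw [← Set.ncard_eq_toFinset_card _ (W : Set X).toFinite, ← Nat.card_coe_set_eq] at hc
        have h5 : ({1, v, u, u₁, u₂} : Finset X).card = 5 := by
          simp [Finset.card_insert_of_notMem, Ne.symm hv1, Ne.symm hu1, Ne.symm hu₁1, Ne.symm hu₂1,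
            Ne.symm huv, Ne.symm hu₁v, Ne.symm hu₂v, Ne.symm hm, Ne.symm hm2, Ne.symm hu₂u₁]
        rw [h5] at hc
        have hc' : 5 ≤ Nat.card W := hc
        omega
      have h3 : y ^ 3 * u * (y ^ 3)⁻¹ = u₁ := by
        calc y ^ 3 * u * (y ^ 3)⁻¹ = y * (y * (y * u * y⁻¹) * y⁻¹) * y⁻¹ := by
              rw [pow_succ, pow_two]; group
          _ = u₁ := by rw [← hu₁, hu₂]
      rw [hy3, one_mul, inv_one, mul_one] at h3
      exact hm h3.symm
    calc y * u = y * u * y⁻¹ * y := by group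
      _ = u * y := by rw [key]
  have hsW : s ∉ W := fun h => hfix s h hs1 (by rw [hcom, mul_inv_cancel_right])
  apply hsW
  apply hC
  intro v hv
  by_contra hne'
  have hv1 : v ≠ 1 := fun e => hne' (by rw [e, mul_one, one_mul])
  set u := s * v * s⁻¹ with hu
  have huv : u ≠ v := fun e => hne' (by
    calc s * v = u * s := by rw [hu]; group
      _ = v * s := by rw [e])
  have huW : u ∈ W := hcj s v hv
  have hsu : s * u * s⁻¹ = v := by
    calc s * u * s⁻¹ = (s * s) * v * (s * s)⁻¹ := by rw [hu]; group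
      _ = v := by rw [hs2]; group
  set v₁ := y * v * y⁻¹ with hv₁
  set v₂ := y * v₁ * y⁻¹ with hv₂
  have hv₁1 : v₁ ≠ 1 := hne hv1
  have hv₂1 : v₂ ≠ 1 := hne hv₁1
  have hv₁v : v₁ ≠ v := hfix v hv hv1
  have hv₂v₁ : v₂ ≠ v₁ := hfix v₁ (hcj y v hv) hv₁1
  have hv₃ : y * v₂ * y⁻¹ = v := by
    calc y * v₂ * y⁻¹ = y ^ 3 * v * (y ^ 3)⁻¹ := by rw [hv₂, hv₁, pow_succ, pow_two]; group
      _ = v := by rw [hy3]; group
  have hv₂v : v₂ ≠ v := fun e => hv₁v (by rw [e] at hv₃; exact hv₃)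
  have hall : u = v₁ ∨ u = v₂ := by
    by_contra hn'
    push Not at hn'
    classical
    have hsub : ({1, v, v₁, v₂, u} : Finset X) ⊆ (W : Set X).toFinite.toFinset := by
      intro z hz
      simp only [Finset.mem_insert, Finset.mem_singleton] at hz
      rw [Set.Finite.mem_toFinset]
      rcases hz with rfl | rfl | rfl | rfl | rfl
      · exact one_mem _
      · exact hv
      · exact hcj y v hv
      · exact hcj y _ (hcj y v hv)
      · exact huW
    have hc := Finset.card_le_card hsub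
    rw [← Set.ncard_eq_toFinset_card _ (W : Set X).toFinite, ← Nat.card_coe_set_eq] at hc
    have hu1 : u ≠ 1 := hne hv1
    have h5 : ({1, v, v₁, v₂, u} : Finset X).card = 5 := by
      simp [Finset.card_insert_of_notMem, Ne.symm hv1, Ne.symm hv₁1, Ne.symm hv₂1, Ne.symm hu1,
        Ne.symm hv₁v, Ne.symm hv₂v, Ne.symm huv, Ne.symm hv₂v₁, Ne.symm hn'.1, Ne.symm hn'.2]
    rw [h5] at hc
    have hc' : 5 ≤ Nat.card W := hc
    omega
  have hsc : ∀ z : X, s * (y * z * y⁻¹) * s⁻¹ = y * (s * z * s⁻¹) * y⁻¹ := fun z => by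
    calc s * (y * z * y⁻¹) * s⁻¹ = (s * y) * z * (s * y)⁻¹ := by group
      _ = (y * s) * z * (y * s)⁻¹ := by rw [hcom]
      _ = _ := by group
  rcases hall with e | e
  · rw [e, hv₁, hsc, ← hu, e] at hsu
    exact hv₂v hsu
  · rw [e, hv₂, hsc, hv₁, hsc, ← hu, e, hv₃] at hsu
    exact hv₁v hsu

variable {G : Type*} [Group G] [Finite G]

/-- Two positions whose four-groups share the fixed element and do not commute. -/
structure Shape (M M' T K K' L L' : Subgroup G) (w a b : G) : Prop where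
  duo : Duo M M' T K K' L L'
  wZ : w ∈ omegaCenterOf (thompsonSubgroupOf 2 T)
  wW : w ∈ wOf K
  wW' : w ∈ wOf K'
  w1 : w ≠ 1
  aW : a ∈ wOf K
  bW : b ∈ wOf K'
  ncomm : ¬ Commute a b

namespace Shape

variable {M M' T K K' L L' : Subgroup G} {w a b : G} (h : Shape M M' T K K' L L' w a b)

include h

theorem symm : Shape M' M T K' K L' L w b a :=
  ⟨h.duo.symm, h.wZ, h.wW', h.wW, h.w1, h.bW, h.aW, fun e => h.ncomm e.symm⟩

theorem a_mem : a ∈ qGrp T K := wOf_le_qGrp h.duo.pos h.duo.norm h.aW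

theorem a_T : a ∈ T := qGrp_le T K h.a_mem

theorem b_T : b ∈ T := qGrp_le T K' (wOf_le_qGrp h.duo.pos' h.duo.norm' h.bW)

theorem a_sq : a * a = 1 := h.duo.pos.comp.2.2.2.2.2 a h.aW

theorem b_sq : b * b = 1 := h.duo.pos'.comp.2.2.2.2.2 b h.bW

theorem F_central {z : G} (hz : z ∈ omegaCenterOf (thompsonSubgroupOf 2 T)) {t : G} (ht : t ∈ T) :
    Commute t z := h.duo.pos.omega_central h.duo.norm h.duo.small hz ht

theorem a_ne : a ≠ 1 ∧ a ≠ w :=
  ⟨fun e => h.ncomm (e ▸ Commute.one_left b), fun e => h.ncomm (e ▸ (h.F_central h.wZ h.b_T).symm)⟩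

theorem comm : ⁅a, b⁆ = w :=
  (comm_modZ h.duo.pos h.duo.norm h.duo.small h.wZ h.wW h.w1 h.b_T (Subgroup.mem_sup_right h.aW)).resolve_left
    fun e => h.ncomm (commutatorElement_eq_one_iff_mul_comm.mp e)

theorem b_not_mem : b ∉ qGrp T K := fun e =>
  h.ncomm (Subgroup.mem_centralizer_iff.mp (Subgroup.mem_inf.mp e).2 a h.aW)

theorem T_split {x : G} (hx : x ∈ T) : x ∈ qGrp T K ∨ x * b ∈ qGrp T K :=
  (em (x ∈ qGrp T K)).imp_right fun hxQ =>
    qGrp_split h.duo.pos h.duo.norm h.duo.small hx h.b_T hxQ h.b_not_mem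

theorem Q_inter {x : G} (hx : x ∈ qGrp T K) : x ∈ qGrp T K ⊓ qGrp T K' ∨ x * a ∈ qGrp T K ⊓ qGrp T K' :=
  (h.symm.T_split (qGrp_le T K hx)).imp (fun e => Subgroup.mem_inf.mpr ⟨hx, e⟩)
    fun e => Subgroup.mem_inf.mpr ⟨mul_mem hx h.a_mem, e⟩

theorem Q_sq {x : G} (hx : x ∈ qGrp T K) : ∃ d ∈ qGrp T K ⊓ qGrp T K', d * d = x * x := by
  rcases h.Q_inter hx with e | e
  · exact ⟨x, e, rfl⟩
  · refine ⟨_, e, ?_⟩
    have hc : a * x = x * a := Subgroup.mem_centralizer_iff.mp (Subgroup.mem_inf.mp hx).2 a h.aW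
    calc x * a * (x * a) = x * (a * x) * a := by group
      _ = x * x * (a * a) := by rw [hc]; group
      _ = x * x := by rw [h.a_sq, mul_one]

omit h in
theorem Phi_normal {M M' T K K' L L' : Subgroup G} {w a b : G} (h : Shape M M' T K K' L L' w a b) :
    K ⊔ T ≤ Subgroup.normalizer
      (Subgroup.closure {v | ∃ d ∈ qGrp T K ⊓ qGrp T K', v = d * d} : Set G) := by
  refine le_normalizer_of_conj fun k hk v hv => ?_
  set Φ := Subgroup.closure {v | ∃ d ∈ qGrp T K ⊓ qGrp T K', v = d * d}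
  have hle : Φ ≤ Φ.comap (MulAut.conj k).toMonoidHom := by
    refine (Subgroup.closure_le _).mpr ?_
    rintro _ ⟨d, hd, rfl⟩
    obtain ⟨e, he, hee⟩ := h.Q_sq ((Subgroup.mem_normalizer_iff.mp
      (qGrp_normal h.duo.pos h.duo.norm h.duo.small hk) d).mp (Subgroup.mem_inf.mp hd).1)
    refine Subgroup.subset_closure ⟨e, he, ?_⟩
    rw [hee]
    simp only [MulEquiv.coe_toMonoidHom, MulAut.conj_apply]
    group
  exact hle hv

theorem inter_sq {d : G} (hd : d ∈ qGrp T K ⊓ qGrp T K') : d * d = 1 := by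
  have h1 := h.Phi_normal
  have h2 := h.symm.Phi_normal
  rw [inf_comm (qGrp T K') (qGrp T K)] at h2
  have h0 := h.duo.core (h.duo.pos.two.to_le ((Subgroup.closure_le _).mpr (by
    rintro _ ⟨d, hd, rfl⟩
    exact T.mul_mem (qGrp_le T K (Subgroup.mem_inf.mp hd).1) (qGrp_le T K (Subgroup.mem_inf.mp hd).1))))
    h1 h2
  rw [← Subgroup.mem_bot, ← h0]
  exact Subgroup.subset_closure ⟨d, hd, rfl⟩

theorem Q_exp {x : G} (hx : x ∈ qGrp T K) : x * x = 1 := by
  obtain ⟨d, hd, he⟩ := h.Q_sq hx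
  rw [← he, h.inter_sq hd]

theorem Q_comm {x y : G} (hx : x ∈ qGrp T K) (hy : y ∈ qGrp T K) : Commute x y := by
  calc x * y = (x * y)⁻¹ := (inv_eq_of_mul_eq_one_right (h.Q_exp (mul_mem hx hy))).symm
    _ = y⁻¹ * x⁻¹ := mul_inv_rev _ _
    _ = y * x := by rw [inv_eq_of_mul_eq_one_right (h.Q_exp hx), inv_eq_of_mul_eq_one_right (h.Q_exp hy)]

theorem inter_eq : qGrp T K ⊓ qGrp T K' = omegaCenterOf (thompsonSubgroupOf 2 T) := by
  apply le_antisymm
  · intro d hd
    obtain ⟨hdQ, hdQ'⟩ := Subgroup.mem_inf.mp hd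
    refine omega_le_omega_thompson (mem_omegaCenterOf.mpr
      ⟨qGrp_le T K hdQ, fun x hx => ?_, by rw [pow_two]; exact h.inter_sq hd⟩)
    rcases h.T_split hx with e | e
    · exact h.Q_comm e hdQ
    · have h1 : Commute (x * b) d := h.Q_comm e hdQ
      have h2 : Commute b d := Subgroup.mem_centralizer_iff.mp (Subgroup.mem_inf.mp hdQ').2 b h.bW
      have h3 := h1.mul_left h2
      rwa [mul_assoc, h.b_sq, mul_one] at h3
  · intro z hz
    have hzT : z ∈ T := thompsonSubgroupOf_le 2 T (mem_omegaCenterOf.mp hz).1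
    exact Subgroup.mem_inf.mpr
      ⟨Subgroup.mem_inf.mpr ⟨hzT, Subgroup.mem_centralizer_iff.mpr fun v hv =>
        (h.F_central hz (wOf_le_T h.duo.pos h.duo.norm hv)).eq⟩,
      Subgroup.mem_inf.mpr ⟨hzT, Subgroup.mem_centralizer_iff.mpr fun v hv =>
        (h.F_central hz (wOf_le_T h.duo.pos' h.duo.norm' hv)).eq⟩⟩

theorem Q_split {x : G} (hx : x ∈ qGrp T K) :
    x ∈ omegaCenterOf (thompsonSubgroupOf 2 T) ∨ x * a ∈ omegaCenterOf (thompsonSubgroupOf 2 T) := by
  rw [← h.inter_eq]; exact h.Q_inter hx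

theorem card_T : Nat.card T = 4 * Nat.card ↥(omegaCenterOf (thompsonSubgroupOf 2 T)) := by
  set F := omegaCenterOf (thompsonSubgroupOf 2 T) with hF
  have hFQ : F ≤ qGrp T K := h.inter_eq.ge.trans inf_le_left
  have haF : a ∉ F := fun e => h.ncomm (h.F_central e h.b_T).symm
  have h1 : F.relIndex (qGrp T K) = 2 := by
    rw [Subgroup.relIndex, Subgroup.index_eq_two_iff]
    refine ⟨⟨a, h.a_mem⟩, fun x => ?_⟩
    rw [Subgroup.mem_subgroupOf, Subgroup.mem_subgroupOf, Subgroup.coe_mul]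
    by_cases hx : (x : G) ∈ F
    · exact Or.inr ⟨hx, fun e => haF (by simpa using F.mul_mem (F.inv_mem hx) e)⟩
    · exact Or.inl ⟨(h.Q_split x.2).resolve_left hx, hx⟩
  have h2 := Subgroup.relIndex_mul_relIndex (⊥ : Subgroup G) F T bot_le (hFQ.trans (qGrp_le T K))
  have h3 := Subgroup.relIndex_mul_relIndex F (qGrp T K) T hFQ (qGrp_le T K)
  rw [h1, relIndex_qGrp h.duo.pos h.duo.norm h.duo.small] at h3
  rw [Subgroup.relIndex_bot_left, Subgroup.relIndex_bot_left, ← h3] at h2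
  omega

theorem unique_comp {K₂ : Subgroup G} (hK₂ : IsJComponent T K₂) (hK₂L : K₂ ≤ L) : K₂ = K := by
  by_contra hne
  have q := h.duo.pos
  have c := q.ctx
  obtain ⟨hWW, -⟩ := fix_commute c q.comp q.K_le hK₂ hK₂L (Ne.symm hne)
  obtain ⟨v, hvZ, hvW, hv1, -, hvu⟩ := exists_fixW q.two hK₂
  have hTK₂ : T ≤ Subgroup.normalizer (K₂ : Set G) := by
    refine c.T_le_normalizer hK₂ hK₂L fun e => hv1 (Subgroup.mem_bot.mp (e ▸ ?_))
    exact Subgroup.mem_inf.mpr ⟨Subgroup.mem_inf.mpr ⟨thompsonSubgroupOf_le 2 T (mem_omegaCenterOf.mp hvZ).1,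
      Subgroup.mem_centralizer_iff.mpr fun t ht => (h.F_central hvZ ht).eq⟩, hvW⟩
  have hW₂T : wOf K₂ ≤ T := (wOf_le_pCoreOf K₂).trans (c.le_T_of_normalized (pCoreOf_isPGroup K₂)
    ((pCoreOf_le K₂).trans hK₂L) (hTK₂.trans (normalizer_le_normalizer_pCoreOf K₂)))
  have hn1 : K₂ ≤ Subgroup.normalizer (wOf K : Set G) :=
    ((c.component_preN hK₂ hK₂L).1.trans (c.component_preN q.comp q.K_le).2).trans
      (normalizer_le_normalizer_wOf K)
  have hn2 : K ≤ Subgroup.normalizer (wOf K₂ : Set G) :=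
    ((c.component_preN q.comp q.K_le).1.trans (c.component_preN hK₂ hK₂L).2).trans
      (normalizer_le_normalizer_wOf K₂)
  have hW₂Q : wOf K₂ ≤ qGrp T K := fun u hu => Subgroup.mem_inf.mpr ⟨hW₂T hu,
    Subgroup.mem_centralizer_iff.mpr fun x hx => by
      have h1 : ⁅x, u⁆ ∈ wOf K := by
        rw [commutatorElement_def]
        have := (Subgroup.mem_normalizer_iff.mp (hn1 (wOf_le K₂ hu)) x⁻¹).mp (inv_mem hx)
        have e : x * u * x⁻¹ * u⁻¹ = x * (u * x⁻¹ * u⁻¹) := by group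
        rw [e]; exact mul_mem hx this
      have h2 : ⁅x, u⁆ ∈ wOf K₂ := by
        rw [commutatorElement_def]
        exact mul_mem ((Subgroup.mem_normalizer_iff.mp (hn2 (wOf_le K hx)) u).mp hu) (inv_mem hu)
      exact commutatorElement_eq_one_iff_mul_comm.mp
        (Subgroup.mem_bot.mp (hWW ▸ Subgroup.mem_inf.mpr ⟨h1, h2⟩))⟩
  obtain ⟨u, hu, huF⟩ : ∃ u ∈ wOf K₂, u ∉ omegaCenterOf (thompsonSubgroupOf 2 T) := by
    by_contra hall
    push Not at hall
    classical
    have hsub : (wOf K₂ : Set G) ⊆ ({1, v} : Finset G) := by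
      intro x hx
      simp only [Finset.coe_insert, Finset.coe_singleton, Set.mem_insert_iff, Set.mem_singleton_iff]
      exact hvu x ⟨hall x hx, hx⟩
    have h5 := Set.ncard_le_ncard hsub (Finset.finite_toSet _)
    rw [Set.ncard_coe_finset, ← Nat.card_coe_set_eq] at h5
    have h6 : Nat.card ↥(wOf K₂) ≤ 2 := h5.trans Finset.card_le_two
    have h4 : Nat.card ↥(wOf K₂) = 4 := hK₂.2.2.2.2.1
    omega
  have hφ := (h.Q_split (hW₂Q hu)).resolve_left huF
  set φ := u * a with hφdef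
  have hue : u = φ * a := by rw [hφdef, mul_assoc, h.a_sq, mul_one]
  have hbu : b * u * b⁻¹ ∈ wOf K₂ :=
    (Subgroup.mem_normalizer_iff.mp (normalizer_le_normalizer_wOf K₂ (hTK₂ h.b_T)) u).mp hu
  have hbab : b * a * b⁻¹ = a * w := by
    have e := h.comm
    rw [commutatorElement_def, inv_eq_of_mul_eq_one_right h.a_sq] at e
    calc b * a * b⁻¹ = (a * a) * (b * a * b⁻¹) := by rw [h.a_sq, one_mul]
      _ = a * (a * b * a * b⁻¹) := by group
      _ = a * w := by rw [e]
  have he : b * u * b⁻¹ = u * w := by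
    rw [hue]
    calc b * (φ * a) * b⁻¹ = (b * φ * b⁻¹) * (b * a * b⁻¹) := by group
      _ = φ * (a * w) := by rw [(h.F_central hφ h.b_T).eq, mul_inv_cancel_right, hbab]
      _ = φ * a * w := by group
  rw [he] at hbu
  have hwW₂ : w ∈ wOf K₂ := by simpa using mul_mem (inv_mem hu) hbu
  exact h.w1 (Subgroup.mem_bot.mp (hWW ▸ Subgroup.mem_inf.mpr ⟨h.wW, hwW₂⟩))

theorem L_le_normalizer : L ≤ Subgroup.normalizer (K : Set G) := by
  have q := h.duo.pos
  by_contra hnot
  have hJX : Subgroup.normalizer (thompsonSubgroupOf 2 T : Set G) ⊓ L ≤ Subgroup.normalizer (K : Set G) := by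
    intro y hy
    obtain ⟨hyJ, hyL⟩ := Subgroup.mem_inf.mp hy
    refine mem_normalizer_of_map_conj_eq (h.unique_comp (isJComponent_congr ?_
      (isJComponent_map q.comp (MulAut.conj y))) ?_)
    · rw [← thompsonSubgroupOf_map (f := (MulAut.conj y).toMonoidHom) (MulAut.conj y).injective]
      exact map_conj_eq_of_mem_normalizer hyJ
    · rintro _ ⟨k, hk, rfl⟩
      exact L.mul_mem (L.mul_mem hyL (q.K_le hk)) (L.inv_mem hyL)
  obtain ⟨K₂, hK₂, hK₂L, hK₂n⟩ := q.ctx.exists_component_outside hJX hnot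
  rw [h.unique_comp hK₂ hK₂L] at hK₂n
  exact hK₂n Subgroup.le_normalizer

theorem core_L : pCoreOf 2 L = qGrp T K := by
  have q := h.duo.pos
  have h1 : pCoreOf 2 L ≤ qGrp T K := by
    rw [← pCoreOf_sup q h.duo.norm h.duo.small]
    exact two_le_pCoreOf (pCoreOf_isPGroup L) (q.ctx.core_le_T.trans le_sup_right)
      ((sup_le_L q).trans q.ctx.L_le_normalizer_core)
  exact le_antisymm h1 fun x hx => q.ctx.mem.2.2
    (Subgroup.mem_centralizer_iff.mpr fun y hy => (h.Q_comm (h1 hy) hx).eq)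

theorem eq_modZ {x : G} (hx : x ∈ qGrp T K) : x ∈ modZ T K := by
  rcases h.Q_split hx with e | e
  · exact omega_le_modZ h.duo.pos e
  · have := mul_mem (omega_le_modZ h.duo.pos e) (Subgroup.mem_sup_right h.aW : a ∈ modZ T K)
    rwa [mul_assoc, h.a_sq, mul_one] at this

theorem centralizer_W : L ⊓ Subgroup.centralizer (wOf K : Set G) = qGrp T K := by
  have q := h.duo.pos
  have hn : L ≤ Subgroup.normalizer (wOf K : Set G) :=
    h.L_le_normalizer.trans (normalizer_le_normalizer_wOf K)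
  set N := L ⊓ Subgroup.centralizer (wOf K : Set G) with hN
  have hQN : qGrp T K ≤ N := fun x hx =>
    Subgroup.mem_inf.mpr ⟨q.sylow.1 (qGrp_le T K hx), (Subgroup.mem_inf.mp hx).2⟩
  have hQn : L ≤ Subgroup.normalizer (qGrp T K : Set G) := h.core_L ▸ q.ctx.L_le_normalizer_core
  have hsq : ∀ x ∈ N, x * x ∈ qGrp T K := by
    intro x hx
    obtain ⟨hxL, hxC⟩ := Subgroup.mem_inf.mp hx
    have hxv : ∀ v ∈ wOf K, x * v * x⁻¹ = v := fun v hv => by
      rw [← Subgroup.mem_centralizer_iff.mp hxC v hv, mul_inv_cancel_right]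
    rw [← h.core_L]
    refine q.ctx.mem.2.2 (Subgroup.mem_centralizer_iff.mpr fun y hy => ?_)
    have hyQ : y ∈ qGrp T K := h.core_L ▸ hy
    obtain ⟨c, hc, v, hv, rfl⟩ := mem_modZ (h.eq_modZ hyQ)
    have hcQ : c ∈ qGrp T K := by
      have hcv := mul_mem hyQ (inv_mem (wOf_le_qGrp q h.duo.norm hv))
      rwa [mul_inv_cancel_right] at hcv
    obtain ⟨c', hc', v', hv', he⟩ := mem_modZ (h.eq_modZ ((Subgroup.mem_normalizer_iff.mp (hQn hxL) c).mp hcQ))
    have hcc : c' = c := by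
      have hhyp : Nat.card ↥(hyp T K) ≤ 2 := by
        have h1 := card_omega_eq q.two q.comp
        have h2 := h.duo.small
        omega
      by_cases h1 : c = 1
      · rw [h1, mul_one, mul_inv_cancel] at he
        refine (eq_one_of_mem_hyp_wOf q.comp hc' ?_).trans h1.symm
        rw [eq_inv_of_mul_eq_one_left he.symm]; exact inv_mem hv'
      · have hc2 : Nat.card ↥(hyp T K) = 2 := by
          have : Nat.card ↥(hyp T K) ≠ 1 := fun e => h1 (Subgroup.mem_bot.mp (Subgroup.card_eq_one.mp e ▸ hc))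
          have : 0 < Nat.card ↥(hyp T K) := Nat.card_pos
          omega
        obtain ⟨z, -, -, hzu⟩ := exists_ne_of_card_two hc2
        by_cases h2 : c' = 1
        · exfalso
          apply h1
          rw [h2, one_mul] at he
          have e1 : x⁻¹ * v' * x = c := by rw [← he]; group
          have e2 : x⁻¹ * v' * x = v' := by
            conv_lhs => rw [← hxv v' hv']
            group
          exact eq_one_of_mem_hyp_wOf q.comp hc (e1.symm.trans e2 ▸ hv')
        · rw [(hzu c' hc').resolve_left h2, (hzu c hc).resolve_left h1]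
    subst hcc
    have hfix : x * x * (c' * v) * (x * x)⁻¹ = c' * v := by
      calc x * x * (c' * v) * (x * x)⁻¹ = x * ((x * c' * x⁻¹) * (x * v * x⁻¹)) * x⁻¹ := by group
        _ = x * ((c' * v') * v) * x⁻¹ := by rw [he, hxv v hv]
        _ = (x * c' * x⁻¹) * (x * v' * x⁻¹) * (x * v * x⁻¹) := by group
        _ = c' * v' * v' * v := by rw [he, hxv v' hv', hxv v hv]
        _ = c' * (v' * v') * v := by group
        _ = c' * v := by rw [q.comp.2.2.2.2.2 v' hv', mul_one]
    calc c' * v * (x * x) = x * x * (c' * v) * (x * x)⁻¹ * (x * x) := by rw [hfix]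
      _ = x * x * (c' * v) := by group
  refine le_antisymm ?_ hQN
  rw [← h.core_L]
  refine two_le_pCoreOf (fun x => ⟨2, Subtype.ext ?_⟩) inf_le_left ?_
  · push_cast
    have h1 := h.Q_exp (hsq _ x.2)
    rw [← h1]; simp [pow_succ, mul_assoc]
  · exact (le_inf Subgroup.le_normalizer (hn.trans (CfsgLib.CharP.normalizer_le_normalizer_centralizer _))).trans
      Subgroup.inf_normalizer_le_normalizer_inf

theorem L_eq : L = K ⊔ T := by
  have q := h.duo.pos
  refine le_antisymm (fun x hx => ?_) (sup_le_L q)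
  have hn : L ≤ Subgroup.normalizer (wOf K : Set G) :=
    h.L_le_normalizer.trans (normalizer_le_normalizer_wOf K)
  obtain ⟨p, hp, hpw⟩ : ∃ p ∈ K ⊔ T, p * w * p⁻¹ = x * w * x⁻¹ := by
    have hv := (Subgroup.mem_normalizer_iff.mp (hn hx) w).mp h.wW
    by_cases hvw : x * w * x⁻¹ = w
    · exact ⟨1, one_mem _, by rw [hvw]; group⟩
    · have hv1 : x * w * x⁻¹ ≠ 1 := fun e => h.w1 ((MulAut.conj x).injective (by simpa using e))
      obtain ⟨p, hp, -, he⟩ := exists_conj_w q h.duo.norm h.duo.small h.wZ h.wW h.w1 hv hv1 hvw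
      exact ⟨p, Subgroup.mem_sup_left hp, he⟩
  set z := p⁻¹ * x with hz
  have hzL : z ∈ L := L.mul_mem (L.inv_mem (sup_le_L q hp)) hx
  have hzw : z * w * z⁻¹ = w := by
    calc z * w * z⁻¹ = p⁻¹ * (x * w * x⁻¹) * p := by rw [hz]; group
      _ = w := by rw [← hpw]; group
  have hza : z * a * z⁻¹ ∈ wOf K := (Subgroup.mem_normalizer_iff.mp (hn hzL) a).mp h.aW
  obtain ⟨ha1, haw⟩ := h.a_ne
  have hza1 : z * a * z⁻¹ ≠ 1 := fun e => ha1 ((MulAut.conj z).injective (by simpa using e))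
  have hzaw : z * a * z⁻¹ ≠ w := fun e => haw ((MulAut.conj z).injective (e.trans hzw.symm))
  have hCmem : ∀ u ∈ L, u * w * u⁻¹ = w → u * a * u⁻¹ = a → u ∈ K ⊔ T := by
    intro u huL huw hua
    refine Subgroup.mem_sup_right (qGrp_le T K ?_)
    rw [← h.centralizer_W]
    refine Subgroup.mem_inf.mpr ⟨huL, Subgroup.mem_centralizer_iff.mpr fun v hv => ?_⟩
    have hfix : u * v * u⁻¹ = v := by
      rcases eq_or_ne v 1 with rfl | h1
      · group
      rcases eq_or_ne v w with rfl | h2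
      · exact huw
      rcases wOf_mul_mem q.comp h.wW h.w1 h.aW hv ha1 haw h1 h2 with e | e
      · have : v = a := by rw [← inv_eq_of_mul_eq_one_right h.a_sq, inv_eq_of_mul_eq_one_right e]
        rw [this, hua]
      · have : v = a * w := by rw [← e, ← mul_assoc, h.a_sq, one_mul]
        rw [this]
        calc u * (a * w) * u⁻¹ = (u * a * u⁻¹) * (u * w * u⁻¹) := by group
          _ = a * w := by rw [hua, huw]
    calc v * u = u * v * u⁻¹ * u := by rw [hfix]
      _ = u * v := by group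
  have hbw : b * w * b⁻¹ = w := by rw [(h.F_central h.wZ h.b_T).eq, mul_inv_cancel_right]
  have hzP : z ∈ K ⊔ T := by
    rcases wOf_mul_mem q.comp h.wW h.w1 h.aW hza ha1 haw hza1 hzaw with e | e
    · refine hCmem z hzL hzw ?_
      rw [← inv_eq_of_mul_eq_one_right e, inv_eq_of_mul_eq_one_right h.a_sq]
    · have hbab : b⁻¹ * (a * w) * b = a := by
        have e' := h.comm
        rw [commutatorElement_def, inv_eq_of_mul_eq_one_right h.a_sq] at e'
        have e'' : a * w = b * a * b⁻¹ := by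
          rw [← e']
          calc a * (a * b * a * b⁻¹) = (a * a) * (b * a * b⁻¹) := by group
            _ = _ := by rw [h.a_sq, one_mul]
        rw [e'']; group
      have hzaw' : z * a * z⁻¹ = a * w := by rw [← e, ← mul_assoc, h.a_sq, one_mul]
      have := hCmem (b⁻¹ * z) (L.mul_mem (L.inv_mem (q.sylow.1 h.b_T)) hzL) ?_ ?_
      · have := (K ⊔ T).mul_mem (Subgroup.mem_sup_right h.b_T) this
        rwa [mul_inv_cancel_left] at this
      · calc b⁻¹ * z * w * (b⁻¹ * z)⁻¹ = b⁻¹ * (z * w * z⁻¹) * b := by group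
          _ = b⁻¹ * (b * w * b⁻¹) * b := by rw [hzw, hbw]
          _ = w := by group
      · calc b⁻¹ * z * a * (b⁻¹ * z)⁻¹ = b⁻¹ * (z * a * z⁻¹) * b := by group
          _ = a := by rw [hzaw', hbab]
  have hxe : x = p * z := by rw [hz, mul_inv_cancel_left]
  rw [hxe]
  exact mul_mem hp hzP

theorem card_L : Nat.card L = 12 * Nat.card ↥(omegaCenterOf (thompsonSubgroupOf 2 T)) := by
  rw [h.L_eq, card_sup h.duo.pos h.duo.norm, h.card_T]
  omega

omit h in
theorem card_hyp_le {M T K L : Subgroup G} (q : Pos M T K L)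
    (hle : Nat.card ↥(omegaCenterOf (thompsonSubgroupOf 2 T)) ≤ 4) : Nat.card ↥(hyp T K) ≤ 2 := by
  have h1 := card_omega_eq q.two q.comp
  omega

/-- The type of `L` for `|Ω₁(Z(J(T)))| = 2`. -/
theorem iso_two (h2 : Nat.card ↥(omegaCenterOf (thompsonSubgroupOf 2 T)) = 2) :
    Nonempty (↥L ≃* Equiv.Perm (Fin 4)) := by
  have q := h.duo.pos
  have hWL : wOf K ≤ L := (wOf_le K).trans q.K_le
  refine nonempty_perm_four ((wOf K).subgroupOf L) (by rw [h.card_L, h2])
    (Subgroup.normal_subgroupOf_of_le_normalizer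
      (h.L_le_normalizer.trans (normalizer_le_normalizer_wOf K))) ?_ ?_ ?_
  · exact (Nat.card_congr (Subgroup.subgroupOfEquivOfLe hWL).toEquiv).trans q.comp.2.2.2.2.1
  · exact fun v hv => Subtype.ext (q.comp.2.2.2.2.2 v hv)
  · intro x hx
    have hxQ : (x : G) ∈ qGrp T K := by
      rw [← h.centralizer_W]
      exact Subgroup.mem_inf.mpr ⟨x.2, Subgroup.mem_centralizer_iff.mpr fun v hv =>
        (congrArg Subtype.val (hx ⟨v, hWL hv⟩ hv)).symm⟩
    obtain ⟨c, hc, v, hv, he⟩ := mem_modZ (h.eq_modZ hxQ)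
    have hc1 : c = 1 := by
      have h1 := card_omega_eq q.two q.comp
      have : Nat.card ↥(hyp T K) = 1 := by omega
      exact Subgroup.mem_bot.mp (Subgroup.card_eq_one.mp this ▸ hc)
    rw [hc1, one_mul] at he
    exact Subgroup.mem_subgroupOf.mpr (he ▸ hv)

/-- The type of `L` for `|Ω₁(Z(J(T)))| = 4`. -/
theorem iso_four (h4 : Nat.card ↥(omegaCenterOf (thompsonSubgroupOf 2 T)) = 4) :
    Nonempty (↥L ≃* Equiv.Perm (Fin 4) × Multiplicative (ZMod 2)) := by
  have q := h.duo.pos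
  have hn := h.duo.norm
  have hle := h.duo.small
  haveI : Fact (Nat.Prime 2) := ⟨Nat.prime_two⟩
  have hh2 : Nat.card ↥(hyp T K) = 2 := by
    have h1 := card_omega_eq q.two q.comp
    omega
  obtain ⟨c, hc, hc1, hcu⟩ := exists_ne_of_card_two hh2
  have hc2 := mul_self_of_mem_omega (hyp_le T K hc)
  have hcT : c ∈ T := thompsonSubgroupOf_le 2 T (mem_omegaCenterOf.mp (hyp_le T K hc)).1
  have hcentral := hyp_central_sup q hn hle hc
  set Z := Subgroup.zpowers c with hZ
  have hZmem : ∀ z ∈ Z, z = 1 ∨ z = c := fun z hz =>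
    hcu z (Subgroup.zpowers_le.mpr hc hz)
  have hZcard : Nat.card Z = 2 := by
    rw [hZ, Nat.card_zpowers]
    exact orderOf_eq_prime (by rw [pow_two]; exact hc2) hc1
  -- the complement
  set P₀ := K ⊔ Subgroup.zpowers b with hP₀
  have hP₀L : P₀ ≤ L := sup_le q.K_le (Subgroup.zpowers_le.mpr (q.sylow.1 h.b_T))
  have hbK : Subgroup.zpowers b ≤ Subgroup.normalizer (K : Set G) := Subgroup.zpowers_le.mpr (hn h.b_T)
  have hcK : c ∉ K := by
    intro hcK
    obtain ⟨ρ, hρK, ho, -, hgen⟩ := exists_rho q.comp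
    set H := wOf K ⊔ Subgroup.zpowers ρ with hH
    have hρn : Subgroup.zpowers ρ ≤ Subgroup.normalizer (wOf K : Set G) :=
      Subgroup.zpowers_le.mpr (normalizer_le_normalizer_wOf K (Subgroup.le_normalizer hρK))
    have hHK : H ≤ K := sup_le (wOf_le K) (Subgroup.zpowers_le.mpr hρK)
    have hcH : c ∉ H := by
      intro hcH
      rw [hH, ← SetLike.mem_coe, Subgroup.coe_mul_of_right_le_normalizer_left _ _ hρn] at hcH
      obtain ⟨v, hv, r, hr, he⟩ := hcH
      obtain ⟨m, rfl⟩ := Subgroup.mem_zpowers_iff.mp hr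
      simp only at he
      have hrT : ρ ^ m ∈ T := by
        have : ρ ^ m = v⁻¹ * c := by rw [← he, inv_mul_cancel_left]
        rw [this]; exact T.mul_mem (T.inv_mem (wOf_le_T q hn hv)) hcT
      have hr1 : ρ ^ m = 1 := by
        by_contra hne
        refine rho_not_mem q hn (ρ := ρ ^ m) ?_ hrT
        refine orderOf_eq_prime ?_ hne
        rw [← zpow_natCast, ← zpow_mul, mul_comm, zpow_mul, zpow_natCast, ← ho, pow_orderOf_eq_one, one_zpow]
      rw [hr1, mul_one] at he
      exact hc1 (eq_one_of_mem_hyp_wOf q.comp hc (he ▸ hv))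
    have hKH : K ≤ H := by
      conv_lhs => rw [← q.comp.1]
      refine (Subgroup.closure_le _).mpr ?_
      rintro x ⟨hxK, hxo⟩
      obtain ⟨y, hy, m, hxe⟩ := hgen x hxK
      have hyQ : y ∈ qGrp T K := Subgroup.mem_inf.mpr ⟨core_le_T q hn hy,
        Subgroup.mem_centralizer_iff.mpr fun u hu => (wOf_central hu hy).symm⟩
      obtain ⟨c₀, hc₀, v, hv, rfl⟩ := mem_modZ (h.eq_modZ hyQ)
      have hx' : x = c₀ * (v * ρ ^ m) := by rw [hxe, mul_assoc]
      have hvr : v * ρ ^ m ∈ H := mul_mem (Subgroup.mem_sup_left hv)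
        (Subgroup.mem_sup_right (pow_mem (Subgroup.mem_zpowers ρ) m))
      rcases hcu c₀ hc₀ with rfl | rfl
      · rw [hx', one_mul]; exact hvr
      · exfalso
        have hcomm : Commute c₀ (v * ρ ^ m) :=
          (hyp_central_sup q hn hle hc₀ _ (Subgroup.mem_sup_left (hHK hvr))).symm
        obtain ⟨k, hk⟩ := hxo
        have hc' : c₀ ^ orderOf x = c₀ := by
          rw [hk, pow_succ, pow_mul, pow_two, hc2, one_pow, one_mul]
        have h1 : c₀ * (v * ρ ^ m) ^ orderOf x = 1 := by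
          conv_lhs => rw [← hc']
          rw [← hcomm.mul_pow, ← hx', pow_orderOf_eq_one]
        apply hcH
        rw [eq_inv_of_mul_eq_one_left h1]
        exact H.inv_mem (pow_mem hvr _)
    exact hcH (hKH hcK)
  have hcP₀ : c ∉ P₀ := by
    intro hcP
    rw [hP₀, ← SetLike.mem_coe, Subgroup.coe_mul_of_right_le_normalizer_left _ _ hbK] at hcP
    obtain ⟨k, hk, r, hr, he⟩ := hcP
    simp only at he
    obtain ⟨m, rfl⟩ := Subgroup.mem_zpowers_iff.mp hr
    have hb2 : b ^ (2 : ℤ) = 1 := by rw [zpow_ofNat, pow_two, h.b_sq]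
    rcases Int.even_or_odd' m with ⟨l, rfl | rfl⟩
    · rw [zpow_mul, hb2, one_zpow, mul_one] at he
      exact hcK (he ▸ hk)
    · rw [zpow_add, zpow_mul, hb2, one_zpow, one_mul, zpow_one] at he
      apply h.b_not_mem
      have hkT : k ∈ T := by
        have : k = c * b⁻¹ := by rw [← he, mul_inv_cancel_right]
        rw [this]; exact T.mul_mem hcT (T.inv_mem h.b_T)
      have hkQ : k ∈ qGrp T K := by
        refine Subgroup.mem_inf.mpr ⟨hkT, Subgroup.mem_centralizer_iff.mpr fun u hu => (wOf_central hu ?_).symm⟩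
        rw [← T_inf_K q hn]; exact Subgroup.mem_inf.mpr ⟨hkT, hk⟩
      have hcQ : c ∈ qGrp T K := (Subgroup.mem_inf.mp (h.inter_eq.ge (hyp_le T K hc))).1
      have : b = k⁻¹ * c := by rw [← he, inv_mul_cancel_left]
      rw [this]; exact mul_mem (inv_mem hkQ) hcQ
  -- the product
  have hcomm : ∀ (x : ↥P₀) (z : ↥Z), Commute (x : G) (z : G) := by
    intro x z
    rcases hZmem z z.2 with e | e <;> rw [e]
    · exact Commute.one_right _
    · exact hcentral x (h.L_eq.le (hP₀L x.2))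
  let f : ↥P₀ × ↥Z →* G := MonoidHom.noncommCoprod P₀.subtype Z.subtype hcomm
  have hfapp : ∀ x, f x = (x.1 : G) * (x.2 : G) := fun x => rfl
  have hfinj : Function.Injective f := by
    rw [← MonoidHom.ker_eq_bot_iff, eq_bot_iff]
    rintro ⟨x, z⟩ hxz
    rw [MonoidHom.mem_ker, hfapp] at hxz
    rcases hZmem z z.2 with e | e
    · rw [e, mul_one] at hxz
      exact Subgroup.mem_bot.mpr (Prod.ext (Subtype.ext hxz) (Subtype.ext e))
    · exfalso
      rw [e] at hxz
      exact hcP₀ (by rw [eq_inv_of_mul_eq_one_right hxz]; exact P₀.inv_mem x.2)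
  have hrange : f.range = L := by
    refine le_antisymm ?_ ?_
    · rintro _ ⟨x, rfl⟩
      rw [hfapp]
      exact L.mul_mem (hP₀L x.1.2) (q.sylow.1 (Subgroup.zpowers_le.mpr hcT x.2.2))
    · rw [h.L_eq]
      have hP₀r : P₀ ≤ f.range := fun x hx => ⟨(⟨x, hx⟩, 1), by rw [hfapp]; simp⟩
      have hcr : c ∈ f.range := ⟨(1, ⟨c, Subgroup.mem_zpowers c⟩), by rw [hfapp]; simp⟩
      have hbr : b ∈ f.range := hP₀r (Subgroup.mem_sup_right (Subgroup.mem_zpowers b))
      have hQr : qGrp T K ≤ f.range := by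
        intro x hx
        obtain ⟨c₀, hc₀, v, hv, rfl⟩ := mem_modZ (h.eq_modZ hx)
        refine mul_mem ?_ (hP₀r (Subgroup.mem_sup_left (wOf_le K hv)))
        rcases hcu c₀ hc₀ with rfl | rfl
        · exact one_mem _
        · exact hcr
      refine sup_le (le_sup_left.trans hP₀r) fun x hx => ?_
      rcases h.T_split hx with e | e
      · exact hQr e
      · have := f.range.mul_mem (hQr e) hbr
        rwa [mul_assoc, h.b_sq, mul_one] at this
  let e₁ : ↥L ≃* ↥P₀ × ↥Z :=
    (MulEquiv.subgroupCongr hrange.symm).trans (MonoidHom.ofInjective hfinj).symm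
  have hP₀card : Nat.card P₀ = 24 := by
    have h1 := Nat.card_congr e₁.toEquiv
    rw [Nat.card_prod, hZcard, h.card_L, h4] at h1
    omega
  have hWP : wOf K ≤ P₀ := (wOf_le K).trans le_sup_left
  obtain ⟨e₂⟩ := nonempty_perm_four ((wOf K).subgroupOf P₀) hP₀card
    (Subgroup.normal_subgroupOf_of_le_normalizer
      ((hP₀L.trans h.L_le_normalizer).trans (normalizer_le_normalizer_wOf K)))
    ((Nat.card_congr (Subgroup.subgroupOfEquivOfLe hWP).toEquiv).trans q.comp.2.2.2.2.1)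
    (fun v hv => Subtype.ext (q.comp.2.2.2.2.2 v hv))
    (fun x hx => by
      have hxQ : (x : G) ∈ qGrp T K := by
        rw [← h.centralizer_W]
        exact Subgroup.mem_inf.mpr ⟨hP₀L x.2, Subgroup.mem_centralizer_iff.mpr fun v hv =>
          (congrArg Subtype.val (hx ⟨v, hWP hv⟩ hv)).symm⟩
      obtain ⟨c₀, hc₀, v, hv, he⟩ := mem_modZ (h.eq_modZ hxQ)
      rcases hcu c₀ hc₀ with rfl | rfl
      · rw [one_mul] at he; exact Subgroup.mem_subgroupOf.mpr (he ▸ hv)
      · exfalso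
        apply hcP₀
        have : c₀ = (x : G) * v⁻¹ := by rw [he, mul_inv_cancel_right]
        rw [this]; exact P₀.mul_mem x.2 (P₀.inv_mem (hWP hv)))
  have e₃ : ↥Z ≃* Multiplicative (ZMod 2) :=
    mulEquivOfPrimeCardEq hZcard (by simp)
  exact ⟨e₁.trans (e₂.prodCongr e₃)⟩

end Shape

end CfsgLib.JComp
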