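import Mathlib.GroupTheory.PGroup
import Mathlib.GroupTheory.Commutator.Basic
import Mathlib.Tactic.Group

/-!
A rank two amalgam argument: two subgroups `P i` sharing the 2-group `T`, each acting on a
four-group-like module `Z i`. If no nontrivial 2-subgroup is normalised by both (and the
configuration is symmetric), then `Z false` and `Z true` do not commute.
-/

set_option autoImplicit false
open scoped commutatorElement

namespace CfsgLib.JComp.Tree

variable {G : Type*} [Group G]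

/-- The configuration. -/
structure Pair (T F : Subgroup G) (P Z : Bool → Subgroup G) (w : Bool → G) : Prop where
  T_le : ∀ i, T ≤ P i
  Z_le : ∀ i, Z i ≤ T
  normal : ∀ i, P i ≤ Subgroup.normalizer (Z i : Set G)
  exp2 : ∀ i, ∀ a ∈ Z i, a * a = 1
  cent_le : ∀ i, P i ⊓ Subgroup.centralizer (Z i : Set G) ≤ T
  w_mem : ∀ i, w i ∈ F
  F_le : ∀ i, F ≤ Z i
  F_central : ∀ f ∈ F, ∀ t ∈ T, t * f = f * t
  F_index : ∀ i, ∀ x ∈ Z i, ∀ x' ∈ Z i, x ∉ F → x' ∉ F → x * x' ∈ F
  comm_mem : ∀ i, ∀ t ∈ T, ∀ a ∈ Z i, ⁅a, t⁆ = 1 ∨ ⁅a, t⁆ = w i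
  w_ne : ∀ i, w i ≠ 1
  move : ∀ i, ∀ p ∈ P i, p ∉ T → ∀ b ∈ T, b ∉ Subgroup.centralizer (Z i : Set G) →
    b * (p * w i * p⁻¹) ≠ (p * w i * p⁻¹) * b
  other : ∀ i, (∀ p ∈ P i, p * w (!i) = w (!i) * p) ∨
    ∀ p ∈ P i, p ∉ T → ∀ b ∈ T, b ∉ Subgroup.centralizer (Z i : Set G) →
      b * (p * w (!i) * p⁻¹) ≠ (p * w (!i) * p⁻¹) * b
  gen : ∀ i, ∀ X : Subgroup G, T ≤ X → ∀ p ∈ X, p ∈ P i → p ∉ T → P i ≤ X
  proper : ∀ i, ∃ p ∈ P i, p ∉ T
  core : ∀ U : Subgroup G, IsPGroup 2 U → P false ≤ Subgroup.normalizer (U : Set G) →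
    P true ≤ Subgroup.normalizer (U : Set G) → U = ⊥
  sym : ∀ i, P i ≤ Subgroup.normalizer ((Z i ⊔ Z (!i) : Subgroup G) : Set G) →
    P (!i) ≤ Subgroup.normalizer ((Z i ⊔ Z (!i) : Subgroup G) : Set G)

/-- Walks in the coset tree: the vertex `(g, s)` stands for the conjugate of `P s` by `g`, so that `g`
is determined up to a factor from `P s` on the right; `(g, s)` and `(g, !s)` are adjacent. -/
inductive Walk (P : Bool → Subgroup G) : Bool → Bool → ℕ → G → Prop
  | nil {i : Bool} {r : G} : r ∈ P i → Walk P i i 0 r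
  | snoc {i s : Bool} {n : ℕ} {g r : G} : Walk P i s n g → r ∈ P (!s) → Walk P i (!s) (n + 1) (g * r)

namespace Walk

variable {P : Bool → Subgroup G}

theorem one (i : Bool) : Walk P i i 0 1 := Walk.nil (P i).one_mem

theorem mul_left {i s : Bool} {n : ℕ} {g p : G} (h : Walk P i s n g) (hp : p ∈ P i) :
    Walk P i s n (p * g) := by
  induction h with
  | nil hr => exact Walk.nil ((P _).mul_mem hp hr)
  | snoc _ hq ih => rw [← mul_assoc]; exact ih.snoc hq

theorem mul_right {i s : Bool} {n : ℕ} {g p : G} (h : Walk P i s n g) (hp : p ∈ P s) :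
    Walk P i s n (g * p) := by
  cases h with
  | nil hr => exact Walk.nil ((P _).mul_mem hr hp)
  | snoc h hq => rw [mul_assoc]; exact h.snoc ((P _).mul_mem hq hp)

theorem cons {i j s : Bool} {n : ℕ} {g p : G} (h : Walk P j s n g) (hj : j = !i) (hp : p ∈ P i) :
    Walk P i s (n + 1) (p * g) := by
  induction h with
  | nil hr => subst hj; exact (Walk.nil hp).snoc hr
  | snoc _ hq ih => rw [← mul_assoc]; exact ih.snoc hq

theorem rev {i s : Bool} {n : ℕ} {g : G} (h : Walk P i s n g) : Walk P s i n g⁻¹ := by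
  induction h with
  | nil hr => exact Walk.nil ((P _).inv_mem hr)
  | snoc _ hp ih =>
    rw [mul_inv_rev]
    exact ih.cons (Bool.not_not _).symm ((P _).inv_mem hp)

theorem unsnoc {i s : Bool} {n : ℕ} {g : G} (h : Walk P i s (n + 1) g) :
    ∃ g' r, Walk P i (!s) n g' ∧ r ∈ P s ∧ g = g' * r := by
  cases h with
  | snoc h hr => exact ⟨_, _, by simpa using h, hr, rfl⟩

theorem uncons {i s : Bool} {n : ℕ} {g : G} (h : Walk P i s (n + 1) g) :
    ∃ g' r, Walk P (!i) s n g' ∧ r ∈ P i ∧ g = r * g' := by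
  obtain ⟨g', r, hg, hr, he⟩ := h.rev.unsnoc
  exact ⟨g'⁻¹, r⁻¹, hg.rev, (P i).inv_mem hr, by rw [← inv_inv g, he, mul_inv_rev]⟩

theorem trans {i j s : Bool} {n m : ℕ} {g g' : G} (h : Walk P i j n g) (h' : Walk P j s m g') :
    Walk P i s (n + m) (g * g') := by
  induction h' with
  | nil hr => simpa using h.mul_right hr
  | snoc _ hp ih =>
    rw [← mul_assoc, ← add_assoc]
    exact ih.snoc hp

/-- A single edge. -/
theorem edge (s : Bool) {q : G} (hq : q ∈ P (!s)) : Walk P (!s) s 1 q := by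
  simpa using (Walk.one (P := P) s).cons (Bool.not_not s).symm hq

end Walk

section

variable {T F : Subgroup G} {P Z : Bool → Subgroup G} {w : Bool → G}

theorem normalizer_sup {A B : Subgroup G} {t : G} (hA : t ∈ Subgroup.normalizer (A : Set G))
    (hB : t ∈ Subgroup.normalizer (B : Set G)) :
    t ∈ Subgroup.normalizer ((A ⊔ B : Subgroup G) : Set G) := by
  have key : ∀ y : G, y ∈ Subgroup.normalizer (A : Set G) → y ∈ Subgroup.normalizer (B : Set G) →
      ∀ z ∈ A ⊔ B, y * z * y⁻¹ ∈ A ⊔ B := by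
    intro y hyA hyB z hz
    have : A ⊔ B ≤ (A ⊔ B).comap (MulAut.conj y).toMonoidHom := sup_le
      (fun a ha => Subgroup.mem_sup_left ((Subgroup.mem_normalizer_iff.mp hyA a).mp ha))
      (fun a ha => Subgroup.mem_sup_right ((Subgroup.mem_normalizer_iff.mp hyB a).mp ha))
    exact this hz
  rw [Subgroup.mem_normalizer_iff]
  refine fun z => ⟨key t hA hB z, fun hz => ?_⟩
  have := key t⁻¹ (inv_mem hA) (inv_mem hB) _ hz
  simpa [mul_assoc] using this

/-- All vertex pairs at distance less than `b` commute. -/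
def Below (P Z : Bool → Subgroup G) (b : ℕ) : Prop :=
  ∀ i s n g, Walk P i s n g → n < b → ∀ a ∈ Z i, ∀ x ∈ Z s, Commute a (g * x * g⁻¹)

theorem conj_mem {X Y : Subgroup G} (h : Y ≤ Subgroup.normalizer (X : Set G)) {y x : G} (hy : y ∈ Y)
    (hx : x ∈ X) : y * x * y⁻¹ ∈ X :=
  (Subgroup.mem_normalizer_iff.mp (h hy) x).mp hx

theorem conj_mem' {X Y : Subgroup G} (h : Y ≤ Subgroup.normalizer (X : Set G)) {y x : G} (hy : y ∈ Y)
    (hx : x ∈ X) : y⁻¹ * x * y ∈ X := by
  simpa using conj_mem h (Y.inv_mem hy) hx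

namespace Pair

variable (c : Pair T F P Z w)
include c

theorem comm_Z {i : Bool} {a a' : G} (ha : a ∈ Z i) (ha' : a' ∈ Z i) : Commute a a' := by
  have h1 := c.exp2 i a ha
  have h2 := c.exp2 i a' ha'
  have h3 := c.exp2 i _ ((Z i).mul_mem ha ha')
  rw [commute_iff_eq]
  calc a * a' = a * a' * ((a' * a') * (a * a)) := by rw [h1, h2, mul_one, mul_one]
    _ = (a * a') * a' * (a' * a) * a := by group
    _ = a * (a' * a') * (a' * a) * a := by group
    _ = a * (a' * a * a) := by rw [h2]; group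
    _ = a * (a' * (a * a)) := by group
    _ = a * a' := by rw [h1, mul_one]
    _ = a' * a * ((a * a') * (a * a')) := by
      rw [h3, mul_one]
      calc a * a' = (a * a')⁻¹ := (inv_eq_of_mul_eq_one_right h3).symm
        _ = a'⁻¹ * a⁻¹ := mul_inv_rev _ _
        _ = a' * a := by rw [inv_eq_of_mul_eq_one_right h1, inv_eq_of_mul_eq_one_right h2]
    _ = _ := by rw [h3, mul_one]

theorem stab {b : ℕ} (hb : Below P Z b) {i s : Bool} {n : ℕ} {g : G} (h : Walk P i s n g) :
    n < b → ∀ a ∈ Z i, g⁻¹ * a * g ∈ T := by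
  induction h with
  | nil hr => intro _ a ha; exact c.Z_le _ (conj_mem' (c.normal _) hr ha)
  | @snoc s' n' g' r h' hr ih =>
    intro hn a ha
    have h1 := ih (by omega) a ha
    have hT : g'⁻¹ * a * g' ∈ P (!s') := c.T_le _ h1
    have h2 : g'⁻¹ * a * g' ∈ Subgroup.centralizer (Z (!s') : Set G) := by
      refine Subgroup.mem_centralizer_iff.mpr fun x hx => ?_
      have h3 := (hb _ _ _ _ (h'.snoc (P (!s')).one_mem) hn a ha x hx).eq
      rw [mul_one] at h3
      calc x * (g'⁻¹ * a * g') = g'⁻¹ * ((g' * x * g'⁻¹) * a) * g' := by group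
        _ = g'⁻¹ * (a * (g' * x * g'⁻¹)) * g' := by rw [h3]
        _ = _ := by group
    rw [show (g' * r)⁻¹ * a * (g' * r) = r⁻¹ * (g'⁻¹ * a * g') * r by group]
    refine c.cent_le (!s') (Subgroup.mem_inf.mpr
      ⟨(P _).mul_mem ((P _).mul_mem ((P _).inv_mem hr) hT) hr, ?_⟩)
    refine Subgroup.mem_centralizer_iff.mpr fun z hz => ?_
    have h5 := Subgroup.mem_centralizer_iff.mp h2 _ (conj_mem (c.normal (!s')) hr hz)
    calc z * (r⁻¹ * (g'⁻¹ * a * g') * r)
        = r⁻¹ * ((r * z * r⁻¹) * (g'⁻¹ * a * g')) * r := by group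
      _ = r⁻¹ * ((g'⁻¹ * a * g') * (r * z * r⁻¹)) * r := by rw [h5]
      _ = _ := by group

/-- The value of a nontrivial commutator seen from `i`. -/
theorem comm_eq {i : Bool} {a t : G} (ht : t ∈ T) (ha : a ∈ Z i) (h : ¬ Commute a t) : ⁅a, t⁆ = w i :=
  (c.comm_mem i t ht a ha).resolve_left fun e => h (commutatorElement_eq_one_iff_mul_comm.mp e)

/-- The value of a nontrivial commutator seen from the far end. -/
theorem comm_eq' {b : ℕ} (hb : Below P Z b) {i s t : Bool} {n : ℕ} {g : G} (h : Walk P i t n g)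
    (hn : n < b) {a x : G} (ha : a ∈ Z i) (hx : x ∈ Z s) (hne : ¬ Commute a (g * x * g⁻¹)) :
    ⁅g * x * g⁻¹, a⁆ = g * w s * g⁻¹ := by
  have h1 : ⁅g * x * g⁻¹, a⁆ = g * ⁅x, g⁻¹ * a * g⁆ * g⁻¹ := by
    simp only [commutatorElement_def]; group
  rw [h1, c.comm_eq (c.stab hb h hn a ha) hx]
  intro hc
  apply hne
  rw [commute_iff_eq]
  calc a * (g * x * g⁻¹) = g * ((g⁻¹ * a * g) * x) * g⁻¹ := by group
    _ = g * (x * (g⁻¹ * a * g)) * g⁻¹ := by rw [hc.eq]
    _ = _ := by group

theorem w_mem_Z (i j : Bool) : w j ∈ Z i := c.F_le i (c.w_mem j)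

theorem w_inv (i : Bool) : (w i)⁻¹ = w i :=
  inv_eq_of_mul_eq_one_right (c.exp2 i _ (c.w_mem_Z i i))

/-- The data at a critical pair: `g` is the inner part of a walk of length `n + 2`. -/
theorem crit_facts {n : ℕ} (hb : Below P Z (n + 2)) {i s : Bool} {g a x : G}
    (hg : Walk P (!i) (!s) n g) (ha : a ∈ Z i) (hx : x ∈ Z s)
    (hne : ¬ Commute a (g * x * g⁻¹)) :
    g * x * g⁻¹ ∈ T ∧ g * x * g⁻¹ ∉ Subgroup.centralizer (Z i : Set G) ∧ w i = g * w s * g⁻¹ := by
  have hbT : g * x * g⁻¹ ∈ T := by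
    have h := hg.rev.cons rfl (P s).one_mem
    have := c.stab hb h (by omega) x hx
    simpa using this
  refine ⟨hbT, fun h => hne (Subgroup.mem_centralizer_iff.mp h a ha), ?_⟩
  have hw : Walk P i (!s) (n + 1) g := by simpa using hg.cons rfl (P i).one_mem
  have h1 := c.comm_eq hbT ha hne
  have h2 := c.comm_eq' hb hw (by omega) ha hx hne
  rw [← commutatorElement_inv, h1, c.w_inv] at h2
  exact h2

/-- At a critical pair the neighbours on the far side of the start make a new critical pair. -/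
theorem shift {n : ℕ} (hb : Below P Z (n + 2)) {i s : Bool} {h q a x : G}
    (hh : Walk P i s n h) (hg : Walk P (!i) (!s) n (h * q)) (hq : q ∈ P (!s)) (ha : a ∈ Z i)
    (hx : x ∈ Z s)
    (hne : ¬ Commute a (h * q * x * (h * q)⁻¹)) {p₀ : G} (hp₀ : p₀ ∈ P i) (hp₀T : p₀ ∉ T) :
    ∃ d ∈ Z (!i), ∃ m ∈ Z (!s), ¬ Commute d ((p₀⁻¹ * h) * m * (p₀⁻¹ * h)⁻¹) := by
  by_contra hall
  push Not at hall
  obtain ⟨hbT, hbC, hw⟩ := c.crit_facts hb hg ha hx hne
  set g := h * q with hgdef
  set bb := g * x * g⁻¹ with hbb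
  set k := p₀⁻¹ * h with hk
  have hk1 : Walk P i s n k := hh.mul_left ((P i).inv_mem hp₀)
  have hk2 : Walk P (!i) s (n + 1) k := by
    simpa using hk1.cons (Bool.not_not i).symm (P (!i)).one_mem
  -- the elements of `p₀ Z(!i) p₀⁻¹` move `bb` by `w i` at most
  have hmove : ∀ d ∈ Z (!i), ⁅p₀ * d * p₀⁻¹, bb⁆ = 1 ∨ ⁅p₀ * d * p₀⁻¹, bb⁆ = w i := by
    intro d hd
    have h1 := c.stab hb hk2 (by omega) d hd
    have h2 : k⁻¹ * d * k ∈ P (!s) ⊓ Subgroup.centralizer (Z (!s) : Set G) := by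
      refine Subgroup.mem_inf.mpr ⟨c.T_le _ h1, Subgroup.mem_centralizer_iff.mpr fun z hz => ?_⟩
      have h3 := (hall d hd z hz).eq
      calc z * (k⁻¹ * d * k) = k⁻¹ * ((k * z * k⁻¹) * d) * k := by group
        _ = k⁻¹ * (d * (k * z * k⁻¹)) * k := by rw [h3]
        _ = _ := by group
    have h4 : q⁻¹ * (k⁻¹ * d * k) * q ∈ T := by
      refine c.cent_le (!s) (Subgroup.mem_inf.mpr
        ⟨(P (!s)).mul_mem ((P (!s)).mul_mem ((P (!s)).inv_mem hq) h2.1) hq, ?_⟩)
      refine Subgroup.mem_centralizer_iff.mpr fun z hz => ?_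
      have h5 := Subgroup.mem_centralizer_iff.mp h2.2 _ (conj_mem (c.normal (!s)) hq hz)
      calc z * (q⁻¹ * (k⁻¹ * d * k) * q) = q⁻¹ * ((q * z * q⁻¹) * (k⁻¹ * d * k)) * q := by group
        _ = q⁻¹ * ((k⁻¹ * d * k) * (q * z * q⁻¹)) * q := by rw [h5]
        _ = _ := by group
    have h5 : q⁻¹ * (k⁻¹ * d * k) * q = g⁻¹ * (p₀ * d * p₀⁻¹) * g := by
      rw [hk, hgdef]; group
    rw [h5] at h4
    have h6 : ⁅bb, p₀ * d * p₀⁻¹⁆ = g * ⁅x, g⁻¹ * (p₀ * d * p₀⁻¹) * g⁆ * g⁻¹ := by
      rw [hbb]; simp only [commutatorElement_def]; group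
    rcases c.comm_mem s _ h4 x hx with h7 | h7
    · left
      rw [← commutatorElement_inv, h6, h7]
      group
    · right
      rw [← commutatorElement_inv, h6, h7, ← hw, c.w_inv]
  -- `U = Z i ⊔ Z (!i)` is normalised by `P i`
  set U := Z i ⊔ Z (!i) with hU
  have hTU : T ≤ Subgroup.normalizer (U : Set G) := fun t ht =>
    CfsgLib.JComp.Tree.normalizer_sup
      (c.normal i (c.T_le i ht)) (c.normal (!i) (c.T_le _ ht))
  have hb' : p₀⁻¹ * bb * p₀ ∈ Subgroup.normalizer (U : Set G) := by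
    set u := p₀⁻¹ * bb * p₀ with hu
    have huP : u ∈ P i := (P i).mul_mem ((P i).mul_mem ((P i).inv_mem hp₀) (c.T_le i hbT)) hp₀
    have key : ∀ d ∈ Z (!i), u * d * u⁻¹ ∈ U := by
      intro d hd
      have h1 : u * d * u⁻¹ = p₀⁻¹ * ⁅p₀ * d * p₀⁻¹, bb⁆⁻¹ * p₀ * d := by
        rw [hu]; simp only [commutatorElement_def]; group
      rw [h1]
      refine U.mul_mem (Subgroup.mem_sup_left ?_) (Subgroup.mem_sup_right hd)
      refine conj_mem' (c.normal i) hp₀ ?_
      rcases hmove d hd with h | h <;> rw [h]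
      · simp
      · exact (Z i).inv_mem (c.w_mem_Z i i)
    have key' : ∀ d ∈ Z (!i), u⁻¹ * d * u ∈ U := by
      intro d hd
      have hu2 : u⁻¹ = u := by
        refine inv_eq_of_mul_eq_one_right ?_
        rw [hu, hbb]
        calc p₀⁻¹ * (g * x * g⁻¹) * p₀ * (p₀⁻¹ * (g * x * g⁻¹) * p₀)
            = p₀⁻¹ * (g * (x * x) * g⁻¹) * p₀ := by group
          _ = 1 := by rw [c.exp2 s x hx]; group
      have := key d hd
      rwa [show u * d * u⁻¹ = u⁻¹ * d * u by rw [hu2]] at this
    have hle : ∀ y : G, y ∈ P i → (∀ d ∈ Z (!i), y * d * y⁻¹ ∈ U) →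
        ∀ z ∈ U, y * z * y⁻¹ ∈ U := by
      intro y hy hd z hz
      have : U ≤ U.comap (MulAut.conj y).toMonoidHom := sup_le
        (fun a ha => Subgroup.mem_sup_left (conj_mem (c.normal i) hy ha)) hd
      exact this hz
    rw [Subgroup.mem_normalizer_iff]
    refine fun z => ⟨hle u huP key z, fun hz => ?_⟩
    have := hle u⁻¹ ((P i).inv_mem huP) (by simpa using key') _ hz
    simpa [mul_assoc] using this
  have hnot : p₀⁻¹ * bb * p₀ ∉ T := by
    intro hT
    apply c.move i p₀ hp₀ hp₀T bb hbT hbC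
    have h1 := c.F_central _ (c.w_mem i) _ hT
    calc bb * (p₀ * w i * p₀⁻¹) = p₀ * ((p₀⁻¹ * bb * p₀) * w i) * p₀⁻¹ := by group
      _ = p₀ * (w i * (p₀⁻¹ * bb * p₀)) * p₀⁻¹ := by rw [h1]
      _ = _ := by group
  have hPi : P i ≤ Subgroup.normalizer (U : Set G) := c.gen i _ hTU _ hb'
    ((P i).mul_mem ((P i).mul_mem ((P i).inv_mem hp₀) (c.T_le i hbT)) hp₀) hnot
  have hPj := c.sym i hPi
  have hU2 : IsPGroup 2 U := by
    have hcom : ∀ a ∈ Z i, ∀ d ∈ Z (!i), Commute a d := by
      intro a' ha' d hd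
      have hw1 : Walk P i (!i) 1 1 := by
        simpa using (Walk.one (P := P) i).snoc (P (!i)).one_mem
      simpa using hb _ _ _ _ hw1 (by omega) a' ha' d hd
    have hle : Z i ≤ Subgroup.normalizer (Z (!i) : Set G) := fun a' ha' =>
      c.normal (!i) (c.T_le _ (c.Z_le i ha'))
    intro y
    refine ⟨1, Subtype.ext ?_⟩
    have hy : (y : G) ∈ ((Z i ⊔ Z (!i) : Subgroup G) : Set G) := y.2
    rw [Subgroup.coe_mul_of_left_le_normalizer_right _ _ hle] at hy
    obtain ⟨a', ha', d, hd, he⟩ := hy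
    simp only at he
    push_cast
    rw [← he, (hcom a' ha' d hd).mul_pow, pow_two, pow_two, c.exp2 i a' ha', c.exp2 _ d hd, one_mul]
  have hbot : U = ⊥ := by
    cases i
    · exact c.core U hU2 hPi hPj
    · exact c.core U hU2 hPj hPi
  have h1 : w i ∈ U := Subgroup.mem_sup_left (c.w_mem_Z i i)
  rw [hbot] at h1
  exact c.w_ne i h1

/-- The value at the shifted pair. -/
theorem shift_value {n : ℕ} (hb : Below P Z (n + 2)) {i s : Bool} {h d m p₀ : G}
    (hh : Walk P i s n h) (hp₀ : p₀ ∈ P i) (hd : d ∈ Z (!i)) (hm : m ∈ Z (!s))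
    (hne : ¬ Commute d ((p₀⁻¹ * h) * m * (p₀⁻¹ * h)⁻¹)) :
    p₀ * w (!i) * p₀⁻¹ = h * w (!s) * h⁻¹ := by
  have hk : Walk P (!(!i)) (!(!s)) n (p₀⁻¹ * h) := by simpa using hh.mul_left ((P i).inv_mem hp₀)
  obtain ⟨-, -, h1⟩ := c.crit_facts hb hk hd hm hne
  rw [h1]; group

/-- No critical pair starts where the other fixed element is moved. -/
theorem moved_absurd {n : ℕ} (hb : Below P Z (n + 2)) {i s : Bool} {h q a x : G}
    (hh : Walk P i s n h) (hg : Walk P (!i) (!s) n (h * q)) (hq : q ∈ P (!s)) (ha : a ∈ Z i)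
    (hx : x ∈ Z s) (hne : ¬ Commute a (h * q * x * (h * q)⁻¹))
    (hmv : ∀ p ∈ P i, p ∉ T → ∀ b ∈ T, b ∉ Subgroup.centralizer (Z i : Set G) →
      b * (p * w (!i) * p⁻¹) ≠ (p * w (!i) * p⁻¹) * b) : False := by
  obtain ⟨hbT, hbC, -⟩ := c.crit_facts hb hg ha hx hne
  obtain ⟨p₀, hp₀, hp₀T⟩ := c.proper i
  obtain ⟨d, hd, m, hm, hdm⟩ := c.shift hb hh hg hq ha hx hne hp₀ hp₀T
  have hv := c.shift_value hb hh hp₀ hd hm hdm
  apply hmv p₀ hp₀ hp₀T _ hbT hbC
  rw [hv]
  have hw1 : Walk P (!s) s 1 q := Walk.edge s hq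
  have h1 := (hb _ _ _ _ hw1 (by omega) (w (!s)) (c.w_mem_Z _ _) x hx).eq
  calc h * q * x * (h * q)⁻¹ * (h * w (!s) * h⁻¹)
      = h * ((q * x * q⁻¹) * w (!s)) * h⁻¹ := by group
    _ = h * (w (!s) * (q * x * q⁻¹)) * h⁻¹ := by rw [h1]
    _ = _ := by group

theorem below_one : Below P Z 1 := by
  intro i s n g h hn
  cases h with
  | nil hr => intro a ha x hx; exact c.comm_Z ha (conj_mem (c.normal _) hr hx)
  | snoc h hp => omega

/-- Length at least two is impossible for a critical pair. -/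
theorem no_crit {n : ℕ} (hb : Below P Z (n + 2)) {i s : Bool} {g : G}
    (hg : Walk P i s (n + 2) g) {a x : G} (ha : a ∈ Z i) (hx : x ∈ Z s) :
    Commute a (g * x * g⁻¹) := by
  by_contra hne
  obtain ⟨g', p, hg', hp, rfl⟩ := hg.uncons
  set a' := p⁻¹ * a * p with ha'
  have ha'Z : a' ∈ Z i := conj_mem' (c.normal i) hp ha
  have hne' : ¬ Commute a' (g' * x * g'⁻¹) := fun hc => hne (by
    rw [commute_iff_eq]
    calc a * (p * g' * x * (p * g')⁻¹) = p * (a' * (g' * x * g'⁻¹)) * p⁻¹ := by rw [ha']; group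
      _ = p * ((g' * x * g'⁻¹) * a') * p⁻¹ := by rw [hc.eq]
      _ = _ := by rw [ha']; group)
  obtain ⟨g'', r₀, hg'', hr₀, rfl⟩ := hg'.unsnoc
  have hx0 : r₀ * x * r₀⁻¹ ∈ Z s := conj_mem (c.normal s) hr₀ hx
  have hne0 : ¬ Commute a' (g'' * (r₀ * x * r₀⁻¹) * g''⁻¹) := by
    rw [show g'' * (r₀ * x * r₀⁻¹) * g''⁻¹ = g'' * r₀ * x * (g'' * r₀)⁻¹ by group]
    exact hne'
  clear hne' hne
  generalize r₀ * x * r₀⁻¹ = x' at hx0 hne0
  obtain ⟨h, q, hh, hq, rfl, hh1⟩ :
      ∃ h q, Walk P i s n h ∧ q ∈ P (!s) ∧ g'' = h * q ∧ (n = 0 → h = 1) := by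
    rcases n with - | n
    · revert hg''
      generalize hj : (!s) = j
      intro hg''
      cases hg'' with
      | nil hr =>
        obtain rfl : i = s := by simpa using hj.symm
        exact ⟨1, g'', Walk.one i, hr, (one_mul _).symm, fun _ => rfl⟩
    · obtain ⟨h, q, hh, hq, he⟩ := hg''.unsnoc
      refine ⟨h, q, ?_, hq, he, fun h0 => absurd h0 n.succ_ne_zero⟩
      simpa using hh.cons rfl (P i).one_mem
  clear hg' hx
  rename' hx0 => hx, hne0 => hne', x' => x, hg'' => hg'
  obtain ⟨hbT, hbC, -⟩ := c.crit_facts hb hg' ha'Z hx hne'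
  set bb := h * q * x * (h * q)⁻¹ with hbb
  obtain ⟨p₀, hp₀, hp₀T⟩ := c.proper i
  obtain ⟨d, hd, m, hm, hdm⟩ := c.shift hb hh hg' hq ha'Z hx hne' hp₀ hp₀T
  have hv := c.shift_value hb hh hp₀ hd hm hdm
  rcases (c.other i).symm with hmv | hfix₀
  · exact c.moved_absurd hb hh hg' hq ha'Z hx hne' hmv
  have hww : w i ≠ w (!i) := fun e => by
    apply c.move i p₀ hp₀ hp₀T bb hbT hbC
    rw [e, hfix₀ p₀ hp₀, mul_inv_cancel_right]
    exact c.F_central _ (c.w_mem _) _ hbT
  · rcases n with - | n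
    · -- length two
      obtain rfl := hh1 rfl
      obtain rfl : i = s := by
        revert hh
        generalize (1 : G) = o
        intro hh
        cases hh
        rfl
      have hall : ∀ r ∈ P i, r ∉ T →
          ∃ d ∈ Z (!i), ∃ m ∈ Z (!i), ¬ Commute d (r * m * r⁻¹) := by
        intro r hr hrT
        obtain ⟨d, hd, m, hm, hdm⟩ := c.shift hb (Walk.one i) hg' hq ha'Z hx hne'
          ((P i).inv_mem hr) (fun h => hrT (by simpa using T.inv_mem h))
        exact ⟨d, hd, m, hm, by simpa using hdm⟩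
      have hqT : ∀ r ∈ P i, ∀ m ∈ Z (!i), r * m * r⁻¹ ∈ T := by
        intro r hr m hm
        have hwk : Walk P (!i) i 1 r⁻¹ := by
          simpa using (Walk.one (P := P) (!i)).snoc (show r⁻¹ ∈ P (!(!i)) by simpa using hr)
        have := c.stab hb hwk (by omega) m hm
        simpa using this
      set r := p₀⁻¹ * bb * p₀ with hr
      have hrP : r ∈ P i := (P i).mul_mem ((P i).mul_mem ((P i).inv_mem hp₀) (c.T_le i hbT)) hp₀
      have hrT : r ∉ T := by
        intro hT
        apply c.move i p₀ hp₀ hp₀T bb hbT hbC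
        have h1 := c.F_central _ (c.w_mem i) _ hT
        calc bb * (p₀ * w i * p₀⁻¹) = p₀ * (r * w i) * p₀⁻¹ := by rw [hr]; group
          _ = p₀ * (w i * r) * p₀⁻¹ := by rw [h1]
          _ = _ := by rw [hr]; group
      obtain ⟨d, hd, m, hm, hdm⟩ := hall r hrP hrT
      -- one element `y` outside `F` with `y` and `r y r⁻¹` not commuting
      have hdF : d ∉ F := fun hF => hdm (c.F_central d hF _ (hqT r hrP m hm)).symm
      have hmF : m ∉ F := fun hF => hdm (by
        have h1 := c.F_central m hF _ (hqT r⁻¹ ((P i).inv_mem hrP) d hd)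
        rw [commute_iff_eq]
        calc d * (r * m * r⁻¹) = r * ((r⁻¹ * d * r⁻¹⁻¹) * m) * r⁻¹ := by group
          _ = r * (m * (r⁻¹ * d * r⁻¹⁻¹)) * r⁻¹ := by rw [h1]
          _ = _ := by group)
      have hdm' : ¬ Commute d (r * d * r⁻¹) := by
        intro hc
        apply hdm
        have hf := c.F_index _ d hd m hm hdF hmF
        have hfc := c.F_central _ hf _ (hqT r⁻¹ ((P i).inv_mem hrP) d hd)
        have hd2 := c.exp2 _ d hd
        have hm' : r * m * r⁻¹ = (r * d * r⁻¹) * (r * (d * m) * r⁻¹) := by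
          calc r * m * r⁻¹ = r * ((d * d) * m) * r⁻¹ := by rw [hd2, one_mul]
            _ = _ := by group
        rw [hm']
        refine hc.mul_right ?_
        rw [commute_iff_eq]
        calc d * (r * (d * m) * r⁻¹) = r * ((r⁻¹ * d * r⁻¹⁻¹) * (d * m)) * r⁻¹ := by group
          _ = r * ((d * m) * (r⁻¹ * d * r⁻¹⁻¹)) * r⁻¹ := by rw [hfc]
          _ = _ := by group
      set y := p₀ * d * p₀⁻¹ with hy
      set y' := bb * y * bb⁻¹ with hy'
      -- the two subgroups
      have hfix₁ : ∀ t ∈ P (!i), t * w (!(!i)) = w (!(!i)) * t := by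
        rcases c.other (!i) with h | hmv
        · exact h
        obtain ⟨d₀, hd₀, m₀, hm₀, hdm₀⟩ := c.shift hb (Walk.one i) hg' hq ha'Z hx hne' hp₀ hp₀T
        simp only [mul_one] at hdm₀
        have hwk : Walk P (!(!i)) (!(!i)) 0 (1 * p₀⁻¹) := by
          rw [one_mul, Bool.not_not]; exact Walk.nil ((P i).inv_mem hp₀)
        refine (c.moved_absurd hb (Walk.one (!i)) hwk (by simpa using (P i).inv_mem hp₀) hd₀ hm₀ ?_ hmv).elim
        simpa using hdm₀
      let V : Bool → Subgroup G := fun j =>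
        Subgroup.closure {v | ∃ r ∈ P j, ∃ z ∈ Z (!j), v = r * z * r⁻¹}
      have hVn : ∀ j, ∀ t ∈ P j, ∀ v ∈ V j, t * v * t⁻¹ ∈ V j := by
        intro j t ht v hv
        have hle : V j ≤ (V j).comap (MulAut.conj t).toMonoidHom := by
          refine (Subgroup.closure_le _).mpr ?_
          rintro v ⟨r, hr, z, hz, rfl⟩
          exact Subgroup.subset_closure ⟨t * r, (P j).mul_mem ht hr, z, hz, by simp [mul_assoc]⟩
        exact hle hv
      have hVsq : ∀ j, (j = i ∨ j = !i) → ∀ v ∈ V j, v * v = 1 ∨ v * v = w (!j) := by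
        intro j hj
        have hcentw : ∀ t ∈ P j, t * w (!j) = w (!j) * t := by
          rcases hj with rfl | rfl
          · exact hfix₀
          · exact hfix₁
        let S : Subgroup G := Subgroup.zpowers (w (!j))
        have hS : ∀ e ∈ S, e = 1 ∨ e = w (!j) := by
          intro e he
          obtain ⟨k, rfl⟩ := Subgroup.mem_zpowers_iff.mp he
          have h2 : w (!j) ^ (2 : ℤ) = 1 := by
            rw [show (2 : ℤ) = 1 + 1 from rfl, zpow_add, zpow_one]
            exact c.exp2 _ _ (c.w_mem_Z (!j) (!j))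
          rcases Int.even_or_odd k with ⟨l, rfl⟩ | ⟨l, rfl⟩
          · left; rw [← two_mul, zpow_mul, h2, one_zpow]
          · right; rw [zpow_add, zpow_mul, h2, one_zpow, one_mul, zpow_one]
        have hcomm : ∀ u ∈ V j, ∀ r ∈ P j, ∀ z ∈ Z (!j), ⁅u, r * z * r⁻¹⁆ ∈ S := by
          intro u hu
          induction hu using Subgroup.closure_induction with
          | mem u hu =>
            obtain ⟨r₁, hr₁, z₁, hz₁, rfl⟩ := hu
            intro r hr z hz
            set ρ := r₁⁻¹ * r with hρ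
            have hρP : ρ ∈ P j := (P j).mul_mem ((P j).inv_mem hr₁) hr
            have hwk : Walk P (!j) j 1 ρ⁻¹ := by
              simpa using (Walk.one (P := P) (!j)).snoc (show ρ⁻¹ ∈ P (!(!j)) by simpa using hρP)
            have hT : ρ * z * ρ⁻¹ ∈ T := by
              have := c.stab hb hwk (by omega) z hz
              simpa using this
            have he : ⁅r₁ * z₁ * r₁⁻¹, r * z * r⁻¹⁆ = r₁ * ⁅z₁, ρ * z * ρ⁻¹⁆ * r₁⁻¹ := by
              rw [hρ]; simp only [commutatorElement_def]; group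
            rw [he]
            rcases c.comm_mem (!j) _ hT z₁ hz₁ with h | h <;> rw [h]
            · simp
            · rw [hcentw r₁ hr₁, mul_inv_cancel_right]
              exact Subgroup.mem_zpowers _
          | one => intro r _ z _; simp
          | mul u v _ hv hu' hv' =>
            intro r hr z hz
            have he : ⁅u * v, r * z * r⁻¹⁆ = u * ⁅v, r * z * r⁻¹⁆ * u⁻¹ * ⁅u, r * z * r⁻¹⁆ := by
              simp only [commutatorElement_def]; group
            rw [he]
            refine S.mul_mem ?_ (hu' r hr z hz)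
            have hu2 : u * w (!j) = w (!j) * u := by
              have hle : V j ≤ P j := by
                refine (Subgroup.closure_le _).mpr ?_
                rintro _ ⟨r₂, hr₂, z₂, hz₂, rfl⟩
                exact (P j).mul_mem ((P j).mul_mem hr₂ (c.T_le j (c.Z_le _ hz₂)))
                  ((P j).inv_mem hr₂)
              exact hcentw u (hle ‹u ∈ Subgroup.closure _›)
            rcases hS _ (hv' r hr z hz) with h | h <;> rw [h]
            · simp
            · rw [hu2, mul_inv_cancel_right]; exact Subgroup.mem_zpowers _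
          | inv u hu hu' =>
            intro r hr z hz
            have he : ⁅u⁻¹, r * z * r⁻¹⁆ = u⁻¹ * ⁅u, r * z * r⁻¹⁆⁻¹ * u := by
              simp only [commutatorElement_def]; group
            rw [he]
            have hle : V j ≤ P j := by
              refine (Subgroup.closure_le _).mpr ?_
              rintro _ ⟨r₂, hr₂, z₂, hz₂, rfl⟩
              exact (P j).mul_mem ((P j).mul_mem hr₂ (c.T_le j (c.Z_le _ hz₂)))
                ((P j).inv_mem hr₂)
            rcases hS _ (S.inv_mem (hu' r hr z hz)) with h | h <;> rw [h]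
            · simp
            · have := hcentw u⁻¹ ((P j).inv_mem (hle hu))
              rw [this, inv_mul_cancel_right]
              exact Subgroup.mem_zpowers _
        intro v hv
        suffices h : v ∈ V j ∧ v * v ∈ S from hS _ h.2
        induction hv using Subgroup.closure_induction_left with
        | one => exact ⟨(V j).one_mem, by simp⟩
        | mul_left g₁ hg₁ u hu ih =>
          obtain ⟨r₂, hr₂, z₂, hz₂, rfl⟩ := hg₁
          refine ⟨(V j).mul_mem (Subgroup.subset_closure ⟨r₂, hr₂, z₂, hz₂, rfl⟩) hu, ?_⟩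
          set g₁ := r₂ * z₂ * r₂⁻¹ with hg₁def
          have hg2 : g₁ * g₁ = 1 := by
            calc g₁ * g₁ = r₂ * (z₂ * z₂) * r₂⁻¹ := by rw [hg₁def]; group
              _ = 1 := by rw [c.exp2 _ _ hz₂]; group
          have he : g₁ * u * (g₁ * u) = g₁ * ⁅u, g₁⁆ * g₁ * (u * u) := by
            have hgi : g₁⁻¹ = g₁ := inv_eq_of_mul_eq_one_right hg2
            simp only [commutatorElement_def, hgi]
            calc g₁ * u * (g₁ * u) = g₁ * (u * g₁ * u⁻¹) * (u * u) := by group
              _ = g₁ * (u * g₁ * u⁻¹ * (g₁ * g₁)) * (u * u) := by rw [hg2, mul_one]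
              _ = _ := by group
          rw [he]
          refine S.mul_mem ?_ ih.2
          rcases hS _ (hcomm u hu r₂ hr₂ z₂ hz₂) with h | h <;> rw [h]
          · rw [mul_one, hg2]; exact S.one_mem
          · have hgP : g₁ ∈ P j :=
              (P j).mul_mem ((P j).mul_mem hr₂ (c.T_le j (c.Z_le _ hz₂))) ((P j).inv_mem hr₂)
            rw [hcentw g₁ hgP, mul_assoc, hg2, mul_one]
            exact Subgroup.mem_zpowers _
        | inv_mul_cancel g₁ hg₁ u hu ih =>
          obtain ⟨r₂, hr₂, z₂, hz₂, rfl⟩ := hg₁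
          refine ⟨(V j).mul_mem ((V j).inv_mem (Subgroup.subset_closure ⟨r₂, hr₂, z₂, hz₂, rfl⟩)) hu, ?_⟩
          set g₁ := r₂ * z₂ * r₂⁻¹ with hg₁def
          have hg2 : g₁ * g₁ = 1 := by
            calc g₁ * g₁ = r₂ * (z₂ * z₂) * r₂⁻¹ := by rw [hg₁def]; group
              _ = 1 := by rw [c.exp2 _ _ hz₂]; group
          have hgi : g₁⁻¹ = g₁ := inv_eq_of_mul_eq_one_right hg2
          have he : g₁ * u * (g₁ * u) = g₁ * ⁅u, g₁⁆ * g₁ * (u * u) := by
            simp only [commutatorElement_def, hgi]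
            calc g₁ * u * (g₁ * u) = g₁ * (u * g₁ * u⁻¹) * (u * u) := by group
              _ = g₁ * (u * g₁ * u⁻¹ * (g₁ * g₁)) * (u * u) := by rw [hg2, mul_one]
              _ = _ := by group
          rw [hgi, he]
          refine S.mul_mem ?_ ih.2
          rcases hS _ (hcomm u hu r₂ hr₂ z₂ hz₂) with h | h <;> rw [h]
          · rw [mul_one, hg2]; exact S.one_mem
          · have hgP : g₁ ∈ P j :=
              (P j).mul_mem ((P j).mul_mem hr₂ (c.T_le j (c.Z_le _ hz₂))) ((P j).inv_mem hr₂)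
            rw [hcentw g₁ hgP, mul_assoc, hg2, mul_one]
            exact Subgroup.mem_zpowers _
      have hyT : y ∈ T := hqT p₀ hp₀ d hd
      have hy2 : y * y = 1 := by
        calc y * y = p₀ * (d * d) * p₀⁻¹ := by rw [hy]; group
          _ = 1 := by rw [c.exp2 _ d hd]; group
      have hyV : y ∈ V i := Subgroup.subset_closure ⟨p₀, hp₀, d, hd, rfl⟩
      have hc1 : y * y' ∈ V i := (V i).mul_mem hyV (hVn i bb (c.T_le i hbT) y hyV)
      have hc2 : y * y' ∈ V (!i) := by
        have hbV : bb ∈ V (!i) := by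
          refine Subgroup.subset_closure ⟨q, hq, x, by simpa using hx, ?_⟩
          rw [hbb, one_mul]
        have : y * y' = (y * bb * y⁻¹) * bb⁻¹ := by
          rw [hy', inv_eq_of_mul_eq_one_right hy2]; group
        rw [this]
        exact (V (!i)).mul_mem (hVn _ y (c.T_le _ hyT) bb hbV) ((V (!i)).inv_mem hbV)
      have hne2 : y * y' * (y * y') ≠ 1 := by
        intro he
        apply hdm'
        have hy'2 : y' * y' = 1 := by
          calc y' * y' = bb * (y * y) * bb⁻¹ := by rw [hy']; group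
            _ = 1 := by rw [hy2]; group
        have hcy : y * y' = y' * y := by
          calc y * y' = (y * y')⁻¹ := (inv_eq_of_mul_eq_one_right he).symm
            _ = y'⁻¹ * y⁻¹ := mul_inv_rev _ _
            _ = _ := by rw [inv_eq_of_mul_eq_one_right hy2, inv_eq_of_mul_eq_one_right hy'2]
        rw [commute_iff_eq]
        calc d * (r * d * r⁻¹) = p₀⁻¹ * (y * y') * p₀ := by rw [hy', hy, hr]; group
          _ = p₀⁻¹ * (y' * y) * p₀ := by rw [hcy]
          _ = _ := by rw [hy', hy, hr]; group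
      have e1 := (hVsq i (Or.inl rfl) _ hc1).resolve_left hne2
      have e2 := (hVsq (!i) (Or.inr rfl) _ hc2).resolve_left hne2
      rw [Bool.not_not] at e2
      exact hww (e2.symm.trans e1)
    · -- two shifts
      have hk : Walk P i s (n + 1) (p₀⁻¹ * h) := hh.mul_left ((P i).inv_mem hp₀)
      have hk' : Walk P (!(!i)) (!(!s)) (n + 1) (p₀⁻¹ * h) := by simpa using hk
      obtain ⟨h₂, q₂, hh₂0, hq₂, he₂⟩ := hk.unsnoc
      have hh₂ : Walk P (!i) (!s) (n + 1) h₂ := by
        simpa using hh₂0.cons (Bool.not_not i).symm (P (!i)).one_mem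
      obtain ⟨p₁, hp₁, hp₁T⟩ := c.proper (!i)
      rw [he₂] at hdm
      rw [he₂] at hk'
      obtain ⟨d', hd', m', hm', hdm'⟩ := c.shift hb hh₂ hk' (by simpa using hq₂) hd hm hdm hp₁ hp₁T
      have hv' := c.shift_value hb hh₂ hp₁ hd' hm' hdm'
      simp only [Bool.not_not] at hv'
      have hfix : p₁ * w i * p₁⁻¹ = w i := by
        have := ((c.other (!i)).resolve_right fun hmv =>
          c.moved_absurd hb hh₂ hk' (by simpa using hq₂) hd hm hdm hmv) p₁ hp₁
        rw [Bool.not_not] at this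
        rw [this, mul_inv_cancel_right]
      rw [hfix] at hv'
      apply c.move i p₀ hp₀ hp₀T bb hbT hbC
      rw [hv']
      have hwq : Walk P s s 2 (q₂ * q) := (Walk.edge s hq).cons rfl hq₂
      have h2 := (hb _ _ _ _ hwq (by omega) (w s) (c.w_mem_Z _ _) x hx).eq
      have he : h = p₀ * (h₂ * q₂) := by rw [← he₂]; group
      rw [hbb, he]
      calc p₀ * (h₂ * q₂) * q * x * (p₀ * (h₂ * q₂) * q)⁻¹ * (p₀ * (h₂ * w s * h₂⁻¹) * p₀⁻¹)
          = p₀ * h₂ * ((q₂ * q * x * (q₂ * q)⁻¹) * w s) * (p₀ * h₂)⁻¹ := by group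
        _ = p₀ * h₂ * (w s * (q₂ * q * x * (q₂ * q)⁻¹)) * (p₀ * h₂)⁻¹ := by rw [h2]
        _ = _ := by group

/-- The two modules do not commute. -/
theorem exists_not_commute : ∃ a ∈ Z false, ∃ b ∈ Z true, ¬ Commute a b := by
  by_contra hall
  push Not at hall
  have hb : ∀ b, Below P Z b := by
    intro b
    induction b with
    | zero => intro i s n g _ hn; omega
    | succ b ih =>
      intro i s n g hg hn a ha x hx
      rcases Nat.lt_succ_iff_lt_or_eq.mp hn with hlt | rfl
      · exact ih i s n g hg hlt a ha x hx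
      rcases n with - | _ | n
      · exact c.below_one i s 0 g hg Nat.zero_lt_one a ha x hx
      · obtain ⟨g', p, hg', hp, rfl⟩ := hg.uncons
        obtain ⟨hr, rfl⟩ : g' ∈ P s ∧ (!i) = s := by
          cases hg'
          exact ⟨‹_›, rfl⟩
        have hx' := conj_mem (c.normal _) hr hx
        rw [show p * g' * x * (p * g')⁻¹ = p * (g' * x * g'⁻¹) * p⁻¹ by group]
        generalize g' * x * g'⁻¹ = x at hx'
        rename' hx' => hx
        have h1 : Commute (p⁻¹ * a * p) x := by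
          have ha' := conj_mem' (c.normal i) hp ha
          cases i
          · exact hall _ ha' x hx
          · exact (hall x hx _ ha').symm
        rw [commute_iff_eq]
        calc a * (p * x * p⁻¹) = p * ((p⁻¹ * a * p) * x) * p⁻¹ := by group
          _ = p * (x * (p⁻¹ * a * p)) * p⁻¹ := by rw [h1.eq]
          _ = _ := by group
      · exact c.no_crit ih hg ha hx
  set X : Set G := {v | ∃ s n g, Walk P false s n g ∧ ∃ x ∈ Z s, v = g * x * g⁻¹} with hX
  set U := Subgroup.closure X with hU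
  have hcom : ∀ u ∈ X, ∀ v ∈ X, Commute u v := by
    rintro _ ⟨s, n, g, hg, x, hx, rfl⟩ _ ⟨s', n', g', hg', x', hx', rfl⟩
    have h1 := (hb _ _ _ _ _ (hg.rev.trans hg') (Nat.lt_succ_self _) x hx x' hx').eq
    rw [commute_iff_eq]
    calc g * x * g⁻¹ * (g' * x' * g'⁻¹) = g * (x * ((g⁻¹ * g') * x' * (g⁻¹ * g')⁻¹)) * g⁻¹ := by group
      _ = g * (((g⁻¹ * g') * x' * (g⁻¹ * g')⁻¹) * x) * g⁻¹ := by rw [h1]
      _ = _ := by group
  have hsq : ∀ u ∈ U, u * u = 1 ∧ ∀ v ∈ X, Commute u v := by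
    intro u hu
    induction hu using Subgroup.closure_induction with
    | mem u hu =>
      refine ⟨?_, hcom u hu⟩
      obtain ⟨s, n, g, hg, x, hx, rfl⟩ := hu
      calc g * x * g⁻¹ * (g * x * g⁻¹) = g * (x * x) * g⁻¹ := by group
        _ = 1 := by rw [c.exp2 s x hx]; group
    | one => exact ⟨mul_one 1, fun v _ => Commute.one_left v⟩
    | mul u v _ hv hu' hv' =>
      refine ⟨?_, fun y hy => (hu'.2 y hy).mul_left (hv'.2 y hy)⟩
      have huv : Commute u v := by
        have hle : Subgroup.closure X ≤ Subgroup.centralizer {u} := by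
          refine (Subgroup.closure_le _).mpr fun y hy => ?_
          exact Subgroup.mem_centralizer_singleton_iff.mpr (hu'.2 y hy).eq.symm
        exact (Subgroup.mem_centralizer_singleton_iff.mp (hle hv)).symm
      calc u * v * (u * v) = u * (v * u) * v := by group
        _ = u * (u * v) * v := by rw [huv.eq]
        _ = (u * u) * (v * v) := by group
        _ = 1 := by rw [hu'.1, hv'.1, one_mul]
    | inv u _ hu' => exact ⟨by rw [← mul_inv_rev, hu'.1, inv_one], fun y hy => (hu'.2 y hy).inv_left⟩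
  have hp2 : IsPGroup 2 U := fun y =>
    ⟨1, Subtype.ext (by simpa [pow_two] using (hsq _ y.2).1)⟩
  have hnorm : ∀ j, P j ≤ Subgroup.normalizer (U : Set G) := by
    intro j
    have key : ∀ p ∈ P j, ∀ u ∈ U, p * u * p⁻¹ ∈ U := by
      intro p hp u hu
      have hle : U ≤ U.comap (MulAut.conj p).toMonoidHom := by
        refine (Subgroup.closure_le _).mpr ?_
        rintro _ ⟨s, n, g, hg, x, hx, rfl⟩
        simp only [SetLike.mem_coe, Subgroup.mem_comap, MulEquiv.coe_toMonoidHom, MulAut.conj_apply]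
        refine Subgroup.subset_closure ?_
        rcases n with - | n
        · have hr : g ∈ P s ∧ false = s := by
            cases hg
            exact ⟨‹_›, rfl⟩
          obtain ⟨hr, rfl⟩ := hr
          cases j
          · exact ⟨false, 0, p * g, Walk.nil ((P false).mul_mem hp hr), x, hx, by group⟩
          · refine ⟨false, 2, 1 * (p * g), ?_, x, hx, by group⟩
            exact ((Walk.nil (P := P) hr).cons (Bool.not_true).symm hp).cons rfl (P false).one_mem
        · obtain ⟨g', p', hg', hp', rfl⟩ := hg.uncons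
          cases j
          · exact ⟨s, n + 1, p * p' * g', hg'.cons rfl ((P false).mul_mem hp hp'), x, hx, by group⟩
          · exact ⟨s, n + 1 + 1 + 1, 1 * (p * (p' * g')),
              ((hg'.cons rfl hp').cons Bool.not_true.symm hp).cons rfl (P false).one_mem,
              x, hx, by group⟩
      exact hle hu
    intro p hp
    rw [Subgroup.mem_normalizer_iff]
    refine fun u => ⟨key p hp u, fun hu => ?_⟩
    have := key p⁻¹ ((P j).inv_mem hp) _ hu
    simpa [mul_assoc] using this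
  have hbot := c.core U hp2 (hnorm false) (hnorm true)
  have hw : w false ∈ U :=
    Subgroup.subset_closure ⟨false, 0, 1, Walk.one false, w false, c.w_mem_Z _ _, by group⟩
  rw [hbot] at hw
  exact c.w_ne false hw

end Pair

end

end CfsgLib.JComp.Tree
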