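import Cfsg.Agent.Lib.JComp.Normal
import Cfsg.Agent.Lib.JComp.Tree

/-!
Two components exchanged by an element normalising `T`: their four-groups do not commute, and `T` is small.
-/

set_option autoImplicit false
set_option maxHeartbeats 1000000
open Cfsg CfsgLib.PLocal
open scoped commutatorElement

namespace CfsgLib.JComp

variable {G : Type*} [Group G] [Finite G]

theorem wOf_mul_mem {T K : Subgroup G} (hK : IsJComponent T K) {w : G} (hw : w ∈ wOf K) (hw1 : w ≠ 1)
    {x y : G} (hx : x ∈ wOf K) (hy : y ∈ wOf K) (hx1 : x ≠ 1) (hxw : x ≠ w) (hy1 : y ≠ 1) (hyw : y ≠ w) :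
    x * y = 1 ∨ x * y = w := by
  by_contra hn
  push Not at hn
  obtain ⟨h1, h2⟩ := hn
  have hxy : x ≠ y := fun e => h1 (e ▸ hK.2.2.2.2.2 x hx)
  have h3 : x * y ≠ x := fun e => hy1 (mul_left_cancel (e.trans (mul_one x).symm))
  have h4 : x * y ≠ y := fun e => hx1 (mul_right_cancel (e.trans (one_mul y).symm))
  classical
  have hsub : ({1, w, x, y, x * y} : Finset G) ⊆ (wOf K : Set G).toFinite.toFinset := by
    intro u hu
    simp only [Finset.mem_insert, Finset.mem_singleton] at hu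
    rw [Set.Finite.mem_toFinset]
    rcases hu with rfl | rfl | rfl | rfl | rfl
    · exact one_mem _
    · exact hw
    · exact hx
    · exact hy
    · exact mul_mem hx hy
  have hc := Finset.card_le_card hsub
  rw [← Set.ncard_eq_toFinset_card _ (wOf K : Set G).toFinite, ← Nat.card_coe_set_eq] at hc
  have h5 : ({1, w, x, y, x * y} : Finset G).card = 5 := by
    simp [Finset.card_insert_of_notMem, Ne.symm hw1, Ne.symm hx1, Ne.symm hy1, Ne.symm h1, Ne.symm hxw,
      Ne.symm hyw, Ne.symm h2, hxy, Ne.symm h3, Ne.symm h4]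
  rw [h5] at hc
  have hc' : 5 ≤ Nat.card ↥(wOf K) := hc
  have := hK.2.2.2.2.1
  omega

theorem wOf_commute {K : Subgroup G} {a b : G} (ha : a ∈ wOf K) (hb : b ∈ wOf K) : a * b = b * a :=
  wOf_central hb (wOf_le_pCoreOf K ha)

theorem wOf_le (K : Subgroup G) : wOf K ≤ K := (wOf_le_pCoreOf K).trans (pCoreOf_le K)

/-- The module attached to a component. -/
def modZ (T K : Subgroup G) : Subgroup G := hyp T K ⊔ wOf K

section single

variable {M T K L : Subgroup G} (q : Pos M T K L)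
  (hTK : T ≤ Subgroup.normalizer (K : Set G))
  (hle : Nat.card ↥(omegaCenterOf (thompsonSubgroupOf 2 T)) ≤ 4)

omit [Finite G] in
theorem hyp_commute_wOf {c a : G} (hc : c ∈ hyp T K) (ha : a ∈ wOf K) (haK : a ∈ K) : a * c = c * a :=
  Subgroup.mem_centralizer_iff.mp (Subgroup.mem_inf.mp hc).2 a haK

theorem mem_modZ {x : G} (hx : x ∈ modZ T K) : ∃ c ∈ hyp T K, ∃ a ∈ wOf K, x = c * a := by
  have hle : hyp T K ≤ Subgroup.normalizer (wOf K : Set G) := fun c hc =>
    Subgroup.centralizer_le_normalizer _ (Subgroup.mem_centralizer_iff.mpr fun a ha =>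
      hyp_commute_wOf hc ha (wOf_le K ha))
  rw [modZ, ← SetLike.mem_coe, Subgroup.coe_mul_of_left_le_normalizer_right _ _ hle] at hx
  obtain ⟨c, hc, a, ha, he⟩ := hx
  exact ⟨c, hc, a, ha, he.symm⟩

include q

theorem exp2_modZ {x : G} (hx : x ∈ modZ T K) : x * x = 1 := by
  obtain ⟨c, hc, a, ha, rfl⟩ := mem_modZ hx
  have h1 := hyp_commute_wOf hc ha (wOf_le K ha)
  calc c * a * (c * a) = c * (a * c) * a := by group
    _ = (c * c) * (a * a) := by rw [h1]; group
    _ = 1 := by rw [mul_self_of_mem_omega (hyp_le T K hc), q.comp.2.2.2.2.2 a ha, one_mul]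

theorem omega_le_modZ : omegaCenterOf (thompsonSubgroupOf 2 T) ≤ modZ T K := by
  intro z hz
  obtain ⟨c, hc, w, hw, rfl⟩ := omega_decomp q.two q.comp hz
  exact mul_mem (Subgroup.mem_sup_left hc) (Subgroup.mem_sup_right (Subgroup.mem_inf.mp hw).2)

include hTK

theorem core_le_T : pCoreOf 2 K ≤ T :=
  q.ctx.le_T_of_normalized (pCoreOf_isPGroup K) ((pCoreOf_le K).trans q.K_le)
    (hTK.trans (normalizer_le_normalizer_pCoreOf K))

theorem wOf_le_T : wOf K ≤ T := (wOf_le_pCoreOf K).trans (core_le_T q hTK)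

theorem decomp {ρ : G} (hgen : ∀ k ∈ K, ∃ y ∈ pCoreOf 2 K, ∃ m : ℕ, k = y * ρ ^ m) {p : G}
    (hp : p ∈ K ⊔ T) : ∃ y ∈ pCoreOf 2 K, ∃ m : ℕ, ∃ t ∈ T, p = y * ρ ^ m * t := by
  rw [← SetLike.mem_coe, Subgroup.coe_mul_of_right_le_normalizer_left K T hTK] at hp
  obtain ⟨k, hk, t, ht, rfl⟩ := hp
  obtain ⟨y, hy, m, rfl⟩ := hgen k hk
  exact ⟨y, hy, m, t, ht, rfl⟩

theorem modZ_le_T : modZ T K ≤ T :=
  sup_le (fun _ hc => thompsonSubgroupOf_le 2 T (mem_omegaCenterOf.mp (hyp_le T K hc)).1) (wOf_le_T q hTK)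

theorem exists_proper : ∃ p ∈ K ⊔ T, p ∉ T := by
  obtain ⟨ρ, hρK, ho, hρP, -⟩ := exists_rho q.comp
  refine ⟨ρ, Subgroup.mem_sup_left hρK, fun hT => ?_⟩
  have hd : orderOf ρ ∣ 1 := by
    obtain ⟨a, ha⟩ := q.two ⟨ρ, hT⟩
    have ha' : ρ ^ 2 ^ a = 1 := by simpa using congrArg Subtype.val ha
    have h1 := orderOf_dvd_of_pow_eq_one ha'
    rw [ho] at h1
    have := (Nat.prime_three.dvd_of_dvd_pow h1)
    omega
  rw [ho] at hd
  norm_num at hd

include hle

theorem fix_w {w : G} (hw : w ∈ omegaCenterOf (thompsonSubgroupOf 2 T)) {p : G} (hwW : w ∈ wOf K) (hw1 : w ≠ 1)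
    (hp : p ∈ K ⊔ T) (hfix : p * w * p⁻¹ = w) : p ∈ T := by
  obtain ⟨ρ, hρK, ho, -, hgen⟩ := exists_rho q.comp
  obtain ⟨y, hy, m, t, ht, rfl⟩ := decomp q hTK hgen hp
  have htw : t * w * t⁻¹ = w := by rw [q.omega_central hTK hle hw ht, mul_inv_cancel_right]
  have hρW : ρ ^ m * w * (ρ ^ m)⁻¹ ∈ wOf K := (Subgroup.mem_normalizer_iff.mp
    (normalizer_le_normalizer_wOf K (Subgroup.le_normalizer (pow_mem hρK m))) w).mp hwW
  have h1 : ρ ^ m * w * (ρ ^ m)⁻¹ = w := by
    have hyc := wOf_central hρW hy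
    calc ρ ^ m * w * (ρ ^ m)⁻¹ = (ρ ^ m * w * (ρ ^ m)⁻¹) * (y * y⁻¹) := by group
      _ = y * (ρ ^ m * (t * w * t⁻¹) * (ρ ^ m)⁻¹) * y⁻¹ := by rw [← mul_assoc, ← hyc, htw]
      _ = y * ρ ^ m * t * w * (y * ρ ^ m * t)⁻¹ := by group
      _ = w := hfix
  have h3 : ρ ^ m = 1 := by
    by_cases h : 3 ∣ m
    · obtain ⟨k, rfl⟩ := h
      rw [pow_mul, ← ho, pow_orderOf_eq_one, one_pow]
    · exfalso
      have hco : Nat.Coprime m (orderOf ρ) := by
        rw [ho]; exact ((Nat.Prime.coprime_iff_not_dvd Nat.prime_three).mpr h).symm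
      obtain ⟨l, hl⟩ := exists_pow_eq_self_of_coprime hco
      have hc : Commute (ρ ^ m) w := by
        rw [commute_iff_eq]
        calc ρ ^ m * w = ρ ^ m * w * (ρ ^ m)⁻¹ * ρ ^ m := by group
          _ = w * ρ ^ m := by rw [h1]
      have hc' := hc.pow_left l
      rw [hl] at hc'
      exact hw1 (eq_one_of_wOf_fixed q.comp hρK ho hgen hwW (by rw [hc'.eq, mul_inv_cancel_right]))
  rw [h3, mul_one]
  exact mul_mem (core_le_T q hTK hy) ht

theorem centralizer_wOf_le_T : (K ⊔ T) ⊓ Subgroup.centralizer (wOf K : Set G) ≤ T := by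
  intro p hp
  obtain ⟨hp1, hp2⟩ := Subgroup.mem_inf.mp hp
  obtain ⟨w, hwZ, hwW, hw1, -, -⟩ := exists_fixW q.two q.comp
  refine fix_w q hTK hle hwZ hwW hw1 hp1 ?_
  rw [← Subgroup.mem_centralizer_iff.mp hp2 w hwW, mul_inv_cancel_right]

theorem normalizer_modZ : K ⊔ T ≤ Subgroup.normalizer (modZ T K : Set G) := by
  refine sup_le (le_normalizer_of_conj fun k hk x hx => ?_) (le_normalizer_of_conj fun t ht x hx => ?_)
  all_goals obtain ⟨c, hc, a, ha, rfl⟩ := mem_modZ hx
  · have hkc := Subgroup.mem_centralizer_iff.mp (Subgroup.mem_inf.mp hc).2 k hk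
    rw [show k * (c * a) * k⁻¹ = c * (k * a * k⁻¹) by rw [← mul_assoc k c a, hkc]; group]
    exact mul_mem (Subgroup.mem_sup_left hc) (Subgroup.mem_sup_right ((Subgroup.mem_normalizer_iff.mp
      (normalizer_le_normalizer_wOf K (Subgroup.le_normalizer hk)) a).mp ha))
  · rw [show t * (c * a) * t⁻¹ = (t * c * t⁻¹) * (t * a * t⁻¹) by group,
      q.omega_central hTK hle (hyp_le T K hc) ht, mul_inv_cancel_right]
    exact mul_mem (Subgroup.mem_sup_left hc) (Subgroup.mem_sup_right ((Subgroup.mem_normalizer_iff.mp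
      (normalizer_le_normalizer_wOf K (hTK ht)) a).mp ha))

theorem comm_modZ {w : G} (hwZ : w ∈ omegaCenterOf (thompsonSubgroupOf 2 T)) (hwW : w ∈ wOf K) (hw1 : w ≠ 1)
    {t : G} (ht : t ∈ T) {x : G} (hx : x ∈ modZ T K) : ⁅x, t⁆ = 1 ∨ ⁅x, t⁆ = w := by
  obtain ⟨c, hc, a, ha, rfl⟩ := mem_modZ hx
  have hct := q.omega_central hTK hle (hyp_le T K hc) ht
  have hat : t * a * t⁻¹ ∈ wOf K :=
    (Subgroup.mem_normalizer_iff.mp (normalizer_le_normalizer_wOf K (hTK ht)) a).mp ha
  have hd : a * (t * a⁻¹ * t⁻¹) ∈ wOf K := by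
    refine mul_mem ha ?_
    have := inv_mem hat
    simpa [mul_assoc] using this
  have he : ⁅c * a, t⁆ = a * (t * a⁻¹ * t⁻¹) := by
    rw [commutatorElement_def]
    have hcd : c * (a * (t * a⁻¹ * t⁻¹)) = (a * (t * a⁻¹ * t⁻¹)) * c :=
      (hyp_commute_wOf hc hd (wOf_le K hd)).symm
    have hct' : t * c⁻¹ = c⁻¹ * t := (Commute.inv_right (show Commute t c from hct)).eq
    calc c * a * t * (c * a)⁻¹ * t⁻¹ = c * a * t * a⁻¹ * (c⁻¹ * t⁻¹) := by group
      _ = c * a * t * a⁻¹ * (t⁻¹ * c⁻¹) := by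
        rw [← mul_inv_rev, ← mul_inv_rev, hct]
      _ = (c * (a * (t * a⁻¹ * t⁻¹))) * c⁻¹ := by group
      _ = _ := by rw [hcd, mul_inv_cancel_right]
  rw [he]
  have hinv : ∀ u ∈ wOf K, u⁻¹ = u := fun u hu => inv_eq_of_mul_eq_one_right (q.comp.2.2.2.2.2 u hu)
  rw [hinv a ha]
  have hfw : t * w * t⁻¹ = w := by rw [q.omega_central hTK hle hwZ ht, mul_inv_cancel_right]
  by_cases h1 : a = 1
  · left; rw [h1]; group
  by_cases h2 : a = w
  · left; rw [h2, hfw]; exact q.comp.2.2.2.2.2 w hwW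
  refine wOf_mul_mem q.comp hwW hw1 ha hat h1 h2 ?_ ?_
  · exact fun e => h1 ((MulAut.conj t).injective (by simpa using e))
  · exact fun e => h2 ((MulAut.conj t).injective (by simpa [hfw] using e))

theorem index_modZ {x x' : G} (hx : x ∈ modZ T K) (hx' : x' ∈ modZ T K)
    (hxF : x ∉ omegaCenterOf (thompsonSubgroupOf 2 T)) (hx'F : x' ∉ omegaCenterOf (thompsonSubgroupOf 2 T)) :
    x * x' ∈ omegaCenterOf (thompsonSubgroupOf 2 T) := by
  obtain ⟨c, hc, a, ha, rfl⟩ := mem_modZ hx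
  obtain ⟨c', hc', a', ha', rfl⟩ := mem_modZ hx'
  obtain ⟨w, hwZ, hwW, hw1, -, -⟩ := exists_fixW q.two q.comp
  rw [show c * a * (c' * a') = c * (a * c') * a' by group, hyp_commute_wOf hc' ha (wOf_le K ha),
    show c * (c' * a) * a' = (c * c') * (a * a') by group]
  refine mul_mem (mul_mem (hyp_le T K hc) (hyp_le T K hc')) ?_
  have key : ∀ {c a : G}, c ∈ hyp T K → c * a ∉ omegaCenterOf (thompsonSubgroupOf 2 T) → a ≠ 1 ∧ a ≠ w :=
    fun {c a} hc hn => ⟨fun e => hn (by rw [e, mul_one]; exact hyp_le T K hc),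
      fun e => hn (by rw [e]; exact mul_mem (hyp_le T K hc) hwZ)⟩
  obtain ⟨h1, h2⟩ := key hc hxF
  obtain ⟨h1', h2'⟩ := key hc' hx'F
  rcases wOf_mul_mem q.comp hwW hw1 ha ha' h1 h2 h1' h2' with e | e <;> rw [e]
  · exact one_mem _
  · exact hwZ

theorem move_modZ {w : G} (hwZ : w ∈ omegaCenterOf (thompsonSubgroupOf 2 T)) (hwW : w ∈ wOf K) (hw1 : w ≠ 1)
    {p : G} (hp : p ∈ K ⊔ T) (hpT : p ∉ T) {b : G} (hb : b ∈ T)
    (hbC : b ∉ Subgroup.centralizer (modZ T K : Set G)) :
    b * (p * w * p⁻¹) ≠ (p * w * p⁻¹) * b := by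
  intro he
  apply hbC
  set u := p * w * p⁻¹ with hu
  have huW : u ∈ wOf K := (Subgroup.mem_normalizer_iff.mp
    ((sup_le (Subgroup.le_normalizer.trans (normalizer_le_normalizer_wOf K))
      (hTK.trans (normalizer_le_normalizer_wOf K))) hp) w).mp hwW
  have hu1 : u ≠ 1 := fun e => hw1 ((MulAut.conj p).injective (by simpa [hu] using e))
  have huw : u ≠ w := fun e => hpT (fix_w q hTK hle hwZ hwW hw1 hp (by rw [← hu, e]))
  have hbw : w * b = b * w := (q.omega_central hTK hle hwZ hb).symm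
  rw [Subgroup.mem_centralizer_iff]
  intro x hx
  obtain ⟨c, hc, a, ha, rfl⟩ := mem_modZ hx
  have hca : b * c = c * b := q.omega_central hTK hle (hyp_le T K hc) hb
  have haa : a * b = b * a := by
    by_cases h1 : a = 1
    · rw [h1, one_mul, mul_one]
    by_cases h2 : a = w
    · rw [h2]; exact hbw
    rcases wOf_mul_mem q.comp hwW hw1 ha huW h1 h2 hu1 huw with e | e
    · have : a = u := by
        rw [← inv_eq_of_mul_eq_one_left e]
        exact inv_eq_of_mul_eq_one_right (q.comp.2.2.2.2.2 u huW)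
      rw [this]; exact he.symm
    · have : a = w * u := by
        rw [← e, mul_assoc, q.comp.2.2.2.2.2 u huW, mul_one]
      rw [this, mul_assoc, ← he, ← mul_assoc, hbw, mul_assoc]
  rw [mul_assoc, haa, ← mul_assoc, ← hca, mul_assoc]

theorem hyp_central_sup {v : G} (hv : v ∈ hyp T K) : ∀ p ∈ K ⊔ T, p * v = v * p := by
  intro p hp
  have hle' : K ⊔ T ≤ Subgroup.centralizer ({v} : Set G) := sup_le
    (fun k hk => Subgroup.mem_centralizer_singleton_iff.mpr
      (Subgroup.mem_centralizer_iff.mp (Subgroup.mem_inf.mp hv).2 k hk))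
    (fun u hu => Subgroup.mem_centralizer_singleton_iff.mpr
      (q.omega_central hTK hle (hyp_le T K hv) hu))
  exact Subgroup.mem_centralizer_singleton_iff.mp (hle' hp)

theorem other_modZ {w : G} (hwZ : w ∈ omegaCenterOf (thompsonSubgroupOf 2 T)) (hwW : w ∈ wOf K) (hw1 : w ≠ 1)
    {v : G} (hvZ : v ∈ omegaCenterOf (thompsonSubgroupOf 2 T)) :
    (∀ p ∈ K ⊔ T, p * v = v * p) ∨ ∀ p ∈ K ⊔ T, p ∉ T → ∀ b ∈ T,
      b ∉ Subgroup.centralizer (modZ T K : Set G) → b * (p * v * p⁻¹) ≠ (p * v * p⁻¹) * b := by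
  obtain ⟨c, hc, u, hu, rfl⟩ := omega_decomp q.two q.comp hvZ
  obtain ⟨w₀, -, -, -, -, hwu⟩ := exists_fixW q.two q.comp
  rcases eq_or_ne u 1 with hu1 | hu1
  · left; rw [hu1, mul_one]; exact hyp_central_sup q hTK hle hc
  right
  have huw : u = w := by
    rw [(hwu u hu).resolve_left hu1, (hwu w ⟨hwZ, hwW⟩).resolve_left hw1]
  subst huw
  intro p hp hpT b hb hbC he
  apply move_modZ q hTK hle hwZ hwW hw1 hp hpT hb hbC
  have hbc : b * c = c * b := q.omega_central hTK hle (hyp_le T K hc) hb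
  have e : p * (c * u) * p⁻¹ = c * (p * u * p⁻¹) := by
    rw [← mul_assoc p c u, hyp_central_sup q hTK hle hc p hp]; group
  rw [e, ← mul_assoc, hbc, mul_assoc c b, mul_assoc c (p * u * p⁻¹) b] at he
  exact mul_left_cancel he

theorem gen_sup {X : Subgroup G} (hTX : T ≤ X) {p : G} (hpX : p ∈ X) (hp : p ∈ K ⊔ T) (hpT : p ∉ T) :
    K ⊔ T ≤ X := by
  obtain ⟨ρ, hρK, ho, -, hgen⟩ := exists_rho q.comp
  obtain ⟨y, hy, m, t, ht, rfl⟩ := decomp q hTK hgen hp
  have hyT := core_le_T q hTK hy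
  have hm : ρ ^ m ∈ X := by
    have := X.mul_mem (X.mul_mem (X.inv_mem (hTX hyT)) hpX) (X.inv_mem (hTX ht))
    simpa [mul_assoc] using this
  have h3 : ¬ 3 ∣ m := by
    rintro ⟨k, rfl⟩
    apply hpT
    rw [pow_mul, ← ho, pow_orderOf_eq_one, one_pow, mul_one]
    exact mul_mem hyT ht
  have hρX : ρ ∈ X := by
    have hco : Nat.Coprime m (orderOf ρ) := by
      rw [ho]; exact ((Nat.Prime.coprime_iff_not_dvd Nat.prime_three).mpr h3).symm
    obtain ⟨l, hl⟩ := exists_pow_eq_self_of_coprime hco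
    rw [← hl]; exact pow_mem hm l
  refine sup_le (fun k hk => ?_) hTX
  obtain ⟨y', hy', m', rfl⟩ := hgen k hk
  exact X.mul_mem (hTX (core_le_T q hTK hy')) (pow_mem hρX m')

end single

/-- Two components exchanged by `y`. -/
structure Twin (M T K L : Subgroup G) (y : G) : Prop where
  pos : Pos M T K L
  norm : T ≤ Subgroup.normalizer (K : Set G)
  small : Nat.card ↥(omegaCenterOf (thompsonSubgroupOf 2 T)) ≤ 4
  yT : y ∈ Subgroup.normalizer (T : Set G)
  sq : y * y ∈ T
  pos' : Pos M T (K.map (MulAut.conj y).toMonoidHom) (L.map (MulAut.conj y).toMonoidHom)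
  out' : ¬ K.map (MulAut.conj y).toMonoidHom ≤ L

theorem Pos.exists_twin {M T K L : Subgroup G} (q : Pos M T K L) (S : Sylow 2 G)
    (hTS : T ≤ (S : Subgroup G)) (hne : T ≠ (S : Subgroup G)) :
    ∃ y, y ∈ (S : Subgroup G) ∧ y ∉ L ∧ Twin M T K L y := by
  obtain ⟨y, hyS, hyn, hyL, hyy, q', hout⟩ := q.exists_not_le_of_lt S.isPGroup' hTS hne
  exact ⟨y, hyS, hyL, q, q.T_le_normalizer S hTS q'.comp hout, q.card_omega_le q'.comp hout, hyn, hyy, q',
    hout⟩

namespace Twin

variable {M T K L : Subgroup G} {y : G} (t : Twin M T K L y)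

include t

theorem norm' : T ≤ Subgroup.normalizer (K.map (MulAut.conj y).toMonoidHom : Set G) := by
  rw [← Subgroup.map_equiv_normalizer_eq K (MulAut.conj y)]
  conv_lhs => rw [← map_conj_eq_of_mem_normalizer t.yT]
  exact Subgroup.map_mono t.norm

theorem conj_omega {z : G} (hz : z ∈ omegaCenterOf (thompsonSubgroupOf 2 T)) :
    y * (y * z * y⁻¹) * y⁻¹ = z := by
  calc y * (y * z * y⁻¹) * y⁻¹ = (y * y) * z * (y * y)⁻¹ := by group
    _ = z := by rw [t.pos.omega_central t.norm t.small hz t.sq, mul_inv_cancel_right]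

theorem conj_modZ : (modZ T K).map (MulAut.conj y).toMonoidHom = modZ T (K.map (MulAut.conj y).toMonoidHom) := by
  rw [modZ, modZ, Subgroup.map_sup, wOf_map]
  congr 1
  apply le_antisymm
  · rintro _ ⟨x, hx, rfl⟩
    exact hyp_conj_mem t.yT hx
  · intro x hx
    have hback : (K.map (MulAut.conj y).toMonoidHom).map (MulAut.conj y⁻¹).toMonoidHom = K := by
      rw [Subgroup.map_map]; ext z; simp [Subgroup.mem_map, mul_assoc]
    have := hyp_conj_mem (inv_mem t.yT) hx
    rw [hback] at this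
    exact ⟨_, this, by simp [mul_assoc]⟩

theorem conj_modZ' : (modZ T (K.map (MulAut.conj y).toMonoidHom)).map (MulAut.conj y).toMonoidHom = modZ T K := by
  rw [← t.conj_modZ, Subgroup.map_map]
  have h : (MulAut.conj y).toMonoidHom.comp (MulAut.conj y).toMonoidHom = (MulAut.conj (y * y)).toMonoidHom := by
    ext z; simp [mul_assoc]
  rw [h]
  refine map_conj_eq_of_mem_normalizer (normalizer_modZ t.pos t.norm t.small ?_)
  exact Subgroup.mem_sup_right t.sq

theorem conj_P' : ((K.map (MulAut.conj y).toMonoidHom) ⊔ T).map (MulAut.conj y).toMonoidHom = K ⊔ T := by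
  rw [Subgroup.map_sup, map_conj_eq_of_mem_normalizer t.yT, Subgroup.map_map]
  have h : (MulAut.conj y).toMonoidHom.comp (MulAut.conj y).toMonoidHom = (MulAut.conj (y * y)).toMonoidHom := by
    ext z; simp [mul_assoc]
  rw [h, map_conj_eq_of_mem_normalizer (t.norm t.sq)]

theorem core {U : Subgroup G} (hU : IsPGroup 2 U) (h1 : K ⊔ T ≤ Subgroup.normalizer (U : Set G))
    (h2 : K.map (MulAut.conj y).toMonoidHom ⊔ T ≤ Subgroup.normalizer (U : Set G)) : U = ⊥ := by
  by_contra hU1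
  refine t.out' ((le_sup_left.trans h2).trans (t.pos.le_of_two_local ⟨U, hU, hU1, rfl⟩ ?_))
  exact (sup_le_sup_left (thompsonSubgroupOf_le 2 T) K).trans h1

/-- The fixed point of `W_K` equals that of the conjugate, and the four-groups do not commute. -/
theorem noncommute : ∃ w a b, w ∈ omegaCenterOf (thompsonSubgroupOf 2 T) ∧ w ∈ wOf K ∧ w ≠ 1 ∧
    y * w * y⁻¹ = w ∧ a ∈ wOf K ∧ b ∈ wOf (K.map (MulAut.conj y).toMonoidHom) ∧ ¬ Commute a b := by
  obtain ⟨h, w, hh, hwZ, hwW, hw1, hhu, hwu, h12, hall⟩ := omega_cases t.pos.two t.pos.comp t.small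
  set K' := K.map (MulAut.conj y).toMonoidHom with hK'
  set w' := y * w * y⁻¹ with hw'
  have hw'Z : w' ∈ omegaCenterOf (thompsonSubgroupOf 2 T) := conj_mem_omega_thompson t.yT hwZ
  have hw'W : w' ∈ wOf K' := wOf_conj_mem hwW
  have hw'1 : w' ≠ 1 := fun e => hw1 ((MulAut.conj y).injective (by simpa [hw'] using e))
  have hyw' : y * w' * y⁻¹ = w := t.conj_omega hwZ
  have cpair : Tree.Pair T (omegaCenterOf (thompsonSubgroupOf 2 T))
      (fun i => bif i then K' ⊔ T else K ⊔ T) (fun i => bif i then modZ T K' else modZ T K)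
      (fun i => bif i then w' else w) := by
    have q' := t.pos'
    have hn' := t.norm'
    constructor
    · intro i; cases i <;> exact le_sup_right
    · intro i; cases i
      · exact modZ_le_T t.pos t.norm
      · exact modZ_le_T q' hn'
    · intro i; cases i
      · exact normalizer_modZ t.pos t.norm t.small
      · exact normalizer_modZ q' hn' t.small
    · intro i; cases i
      · exact fun a ha => exp2_modZ t.pos ha
      · exact fun a ha => exp2_modZ q' ha
    · intro i; cases i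
      · exact le_trans (inf_le_inf_left _ (Subgroup.centralizer_le (show (wOf K : Set G) ⊆ modZ T K from fun _ hx => Subgroup.mem_sup_right hx)))
          (centralizer_wOf_le_T t.pos t.norm t.small)
      · exact le_trans (inf_le_inf_left _ (Subgroup.centralizer_le (show (wOf K' : Set G) ⊆ modZ T K' from fun _ hx => Subgroup.mem_sup_right hx)))
          (centralizer_wOf_le_T q' hn' t.small)
    · intro i; cases i
      · exact hwZ
      · exact hw'Z
    · intro i; cases i
      · exact omega_le_modZ t.pos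
      · exact omega_le_modZ q'
    · exact fun f hf u hu => t.pos.omega_central t.norm t.small hf hu
    · intro i; cases i
      · exact fun x hx x' hx' => index_modZ t.pos t.norm t.small hx hx'
      · exact fun x hx x' hx' => index_modZ q' hn' t.small hx hx'
    · intro i; cases i
      · exact fun u hu a ha => comm_modZ t.pos t.norm t.small hwZ hwW hw1 hu ha
      · exact fun u hu a ha => comm_modZ q' hn' t.small hw'Z hw'W hw'1 hu ha
    · intro i; cases i
      · exact hw1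
      · exact hw'1
    · intro i; cases i
      · exact fun p hp hpT b hb hbC => move_modZ t.pos t.norm t.small hwZ hwW hw1 hp hpT hb hbC
      · exact fun p hp hpT b hb hbC => move_modZ q' hn' t.small hw'Z hw'W hw'1 hp hpT hb hbC
    · intro i; cases i
      · exact other_modZ t.pos t.norm t.small hwZ hwW hw1 hw'Z
      · exact other_modZ q' hn' t.small hw'Z hw'W hw'1 hwZ
    · intro i; cases i
      · exact fun X hTX p hpX hp hpT => gen_sup t.pos t.norm t.small hTX hpX hp hpT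
      · exact fun X hTX p hpX hp hpT => gen_sup q' hn' t.small hTX hpX hp hpT
    · intro i; cases i
      · exact exists_proper t.pos t.norm
      · exact exists_proper q' hn'
    · exact fun U hU h1 h2 => t.core hU h1 h2
    · intro i hPi
      have hU : ∀ A B : Subgroup G, A.map (MulAut.conj y).toMonoidHom = B →
          B.map (MulAut.conj y).toMonoidHom = A →
          (A ⊔ B).map (MulAut.conj y).toMonoidHom = A ⊔ B := fun A B h1 h2 => by
        rw [Subgroup.map_sup, h1, h2, sup_comm]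
      have h := Subgroup.map_mono (f := (MulAut.conj y).toMonoidHom) hPi
      rw [Subgroup.map_equiv_normalizer_eq _ (MulAut.conj y)] at h
      cases i
      · simp only [cond_false, cond_true, Bool.not_false] at h ⊢
        rw [Subgroup.map_sup K T, map_conj_eq_of_mem_normalizer t.yT, hU _ _ t.conj_modZ t.conj_modZ'] at h
        exact h
      · simp only [cond_false, cond_true, Bool.not_true] at h ⊢
        rw [t.conj_P', hU _ _ t.conj_modZ' t.conj_modZ] at h
        exact h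
  obtain ⟨a, ha, b, hb, hab⟩ := cpair.exists_not_commute
  simp only [cond_false, cond_true] at ha hb
  have haT : a ∈ T := modZ_le_T t.pos t.norm ha
  have hbT : b ∈ T := modZ_le_T t.pos' t.norm' hb
  have h1 : ⁅a, b⁆ = w := (comm_modZ t.pos t.norm t.small hwZ hwW hw1 hbT ha).resolve_left
    fun e => hab (commutatorElement_eq_one_iff_mul_comm.mp e)
  have h2 : ⁅b, a⁆ = w' := (comm_modZ t.pos' t.norm' t.small hw'Z hw'W hw'1 haT hb).resolve_left
    fun e => hab (commutatorElement_eq_one_iff_mul_comm.mp e).symm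
  have hww : w' = w := by rw [← h2, ← commutatorElement_inv, h1, inv_eq_self_of_mem_omega hwZ]
  obtain ⟨c, hc, a', ha', rfl⟩ := mem_modZ ha
  obtain ⟨d, hd, b', hb', rfl⟩ := mem_modZ hb
  refine ⟨w, a', b', hwZ, hwW, hw1, hww, ha', hb', fun hc' => hab ?_⟩
  have hcc : ∀ u ∈ T, Commute c u := fun u hu => (t.pos.omega_central t.norm t.small (hyp_le T K hc) hu).symm
  have hdd : ∀ u ∈ T, Commute d u := fun u hu => (t.pos.omega_central t.norm t.small (hyp_le T _ hd) hu).symm
  exact (hcc _ hbT).mul_left ((hdd _ (wOf_le_T t.pos t.norm ha')).symm.mul_right hc')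

end Twin

end CfsgLib.JComp
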