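import Cfsg.Agent.Lib.JComp.Straddle

/-!
A `J(T)`-component lying outside `M` determines the maximal 2-local subgroup containing it:
it is the normaliser of the 2-core of the subgroup generated by the components of `N(W_K)`.
-/

set_option autoImplicit false
set_option maxHeartbeats 800000
open Cfsg CfsgLib.PLocal

attribute [local instance] CfsgLib.CharP.pCore_normal'

namespace CfsgLib.JComp

variable {G : Type*} [Group G] [Finite G]

/-- The subgroup generated by the `J(T)`-components inside `L`. -/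
def componentsIn (T L : Subgroup G) : Subgroup G := sSup {K | IsJComponent T K ∧ K ≤ L}

theorem componentsIn_le (T L : Subgroup G) : componentsIn T L ≤ L := sSup_le fun _ hK => hK.2

theorem componentsIn_congr {T T' L : Subgroup G} (h : thompsonSubgroupOf 2 T = thompsonSubgroupOf 2 T') :
    componentsIn T L = componentsIn T' L := by
  unfold componentsIn
  congr 1
  ext K
  exact ⟨fun hK => ⟨isJComponent_congr h hK.1, hK.2⟩, fun hK => ⟨isJComponent_congr h.symm hK.1, hK.2⟩⟩

/-- A subgroup normalising every component of `L` normalises their join. -/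
theorem le_normalizer_componentsIn {T L X : Subgroup G}
    (h : ∀ K, IsJComponent T K → K ≤ L → X ≤ Subgroup.normalizer (K : Set G)) :
    X ≤ Subgroup.normalizer (componentsIn T L : Set G) := by
  refine le_normalizer_of_conj fun x hx y hy => ?_
  have hle : componentsIn T L ≤ (componentsIn T L).comap (MulAut.conj x).toMonoidHom := by
    refine sSup_le fun K hK k hk => ?_
    rw [Subgroup.mem_comap]
    exact (le_sSup hK : K ≤ componentsIn T L) ((Subgroup.mem_normalizer_iff.mp (h K hK.1 hK.2 hx) k).mp hk)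
  exact hle hy

namespace Ctx

variable {T L : Subgroup G} (c : Ctx T L)

include c

theorem L_le_normalizer_componentsIn : L ≤ Subgroup.normalizer (componentsIn T L : Set G) := by
  intro x hx
  obtain ⟨n, hn, y, hyL, hyJ, rfl⟩ := c.frattini hx
  refine mul_mem (le_normalizer_componentsIn (fun K hK hKL => (c.component_preN hK hKL).2) hn)
    (mem_normalizer_of_map_conj_eq ?_)
  refine eq_of_le_card_le ?_ (le_of_eq (Subgroup.card_map_of_injective (MulAut.conj y).injective).symm)
  rw [Subgroup.map_le_iff_le_comap]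
  refine sSup_le fun K hK => ?_
  rw [← Subgroup.map_le_iff_le_comap]
  refine le_sSup ⟨isJComponent_congr ?_ (isJComponent_map hK.1 (MulAut.conj y)), ?_⟩
  · rw [← thompsonSubgroupOf_map (MulAut.conj y).injective]
    exact map_conj_eq_of_mem_normalizer hyJ
  · rintro _ ⟨k, hk, rfl⟩
    exact L.mul_mem (L.mul_mem hyL (hK.2 hk)) (L.inv_mem hyL)

/-- In a maximal 2-local subgroup containing `K` the components are those of `N(W_K)`. -/
theorem eq_normalizer_core {S : Subgroup G} {K : Subgroup G} (hmax : IsMaximalTwoLocal L)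
    (hJ : thompsonSubgroupOf 2 S = thompsonSubgroupOf 2 T) (hK : IsJComponent T K) (hKL : K ≤ L)
    (hzero : Subgroup.normalizer (K : Set G) = Subgroup.normalizer (wOf K : Set G))
    (cN : Ctx S (Subgroup.normalizer (wOf K : Set G))) :
    L = Subgroup.normalizer
      (pCoreOf 2 (componentsIn T (Subgroup.normalizer (wOf K : Set G))) : Set G) := by
  set N := Subgroup.normalizer (wOf K : Set G)
  have hsub : ∀ K', IsJComponent T K' → K' ≤ L → K' ≤ N := fun K' hK' hK'L =>
    ((c.component_preN hK' hK'L).1.trans (c.component_preN hK hKL).2).trans hzero.le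
  set P := componentsIn T L with hP
  have hLP : L ≤ Subgroup.normalizer (P : Set G) := c.L_le_normalizer_componentsIn
  have hKP : K ≤ P := le_sSup ⟨hK, hKL⟩
  have hPn : P ≤ Subgroup.normalizer (K : Set G) :=
    sSup_le fun K' hK' => ((c.component_preN hK'.1 hK'.2).1.trans (c.component_preN hK hKL).2)
  have hcore : pCoreOf 2 P ≠ ⊥ := by
    intro h
    have h1 : pCoreOf 2 K ≤ pCoreOf 2 P :=
      two_le_pCoreOf (pCoreOf_isPGroup K) ((pCoreOf_le K).trans hKP)
        (hPn.trans (normalizer_le_normalizer_pCoreOf K))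
    exact wOf_ne_bot hK (eq_bot_iff.mpr (((wOf_le_pCoreOf K).trans h1).trans h.le))
  have hNP : Subgroup.normalizer (P : Set G) ≤ Subgroup.normalizer (pCoreOf 2 P : Set G) :=
    normalizer_le_normalizer_pCoreOf P
  have hLeq : Subgroup.normalizer (pCoreOf 2 P : Set G) = L :=
    hmax.2 _ ⟨_, pCoreOf_isPGroup P, hcore, rfl⟩ (hLP.trans hNP)
  -- the components of `N(W_K)` lie in `L`
  have hsup : ∀ K', IsJComponent T K' → K' ≤ N → K' ≤ L := by
    intro K' hK' hK'N
    rw [← hLeq]
    refine le_trans ?_ hNP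
    refine le_normalizer_componentsIn fun K'' hK'' hK''L => ?_
    exact (cN.component_preN (isJComponent_congr hJ.symm hK') hK'N).1.trans
      (cN.component_preN (isJComponent_congr hJ.symm hK'') (hsub K'' hK'' hK''L)).2
  have heq : componentsIn T N = P := by
    refine le_antisymm (sSup_le fun K' hK' => le_sSup ⟨hK'.1, hsup K' hK'.1 hK'.2⟩)
      (sSup_le fun K' hK' => le_sSup ⟨hK'.1, hsub K' hK'.1 hK'.2⟩)
  rw [heq, hLeq]

end Ctx

theorem exists_maximalTwoLocal {N : Subgroup G} (hN : IsTwoLocal N) :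
    ∃ L, IsMaximalTwoLocal L ∧ N ≤ L := by
  obtain ⟨L, hL, hmax⟩ := Set.Finite.exists_maximalFor id {X : Subgroup G | IsTwoLocal X ∧ N ≤ X}
    (Set.toFinite _) ⟨N, hN, le_rfl⟩
  exact ⟨L, ⟨hL.1, fun X hX hLX => le_antisymm (hmax ⟨hX, hL.2.trans hLX⟩ hLX) hLX⟩, hL.2⟩

theorem unique_maximal (hL : IsCharacteristicTwoType G)
    (hN : ∀ N : Subgroup G, IsTwoLocal N → Group.IsSolvable ↥N)
    (hZ : ∀ S : Sylow 2 G, Subgroup.centralizer (omegaCenterOf (S : Subgroup G) : Set G) ≤
      Subgroup.normalizer ((S : Subgroup G) : Set G))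
    {M T K : Subgroup G} (hNJ : Subgroup.normalizer (thompsonSubgroupOf 2 T : Set G) ≤ M)
    (hT : T ∈ maxStraddlingTwoSubgroups M) (hK : K ∈ jComponentsOutside M T) :
    ∃ L : Subgroup G, IsMaximalTwoLocal L ∧ K ⊔ thompsonSubgroupOf 2 T ≤ L ∧
      (∀ L' : Subgroup G, IsMaximalTwoLocal L' → K ⊔ thompsonSubgroupOf 2 T ≤ L' → L' = L) ∧
      (K.subgroupOf L).IsSubnormal ∧ IsSylowTwoIn T L := by
  obtain ⟨hK0, hKM, hcore⟩ := hK
  obtain ⟨hT2, hT1, -, -⟩ := hT.1
  obtain ⟨L, hLmax, hKTL⟩ := exists_maximalTwoLocal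
    (N := Subgroup.normalizer (pCoreOf 2 (K ⊔ T) : Set G)) ⟨_, pCoreOf_isPGroup _, hcore, rfl⟩
  have hKT : K ⊔ T ≤ L :=
    (Subgroup.le_normalizer.trans (normalizer_le_normalizer_pCoreOf _)).trans hKTL
  have hKL : K ≤ L := le_sup_left.trans hKT
  have hTL : T ≤ L := le_sup_right.trans hKT
  have h4 := straddle_overgroup_self hL hNJ hT hLmax.1 (fun h => hKM (hKL.trans h)) hTL
  have c : Ctx T L := ⟨hT2, hT1, h4, hN, hZ⟩
  obtain ⟨S, -, hSJ, -, cN⟩ := exists_zero_ctx hL hN hZ hT2 hK0
  have hzero := zero_normalizer_eq hL hN hZ hT2 hK0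
  refine ⟨L, hLmax, sup_le hKL ((thompsonSubgroupOf_le 2 T).trans hTL), fun L' hL' hKL' => ?_,
    c.component_subnormal hK0.1 hKL, h4.1⟩
  obtain ⟨T', hT', hJT'⟩ := exists_sylowTwoIn (hT2.to_le (thompsonSubgroupOf_le 2 T)) (le_sup_right.trans hKL')
  obtain ⟨hJ', hX, hL1⟩ := straddle_overgroup hL hNJ hT hL'.1 (fun h => hKM ((le_sup_left.trans hKL').trans h)) hT' hJT'
  have c' : Ctx T' L' := ⟨hT'.2.1, hX.2.1, hL1, hN, hZ⟩
  rw [c'.eq_normalizer_core hL' (hSJ.trans hJ') (isJComponent_congr hJ' hK0.1) (le_sup_left.trans hKL') hzero cN,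
    c.eq_normalizer_core hLmax hSJ hK0.1 hKL hzero cN, componentsIn_congr hJ']

end CfsgLib.JComp
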