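import Cfsg.Agent.Lib.JComp.Overgroup
import Cfsg.Agent.Lib.JComp.Conj
import Cfsg.Agent.Lib.JComp.Split

/-!
2-local subgroups as overgroups, and the components in `jComponentsZero`: `N(K) = N(W_K)`.
-/

set_option autoImplicit false
set_option maxHeartbeats 800000
open Cfsg CfsgLib.PLocal
open scoped commutatorElement

attribute [local instance] CfsgLib.CharP.pCore_normal'

namespace CfsgLib.JComp

variable {G : Type*} [Group G] [Finite G]

theorem exists_sylowTwoIn {X L : Subgroup G} (hX : IsPGroup 2 X) (hXL : X ≤ L) :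
    ∃ S, IsSylowTwoIn S L ∧ X ≤ S := by
  haveI : Fact (Nat.Prime 2) := ⟨Nat.prime_two⟩
  have hX' : IsPGroup 2 (X.subgroupOf L) := hX.of_equiv (Subgroup.subgroupOfEquivOfLe hXL).symm
  obtain ⟨P, hP⟩ := hX'.exists_le_sylow
  refine ⟨(P : Subgroup ↥L).map L.subtype, ⟨Subgroup.map_subtype_le _, P.2.map _, ?_⟩, ?_⟩
  · rw [Subgroup.relIndex, Subgroup.subgroupOf, Subgroup.comap_map_eq_self_of_injective L.subtype_injective,
      Nat.odd_iff, ← Nat.two_dvd_ne_zero]
    exact P.not_dvd_index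
  · rw [← Subgroup.map_subgroupOf_eq_of_le hXL]
    exact Subgroup.map_mono hP

theorem two_le_pCoreOf {X L : Subgroup G} (hX : IsPGroup 2 X) (hXL : X ≤ L)
    (hn : L ≤ Subgroup.normalizer (X : Set G)) : X ≤ pCoreOf 2 L :=
  CfsgLib.CharP.subgroup_le_pCore_map hXL hn hX

theorem twoLocal_charTwo (hL : IsCharacteristicTwoType G) {N : Subgroup G} (hN : IsTwoLocal N) :
    Subgroup.centralizer (pCoreOf 2 N : Set G) ≤ pCoreOf 2 N := by
  obtain ⟨Q, hQ, hQ1, rfl⟩ := hN
  set N := Subgroup.normalizer (Q : Set G) with hNdef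
  have hQP : Q ≤ pCoreOf 2 N := two_le_pCoreOf hQ Subgroup.le_normalizer le_rfl
  intro x hx
  have hxQ : x ∈ Subgroup.centralizer (Q : Set G) :=
    Subgroup.centralizer_le (show (Q : Set G) ⊆ pCoreOf 2 N from hQP) hx
  have hxN : x ∈ N := Subgroup.centralizer_le_normalizer _ hxQ
  refine ⟨⟨x, hxN⟩, hL.2 Q hQ hQ1 ?_, rfl⟩
  rw [Subgroup.mem_centralizer_iff]
  intro y hy
  exact Subtype.ext (Subgroup.mem_centralizer_iff.mp hx y ⟨y, hy, rfl⟩)

theorem thompson_ne_bot_of_component {T K : Subgroup G} (hK : IsJComponent T K) :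
    thompsonSubgroupOf 2 T ≠ ⊥ := by
  intro h
  have h1 := hK.2.1
  rw [h, Subgroup.commutator_bot_right] at h1
  have h3 := hK.2.2.1
  rw [← h1] at h3
  simp at h3

/-- An overgroup containing a component and normalised suitably has `J` outside its core. -/
theorem thompson_not_le_core {T K L : Subgroup G} (hK : IsJComponent T K) (hKL : K ≤ L) :
    ¬ thompsonSubgroupOf 2 T ≤ pCoreOf 2 L := by
  intro h
  have hle : K ≤ pCoreOf 2 L := by
    rw [← hK.2.1]
    refine (Subgroup.commutator_mono hKL h).trans ?_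
    exact Subgroup.le_normalizer_iff_commutator_le_right.mp
      (Subgroup.le_normalizer.trans (normalizer_le_normalizer_pCoreOf L))
  obtain ⟨ρ, hρK, -, hρ, -⟩ := exists_rho hK
  exact hρ (mem_pCoreOf_of_two_group hK ((pCoreOf_isPGroup L).to_le hle) le_rfl hρK)

theorem wOf_isPGroup (K : Subgroup G) : IsPGroup 2 (wOf K) :=
  (pCoreOf_isPGroup K).to_le (wOf_le_pCoreOf K)

theorem wOf_ne_bot {T K : Subgroup G} (hK : IsJComponent T K) : wOf K ≠ ⊥ := by
  intro h
  have := hK.2.2.2.2.1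
  rw [h, Subgroup.card_bot] at this
  omega

theorem normalizer_wOf_twoLocal {T K : Subgroup G} (hK : IsJComponent T K) :
    IsTwoLocal (Subgroup.normalizer (wOf K : Set G)) :=
  ⟨wOf K, wOf_isPGroup K, wOf_ne_bot hK, rfl⟩

/-- A Sylow subgroup with the same Thompson subgroup turns a 2-local into an overgroup. -/
theorem ctx_of_component (hL : IsCharacteristicTwoType G)
    (hN : ∀ N : Subgroup G, IsTwoLocal N → Group.IsSolvable ↥N)
    (hZ : ∀ S : Sylow 2 G, Subgroup.centralizer (omegaCenterOf (S : Subgroup G) : Set G) ≤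
      Subgroup.normalizer ((S : Subgroup G) : Set G))
    {T K L S : Subgroup G} (hK : IsJComponent T K) (hKL : K ≤ L) (hL2 : IsTwoLocal L)
    (hS : IsSylowTwoIn S L) (hJ : thompsonSubgroupOf 2 S = thompsonSubgroupOf 2 T) : Ctx S L := by
  refine ⟨hS.2.1, ?_, ⟨hS, ?_, twoLocal_charTwo hL hL2⟩, hN, hZ⟩
  · intro h
    apply thompson_ne_bot_of_component hK
    rw [← hJ, eq_bot_iff, ← h]
    exact thompsonSubgroupOf_le 2 S
  · rw [hJ]
    exact thompson_not_le_core hK hKL

theorem le_normalizer_wOf {T K : Subgroup G} (hK : IsJComponent T K) :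
    K ⊔ thompsonSubgroupOf 2 T ≤ Subgroup.normalizer (wOf K : Set G) :=
  sup_le_normalizer_wOf hK

theorem exists_zero_ctx (hL : IsCharacteristicTwoType G)
    (hN : ∀ N : Subgroup G, IsTwoLocal N → Group.IsSolvable ↥N)
    (hZ : ∀ S : Sylow 2 G, Subgroup.centralizer (omegaCenterOf (S : Subgroup G) : Set G) ≤
      Subgroup.normalizer ((S : Subgroup G) : Set G))
    {T K : Subgroup G} (hT : IsPGroup 2 T) (hK : K ∈ jComponentsZero T) :
    ∃ S, thompsonSubgroupOf 2 T ≤ S ∧ thompsonSubgroupOf 2 S = thompsonSubgroupOf 2 T ∧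
      IsJComponent S K ∧ Ctx S (Subgroup.normalizer (wOf K : Set G)) := by
  obtain ⟨S, hS, hJS⟩ := exists_sylowTwoIn (hT.to_le (thompsonSubgroupOf_le 2 T))
    (le_sup_right.trans (le_normalizer_wOf hK.1))
  have hJ := hK.2 S hJS hS
  exact ⟨S, hJS, hJ, isJComponent_congr hJ.symm hK.1,
    ctx_of_component hL hN hZ hK.1 (le_sup_left.trans (le_normalizer_wOf hK.1))
      (normalizer_wOf_twoLocal hK.1) hS hJ⟩

theorem zero_normalizer_eq (hL : IsCharacteristicTwoType G)
    (hN : ∀ N : Subgroup G, IsTwoLocal N → Group.IsSolvable ↥N)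
    (hZ : ∀ S : Sylow 2 G, Subgroup.centralizer (omegaCenterOf (S : Subgroup G) : Set G) ≤
      Subgroup.normalizer ((S : Subgroup G) : Set G))
    {T K : Subgroup G} (hT : IsPGroup 2 T) (hK : K ∈ jComponentsZero T) :
    Subgroup.normalizer (K : Set G) = Subgroup.normalizer (wOf K : Set G) := by
  refine le_antisymm (normalizer_le_normalizer_wOf K) fun x hx => ?_
  obtain ⟨S, -, hJ, hKS, c⟩ := exists_zero_ctx hL hN hZ hT hK
  have hKL := le_sup_left.trans (le_normalizer_wOf hK.1)
  obtain ⟨-, hpre⟩ := c.component_preN hKS hKL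
  obtain ⟨n, hn, y, hyL, hyJ, rfl⟩ := c.frattini hx
  refine mul_mem (hpre hn) (mem_normalizer_of_map_conj_eq ?_)
  have hy : IsJComponent S (K.map (MulAut.conj y).toMonoidHom) := by
    refine isJComponent_congr ?_ (isJComponent_map hKS (MulAut.conj y))
    rw [← thompsonSubgroupOf_map (MulAut.conj y).injective]
    exact map_conj_eq_of_mem_normalizer hyJ
  refine c.component_unique hy ?_ hKS hKL ?_
  · rintro _ ⟨k, hk, rfl⟩
    exact (Subgroup.normalizer (wOf K : Set G)).mul_mem
      ((Subgroup.normalizer (wOf K : Set G)).mul_mem hyL (hKL hk)) ((Subgroup.normalizer (wOf K : Set G)).inv_mem hyL)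
  · rw [← wOf_map, map_conj_eq_of_mem_normalizer hyL, inf_idem]
    exact wOf_ne_bot hK.1

/-- A conjugate of `J(T)` inside `N(W_K)` is conjugate to `J(T)` by an element of `N(K)`. -/
theorem zero_conj (hL : IsCharacteristicTwoType G)
    (hN : ∀ N : Subgroup G, IsTwoLocal N → Group.IsSolvable ↥N)
    (hZ : ∀ S : Sylow 2 G, Subgroup.centralizer (omegaCenterOf (S : Subgroup G) : Set G) ≤
      Subgroup.normalizer ((S : Subgroup G) : Set G))
    {T K : Subgroup G} (hT : IsPGroup 2 T) (hK : K ∈ jComponentsZero T) (g : G)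
    (hg : thompsonSubgroupOf 2 (T.map (MulAut.conj g).toMonoidHom) ≤ Subgroup.normalizer (wOf K : Set G)) :
    ∃ x ∈ Subgroup.normalizer (K : Set G),
      (thompsonSubgroupOf 2 T).map (MulAut.conj x).toMonoidHom =
        thompsonSubgroupOf 2 (T.map (MulAut.conj g).toMonoidHom) := by
  obtain ⟨S, -, hJ, -, c⟩ := exists_zero_ctx hL hN hZ hT hK
  set J' := thompsonSubgroupOf 2 (T.map (MulAut.conj g).toMonoidHom) with hJ'
  obtain ⟨y, hy, hyS⟩ := c.exists_conj_le ((hT.map _).to_le (thompsonSubgroupOf_le 2 _)) hg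
  have hmax := maxEAIn_eq_of_thompson_eq hJ
  have hsub : J'.map (MulAut.conj y).toMonoidHom ≤ thompsonSubgroupOf 2 T := by
    rw [hJ', thompsonSubgroupOf_eq, Subgroup.map_le_iff_le_comap]
    refine sSup_le fun A hA => ?_
    rw [← Subgroup.map_le_iff_le_comap, ← hJ, thompsonSubgroupOf_eq]
    have hA' := hA
    rw [maxEAIn_map (MulAut.conj g).injective] at hA'
    obtain ⟨B, hB, hBA⟩ := hA'
    have hle : A.map (MulAut.conj y).toMonoidHom ≤ S := by
      rintro _ ⟨a, ha, rfl⟩
      exact hyS a (by rw [thompsonSubgroupOf_eq]; exact (le_sSup hA : A ≤ _) ha)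
    refine le_sSup ⟨hle, CfsgLib.PLocal.isEA_map hA.2.1 _, fun C hC hCe => ?_⟩
    rw [Subgroup.card_map_of_injective (MulAut.conj y).injective, ← hBA,
      Subgroup.card_map_of_injective (MulAut.conj g).injective]
    obtain ⟨D, hD⟩ := exists_maxEAIn (G := G) 2 S
    refine (hD.2.2 C hC hCe).trans ?_
    rw [hmax] at hD
    exact hB.2.2 D hD.1 hD.2.1
  have heq : J'.map (MulAut.conj y).toMonoidHom = thompsonSubgroupOf 2 T := by
    refine eq_of_le_card_le hsub ?_
    rw [Subgroup.card_map_of_injective (MulAut.conj y).injective, hJ', ← thompsonSubgroupOf_map (MulAut.conj g).injective,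
      Subgroup.card_map_of_injective (MulAut.conj g).injective]
  refine ⟨y⁻¹, ?_, ?_⟩
  · rw [zero_normalizer_eq hL hN hZ hT hK]
    exact inv_mem hy
  · rw [← heq, Subgroup.map_map]
    ext z
    simp [Subgroup.mem_map, MulAut.conj_apply, mul_assoc]

theorem zero_component_conj (hL : IsCharacteristicTwoType G)
    (hN : ∀ N : Subgroup G, IsTwoLocal N → Group.IsSolvable ↥N)
    (hZ : ∀ S : Sylow 2 G, Subgroup.centralizer (omegaCenterOf (S : Subgroup G) : Set G) ≤
      Subgroup.normalizer ((S : Subgroup G) : Set G))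
    {T K : Subgroup G} (hT : IsPGroup 2 T) (hK : K ∈ jComponentsZero T) (g : G)
    (hg : thompsonSubgroupOf 2 (T.map (MulAut.conj g).toMonoidHom) ≤ Subgroup.normalizer (wOf K : Set G)) :
    IsJComponent (T.map (MulAut.conj g).toMonoidHom) K := by
  obtain ⟨x, hx, hxJ⟩ := zero_conj hL hN hZ hT hK g hg
  have h := isJComponent_map hK.1 (MulAut.conj x)
  rw [map_conj_eq_of_mem_normalizer hx] at h
  refine isJComponent_congr ?_ h
  rw [← thompsonSubgroupOf_map (MulAut.conj x).injective, hxJ]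

end CfsgLib.JComp
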